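import Groth.Prelude.Def_Red2
import Groth.Agent.RootSys.Rank
import Groth.Agent.RootSys.Partition
import Mathlib.GroupTheory.FiniteAbelian.Basic
import Mathlib.LinearAlgebra.Dimension.Torsion.Finite
import Mathlib.LinearAlgebra.Dimension.RankNullity

/-!
# The character lattice of the coradical
-/

set_option autoImplicit false
set_option linter.style.haveILetI false

universe u

open CategoryTheory AlgebraicGeometry

noncomputable section

namespace Groth.Agent.Corad

/-- The characters killed by all coroots. -/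
def latt {ι M N : Type*} [AddCommGroup M] [AddCommGroup N] (P : RootPairing ι ℤ M N) : AddSubgroup M :=
  ⨅ a : ι, (P.coroot' a).toAddMonoidHom.ker

variable {ι M N : Type*} [AddCommGroup M] [AddCommGroup N] {P : RootPairing ι ℤ M N}

theorem mem_latt {m : M} : m ∈ latt P ↔ ∀ a, P.coroot' a m = 0 := by simp [latt, AddSubgroup.mem_iInf]

variable (P) in
/-- The characters killed by all coroots and the roots. -/
def lattSup : AddSubgroup M := latt P ⊔ AddSubgroup.closure (Set.range fun a => P.root a)

theorem eq_zero_of_mem_latt_span [Finite ι] {m : M} (h : m ∈ latt P)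
    (h' : m ∈ AddSubgroup.closure (Set.range fun a => P.root a)) : m = 0 := by
  refine RootSys.eq_zero_of_coroot'_eq_zero (P := P) ?_ (mem_latt.1 h)
  show m ∈ Submodule.span ℤ (Set.range P.root)
  rwa [← Submodule.mem_toAddSubgroup, Submodule.span_int_eq_addSubgroupClosure]

theorem finite_quot_lattSup [Finite ι] [Module.Finite ℤ M] : Finite (M ⧸ lattSup P) := by
  haveI : Module.IsReflexive ℤ M := .of_isPerfPair P.toLinearMap
  haveI : Module.Free ℤ M := Module.free_of_finite_type_torsion_free'
  let L : Submodule ℤ M := ⨅ i : ι, LinearMap.ker (P.coroot' i)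
  let R : Submodule ℤ M := Submodule.span ℤ (Set.range P.root)
  have hd : L ⊓ R = ⊥ := le_bot_iff.1 fun x ⟨hx, hx'⟩ => (Submodule.mem_bot ℤ).2 (by
    refine RootSys.eq_zero_of_coroot'_eq_zero (P := P) hx' fun a => ?_
    exact LinearMap.mem_ker.1 ((Submodule.mem_iInf _).1 hx a))
  haveI : Module.Finite ℤ L := Module.Finite.of_fg (IsNoetherian.noetherian L)
  haveI : Module.Finite ℤ R := Module.Finite.of_fg (IsNoetherian.noetherian R)
  have hsum : Module.finrank ℤ ↥(L ⊔ R) = Module.finrank ℤ M := by
    let g : (L × R) →ₗ[ℤ] M := L.subtype.coprod R.subtype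
    have hg : Function.Injective g := LinearMap.ker_eq_bot.1 ((Submodule.eq_bot_iff _).2 fun x hx => by
      have h : (x.1 : M) + x.2 = 0 := LinearMap.mem_ker.1 hx
      have h1 : (x.1 : M) ∈ L ⊓ R := ⟨x.1.2, by rw [eq_neg_of_add_eq_zero_left h]; exact neg_mem x.2.2⟩
      rw [hd, Submodule.mem_bot] at h1
      rw [h1, zero_add] at h
      exact Prod.ext (Subtype.ext h1) (Subtype.ext h))
    have hrange : LinearMap.range g = L ⊔ R := by
      simp only [g, LinearMap.range_coprod, Submodule.range_subtype]
    rw [← (LinearEquiv.ofEq _ _ hrange).finrank_eq, ← (LinearEquiv.ofInjective g hg).finrank_eq,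
      Module.finrank_prod, RootSys.finrank_ker_add (P := P)]
  have h0 : Module.finrank ℤ (M ⧸ (L ⊔ R)) = 0 := by
    have := Submodule.finrank_quotient_add_finrank (L ⊔ R)
    omega
  haveI := Module.finite_of_fg_torsion (M ⧸ (L ⊔ R)) (Module.finrank_eq_zero_iff_isTorsion.1 h0)
  refine Finite.of_surjective (α := M ⧸ (L ⊔ R)) (Quotient.lift (fun m : M => (QuotientAddGroup.mk m : M ⧸ lattSup P))
    fun a b hab => (QuotientAddGroup.eq).2 ?_) (fun q => ?_)
  · have h : a - b ∈ L ⊔ R := (Submodule.quotientRel_def _).1 hab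
    obtain ⟨x, hx, y, hy, hxy⟩ := Submodule.mem_sup.1 h
    have e : -a + b = -x + -y := by rw [← neg_add, hxy]; abel
    rw [e]
    refine AddSubgroup.add_mem _ (AddSubgroup.mem_sup_left (neg_mem ?_)) (AddSubgroup.mem_sup_right (neg_mem ?_))
    · exact mem_latt.2 fun a => LinearMap.mem_ker.1 ((Submodule.mem_iInf _).1 hx a)
    · rwa [← Submodule.span_int_eq_addSubgroupClosure]
  · obtain ⟨m, rfl⟩ := QuotientAddGroup.mk_surjective q
    exact ⟨Submodule.Quotient.mk m, rfl⟩

/-- The characters killed by the coroots of a split group. -/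
abbrev coradLattice {S : Scheme.{u}} {G : Over S} [GrpObj G] (D : Red.SplitRed G) : AddSubgroup D.M :=
  latt D.P

end Groth.Agent.Corad
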