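import Groth.Agent.Corad.Tori

/-!
# Subgroups containing the derived group
-/

set_option autoImplicit false
set_option backward.isDefEq.respectTransparency false
set_option linter.style.haveILetI false
set_option linter.unusedSectionVars false
set_option maxHeartbeats 1000000
set_option synthInstance.maxHeartbeats 400000

universe u

open CategoryTheory Limits MonoidalCategory CartesianMonoidalCategory MonObj GrpObj AlgebraicGeometry
open scoped CategoryTheory.Obj

noncomputable section

namespace Groth.Agent.Corad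

variable {S : Scheme.{u}} {G D H : Over S} [GrpObj G] [GrpObj D] [GrpObj H]

/-- A subgroup is a monomorphism. -/
theorem mono_of_subgrp {k : H ⟶ G} (hH : RedSub.IsSubgrp k) : Mono k := by
  haveI := hH.2
  exact Over.mono_of_mono_left k

/-- The multiplication from the intersection with a subgroup is a base change. -/
theorem isPullback_sub {R R' : Over S} [GrpObj R] [GrpObj R'] (d : D ⟶ G) (k : H ⟶ G) [IsMonHom k] [Mono k]
    (e : D ⟶ H) (he : e ≫ k = d) (rj : R ⟶ G) (a : R' ⟶ R) (b : R' ⟶ H) (hsq : IsPullback a b rj k) :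
    IsPullback ((b ⊗ₘ e) ≫ μ[H]) (a ⊗ₘ 𝟙 D) k ((rj ⊗ₘ d) ≫ μ[G]) := by
  rw [mul_eq, mul_eq]
  have hw : (fst R' D ≫ b * (snd R' D ≫ e)) ≫ k = (a ⊗ₘ 𝟙 D) ≫ (fst R D ≫ rj * (snd R D ≫ d)) := by
    simp only [MonObj.mul_comp, MonObj.comp_mul, Category.assoc, he, tensorHom_fst_assoc, tensorHom_snd_assoc,
      Category.id_comp, ← hsq.w]
  have hex : ∀ t : PullbackCone k (fst R D ≫ rj * (snd R D ≫ d)),
      (t.snd ≫ fst R D) ≫ rj = (t.fst * ((t.snd ≫ snd R D) ≫ e)⁻¹) ≫ k := fun t => by
    rw [MonObj.mul_comp, GrpObj.inv_comp, t.condition, MonObj.comp_mul]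
    simp only [Category.assoc, he, mul_inv_cancel_right]
  refine ⟨⟨hw⟩, ⟨PullbackCone.IsLimit.mk _ (fun t => lift (hsq.lift _ _ (hex t)) (t.snd ≫ snd R D))
    (fun t => ?_) (fun t => ?_) fun t g hg1 hg2 => ?_⟩⟩
  · rw [MonObj.comp_mul, lift_fst_assoc, lift_snd_assoc, hsq.lift_snd, inv_mul_cancel_right]
  · apply CartesianMonoidalCategory.hom_ext
    · rw [Category.assoc, tensorHom_fst, lift_fst_assoc, hsq.lift_fst]
    · rw [Category.assoc, tensorHom_snd, Category.comp_id, lift_snd]
  · have h2 : g ≫ snd R' D = t.snd ≫ snd R D := by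
      rw [← hg2, Category.assoc, tensorHom_snd, Category.comp_id]
    apply CartesianMonoidalCategory.hom_ext
    · rw [lift_fst]
      refine hsq.hom_ext ?_ ?_
      · rw [hsq.lift_fst, ← hg2, Category.assoc, Category.assoc, tensorHom_fst]
      · rw [hsq.lift_snd, ← hg1, MonObj.comp_mul, ← h2]
        simp only [Category.assoc, mul_inv_cancel_right]
    · rw [lift_snd, h2]

theorem surjective_sub {R R' : Over S} [GrpObj R] [GrpObj R'] (d : D ⟶ G) (k : H ⟶ G) (hH : RedSub.IsSubgrp k)
    (e : D ⟶ H) (he : e ≫ k = d) (rj : R ⟶ G) (a : R' ⟶ R) (b : R' ⟶ H) (hsq : IsPullback a b rj k)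
    (h : Surjective ((rj ⊗ₘ d) ≫ μ[G]).left) : Surjective ((b ⊗ₘ e) ≫ μ[H]).left := by
  haveI := hH.1; haveI := mono_of_subgrp hH
  exact MorphismProperty.of_isPullback ((isPullback_sub d k e he rj a b hsq).map (Over.forget S)).flip h

variable {C : Over S} [GrpObj C] {d : D ⟶ G} {f₀ : G ⟶ C}

/-- A maximal torus maps onto the coradical. -/
theorem surjective_torus (hG : Red.IsReductive G) (h : IsCorad d f₀) {T : Over S} [GrpObj T] (i : T ⟶ G)
    (hT : Red.IsMaximalTorus i) : Surjective (i ≫ f₀).left := by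
  obtain ⟨Z, _, j, hZ, -, -⟩ := RedCartan.exists_centre_of_isReductive hG
  obtain ⟨z, hz⟩ := ((RedCartan.centralizer_self_of_isReductive hG i hT).2.2 Z j).2 fun X x t => by
    have := (hZ.2.2 X (x ≫ j)).1 ⟨x, rfl⟩ X (𝟙 X) (t ≫ i)
    rwa [Category.id_comp, Category.comp_id] at this
  haveI := surjective_centre hG h j hZ
  haveI : Surjective (z.left ≫ (i ≫ f₀).left) := by
    rw [← Over.comp_left, reassoc_of% hz]; infer_instance
  exact Surjective.of_comp z.left _

/-- A maximal torus and the derived group generate the group. -/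
theorem surjective_torus_mul (hG : Red.IsReductive G) (h : IsCorad d f₀) {T : Over S} [GrpObj T] (i : T ⟶ G)
    (hT : Red.IsMaximalTorus i) : Surjective ((i ⊗ₘ d) ≫ μ[G]).left := by
  haveI := h.hf; haveI := hT.1
  exact MorphismProperty.of_isPullback ((isPullback_mul d f₀ h.ker i).map (Over.forget S)).flip
    (surjective_torus hG h i hT)

/-- A semisimple group is killed by commutative groups. -/
theorem killed_self_of_isCorad (hG : Red.IsReductive G) (h : IsCorad d f₀) {A : Over S} [GrpObj A] (w : D ⟶ A)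
    [IsMonHom w] (hA : ∀ (X : Over S) (a b : X ⟶ A), a * b = b * a) : w = 1 := by
  haveI := h.smoothD; haveI := h.hd
  have hD := isSemisimple_derived hG h
  obtain ⟨C', _, f', D', _, d', h'⟩ := exists_isCorad (⟨hD.1, hD.2.1, fun s => (hD.2.2 s).1⟩ : Red.IsReductive D)
  haveI := h'.smoothD; haveI := h'.hd
  haveI : IsIso d' := isIso_of_geom d' fun s => isIso_geom_of_semisimple hD h' s
  rw [← cancel_epi d', h'.killed A w hA, MonObj.comp_one]

end Groth.Agent.Corad
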