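import Groth.Agent.Corad.TorusSub
import Groth.Agent.Corad.Subgrp
import Groth.Agent.S0115

/-!
# Maximal tori of subgroups containing the derived group
-/

set_option autoImplicit false
set_option backward.isDefEq.respectTransparency false
set_option linter.style.haveILetI false
set_option linter.unusedSectionVars false
set_option maxHeartbeats 1000000
set_option synthInstance.maxHeartbeats 400000

universe u

open CategoryTheory Limits MonoidalCategory CartesianMonoidalCategory MonObj GrpObj AlgebraicGeometry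
open scoped CategoryTheory.Obj

noncomputable section

namespace Groth.Agent.Corad

open Groth.Agent.MTBridge

variable {S : Scheme.{u}} {G D C H : Over S} [GrpObj G] [GrpObj D] [GrpObj C] [GrpObj H] {d : D ⟶ G} {f₀ : G ⟶ C}

/-- A pullback of homomorphisms is a group. -/
theorem exists_grp_pullback {A B Q : Over S} [GrpObj A] [GrpObj B] [GrpObj Q] (u : A ⟶ Q) [IsMonHom u] (v : B ⟶ Q)
    [IsMonHom v] :
    ∃ (P : Over S) (_ : GrpObj P) (p : P ⟶ A) (q : P ⟶ B), IsMonHom p ∧ IsMonHom q ∧ IsPullback p q u v := by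
  let P : Over S := pullback u v
  let e : P ⟶ A ⊗ B := lift (pullback.fst u v) (pullback.snd u v)
  haveI : Mono e := ⟨fun a b h => by
    apply pullback.hom_ext
    · simpa [e] using congrArg (· ≫ fst A B) h
    · simpa [e] using congrArg (· ≫ snd A B) h⟩
  have hsq : IsPullback (pullback.fst u v) (pullback.snd u v) u v := IsPullback.of_hasPullback u v
  have h1 : ∀ {X : Over S}, (1 : X ⟶ A ⊗ B) = lift 1 1 := fun {X} => by
    apply CartesianMonoidalCategory.hom_ext <;> simp [MonObj.one_comp]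
  obtain ⟨gP, hem⟩ := SubGen.Spread.exists_grpObj_of_div e
    ⟨hsq.lift η[A] η[B] ((IsMonHom.one_hom (f := u)).trans (IsMonHom.one_hom (f := v)).symm), by
      apply CartesianMonoidalCategory.hom_ext
      · simp [e]
      · simp [e]⟩
    ⟨hsq.lift ((fst P P ≫ pullback.fst u v)⁻¹ * (snd P P ≫ pullback.fst u v))
      ((fst P P ≫ pullback.snd u v)⁻¹ * (snd P P ≫ pullback.snd u v)) (by
      simp only [MonObj.mul_comp, GrpObj.inv_comp, Category.assoc, hsq.w]), by
      apply CartesianMonoidalCategory.hom_ext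
      · simp [e, MonObj.mul_comp, GrpObj.inv_comp]
      · simp [e, MonObj.mul_comp, GrpObj.inv_comp]⟩
  haveI := hem
  exact ⟨P, gP, pullback.fst u v, pullback.snd u v,
    by rw [show pullback.fst u v = e ≫ fst A B by simp [e]]; infer_instance,
    by rw [show pullback.snd u v = e ≫ snd A B by simp [e]]; infer_instance, hsq⟩

/-- The restriction to a torus of the projection to the coradical is smooth, surjective, with torus kernel. -/
def ToCorad (f₀ : G ⟶ C) {T : Over S} [GrpObj T] (i : T ⟶ G) : Prop :=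
  Smooth (i ≫ f₀).left ∧ Surjective (i ≫ f₀).left ∧ ∃ (K : Over S) (_ : GrpObj K) (j : K ⟶ T), IsMonHom j ∧
      Red.IsTorus K ∧ AlgGrp.IsKernel j (i ≫ f₀)

/-- The restriction to a torus of the projection, from surjectivity and a torus intersection. -/
theorem toCorad_of [IsMonHom f₀] (hdk : AlgGrp.IsKernel d f₀) [Smooth C.hom] [IsAffineHom C.hom] {T K : Over S}
    [GrpObj T] [GrpObj K] (i : T ⟶ G) [IsMonHom i] (hT : Red.IsTorus T) [Surjective (i ≫ f₀).left] (j : K ⟶ T)
    [hj : IsMonHom j] (b : K ⟶ D) (hsq : IsPullback j b i d) (hK : Red.IsTorus K) : ToCorad f₀ i := by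
  haveI : Smooth T.hom := MTImage.smooth_torus hT
  haveI : IsAffineHom T.hom := MTBridge.isAffineHom _ (MTBridge.isMultTypeFT_of_isTorus _ hT)
  obtain ⟨hdm, hdp⟩ := kernel_pts hdk
  haveI := hdm
  haveI : Smooth K.hom := MTImage.smooth_torus hK
  haveI : Flat (i ≫ f₀).left := MTImage.flat_hom (i ≫ f₀)
  haveI : LocallyOfFinitePresentation ((i ≫ f₀).left ≫ C.hom) := by rw [Over.w]; infer_instance
  haveI : LocallyOfFinitePresentation (i ≫ f₀).left := LimDesc.lfp_of_comp _ C.hom
  have hker : AlgGrp.IsKernel j (i ≫ f₀) := by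
    have hex : ∀ t : PullbackCone (i ≫ f₀) η[C], ∃ z : t.pt ⟶ D, z ≫ d = t.fst ≫ i := fun t => (hdp _).2 (by
      rw [Category.assoc, t.condition, toUnit_unique t.snd (toUnit _)]; rfl)
    choose z hz using hex
    refine ⟨⟨?_⟩, ⟨PullbackCone.IsLimit.mk _ (fun t => hsq.lift t.fst (z t) (hz t).symm) (fun t => hsq.lift_fst _ _ _)
      (fun t => toUnit_unique _ _) fun t g hg1 _ => ?_⟩⟩
    · rw [← Category.assoc j, hsq.w, Category.assoc, hdk.w, ← Category.assoc, toUnit_unique (b ≫ toUnit D) (toUnit K)]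
    · haveI : Mono j := PullbackCone.mono_fst_of_is_pullback_of_mono hsq.isLimit
      rw [← cancel_mono j, hsq.lift_fst, hg1]
  haveI : Smooth (fst T K).left := inferInstanceAs (Smooth (pullback.fst T.hom K.hom))
  have sq := (isPullback_mul j (i ≫ f₀) hker (𝟙 T)).map (Over.forget S)
  rw [Category.id_comp] at sq
  have hcov : CoverMap.Covers (i ≫ f₀).left := ⟨_, (i ≫ f₀).left, 𝟙 _,
    Scheme.fppfPrecoverage_le_fpqcPrecoverage _ ((i ≫ f₀).left.singleton_mem_fppfPrecoverage), Category.id_comp _⟩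
  exact ⟨hcov.descend @Smooth sq (inferInstanceAs (Smooth (fst T K).left)), inferInstance, K, inferInstance, j, hj, hK, hker⟩


/-- The restriction to a maximal torus of the projection to the coradical is smooth with torus kernel. -/
theorem torus_to_corad (hG : Red.IsReductive G) (h : IsCorad d f₀) {T : Over S} [GrpObj T] (i : T ⟶ G)
    (hT : Red.IsMaximalTorus i) : ToCorad f₀ i := by
  haveI := h.hd; haveI := h.hf; haveI := hT.1; haveI := h.affine
  haveI : Smooth C.hom := MTImage.smooth_torus h.torus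
  obtain ⟨K, gK, j, b, hj, hb, hsq⟩ := exists_grp_pullback i d
  haveI := hj
  haveI := surjective_torus hG h i hT
  exact toCorad_of h.ker i hT.2.2.1 j b hsq (isTorus_inter hG h i hT j b hsq)

/-- The restriction to the torus of a splitting of the projection to the coradical. -/
theorem toCorad_split (w : WC d f₀) (hdk : AlgGrp.IsKernel d f₀) [Smooth C.hom] [IsAffineHom C.hom]
    (E : Red.SplitRed G) (m : Red.DS S ↥(coradLattice E) ⟶ C) [IsMonHom m] [IsIso m]
    (hm : (E.split.inv.hom.hom ≫ E.i) ≫ f₀ = Red.DSmap S (coradLattice E).subtype ≫ m) :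
    letI := E.grpT; ToCorad f₀ E.i := by
  letI := E.acgM; letI := E.grpT; haveI := E.finiteM; haveI := E.freeM
  haveI := w.hf; haveI := E.maximalTorus.1
  obtain ⟨T₀, g₀, a₀, b₀, r, ha₀, hb₀, hsq₀, hε⟩ := exists_split_inter E m hm w
  haveI := ha₀
  haveI : AddGroup.FG E.M := Module.Finite.iff_addGroup_fg.1 inferInstance
  haveI : AddGroup.FG ↥(coradLattice E) := Module.Finite.iff_addGroup_fg.1
    (inferInstanceAs (Module.Finite ℤ ↥(AddSubgroup.toIntSubmodule (coradLattice E))))
  haveI : IsIso E.split.inv.hom.hom := ((Grp.forget _).mapIso E.split).isIso_inv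
  haveI : IsIso E.split.inv.hom.hom.left := inferInstanceAs (IsIso ((Over.forget _).map E.split.inv.hom.hom))
  haveI : IsIso m.left := inferInstanceAs (IsIso ((Over.forget _).map m))
  haveI := (MTQuot.covers_DSmap (S := S) (coradLattice E).subtype Subtype.val_injective).surjective
  haveI : Surjective (E.i ≫ f₀).left := by
    have : Surjective ((E.split.inv.hom.hom.left) ≫ (E.i ≫ f₀).left) := by
      rw [← Over.comp_left, ← Category.assoc, hm, Over.comp_left]; infer_instance
    exact Surjective.of_comp E.split.inv.hom.hom.left _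
  exact toCorad_of hdk E.i E.maximalTorus.2.2.1 a₀ b₀ hsq₀ (isTorus_of_split hε)

/-- The intersection of a maximal torus with a smooth subgroup containing the derived group. -/
theorem smooth_connected_inter [IsMonHom f₀] [Smooth D.hom] (hdk : AlgGrp.IsKernel d f₀) (k : H ⟶ G) (hH : RedSub.IsSubgrp k)
    (e : D ⟶ H) (he : e ≫ k = d) [Smooth H.hom] (hconn : RedSub.HasConnectedFibres H) {T T' : Over S}
    [GrpObj T] [GrpObj T'] (i : T ⟶ G) [IsMonHom i] (hTC : ToCorad f₀ i) (a : T' ⟶ T) (b : T' ⟶ H)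
    (hsq : IsPullback a b i k) : Smooth T'.hom ∧ RedSub.HasConnectedFibres T' := by
  haveI := hH.1; haveI := mono_of_subgrp hH
  obtain ⟨hsm, hsu, K, _, j, hj, hK, hker⟩ := hTC
  haveI := hsm; haveI := hsu
  have sq := (isPullback_sub d k e he i a b hsq).paste_vert (isPullback_mul d f₀ hdk i)
  let m := (b ⊗ₘ e) ≫ μ[H]
  haveI : Smooth m.left := MorphismProperty.of_isPullback (sq.map (Over.forget S)).flip hsm
  haveI : Smooth (T' ⊗ D).hom := by rw [← Over.w m]; infer_instance
  haveI : Smooth (fst T' D).left := inferInstanceAs (Smooth (pullback.fst T'.hom D.hom))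
  haveI : Surjective D.hom := ⟨fun s => ⟨(η[D]).left s, congrArg (fun z : S ⟶ S => z s) (Over.w η[D])⟩⟩
  haveI : Surjective (fst T' D).left := inferInstanceAs (Surjective (pullback.fst T'.hom D.hom))
  haveI : Flat (fst T' D).left := inferInstance
  haveI : LocallyOfFinitePresentation (fst T' D).left := inferInstance
  haveI : Smooth ((fst T' D).left ≫ T'.hom) := by rw [Over.w]; infer_instance
  refine ⟨Groth.Agent.S0115.result (fst T' D).left T'.hom, ?_⟩
  obtain ⟨P, _, p, q, hp, hq, hPsq⟩ := exists_grp_pullback (k ≫ f₀) (i ≫ f₀)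
  haveI := hp; haveI := hq; haveI := hj
  haveI : Smooth p.left := MorphismProperty.of_isPullback (hPsq.map (Over.forget S)).flip hsm
  haveI : Surjective p.left := MorphismProperty.of_isPullback (hPsq.map (Over.forget S)).flip hsu
  haveI : Smooth K.hom := MTImage.smooth_torus hK
  obtain ⟨hjm, hjp⟩ := kernel_pts hker
  let jP : K ⟶ P := hPsq.lift 1 j (by rw [MonObj.one_comp]; exact ((hjp j).1 ⟨𝟙 K, Category.id_comp j⟩).symm)
  haveI : IsMonHom jP := MTBridge.isMonHom_of_points jP fun X x y => by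
    refine hPsq.hom_ext ?_ ?_ <;>
      simp [jP, MonObj.mul_comp, MonObj.comp_one]
  have hPc : RedSub.HasConnectedFibres P := by
    refine hasConnectedFibres_of_ext p jP (fun {X} x hx => ?_) (hPsq.lift_fst _ _ _)
      (MTImage.isConnected_fibre_torus hK) hconn
    obtain ⟨z, hz⟩ := (hjp (x ≫ q)).2 (by rw [Category.assoc, ← hPsq.w, ← Category.assoc, hx, MonObj.one_comp])
    refine ⟨z, hPsq.hom_ext ?_ ?_⟩
    · rw [Category.assoc, hPsq.lift_fst, MonObj.comp_one, hx]
    · rw [Category.assoc, hPsq.lift_snd, hz]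
  intro s
  let φ : P ⟶ T' := (hPsq.isoIsPullback _ _ sq).hom ≫ fst T' D
  haveI : Surjective φ.left := by
    rw [Over.comp_left]
    haveI : IsIso (hPsq.isoIsPullback _ _ sq).hom.left :=
      ((Over.forget _).mapIso (hPsq.isoIsPullback _ _ sq)).isIso_hom
    infer_instance
  have e' : φ.left '' (P.hom.base ⁻¹' {s}) = T'.hom.base ⁻¹' {s} := by
    rw [show (P.hom.base ⁻¹' {s} : Set P.left) = φ.left ⁻¹' (T'.hom.base ⁻¹' {s}) from by
      rw [← Over.w φ]; rfl]
    exact Set.image_preimage_eq _ φ.left.surjective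
  rw [← e']
  exact (hPc s).image _ φ.left.continuous.continuousOn

/-- A maximal torus is split etale locally. -/
theorem exists_etale_chart (hG : Red.IsReductive G) (h : IsCorad d f₀) {T : Over S} [GrpObj T] (i : T ⟶ G)
    (hT : Red.IsMaximalTorus i) (s : S) :
    ∃ (V : Scheme.{u}) (π : V ⟶ S) (r : ℕ), Etale π ∧ s ∈ Set.range π ∧
      Red.IsSplitTorusWith (Fin r → ℤ) (Red.bc π T) := by
  haveI := hG.1; haveI := hG.2.1; haveI := hT.1; haveI := hT.2.1
  obtain ⟨U, π, hπ, ⟨u, hu⟩, E, -, -, -, -⟩ := h.loc s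
  haveI := hπ
  letI := E.acgM; letI := E.grpT; haveI := E.finiteM; haveI := E.freeM
  haveI : Smooth (Red.bc π G).hom := inferInstanceAs (Smooth (pullback.snd G.hom π))
  haveI : IsAffineHom (Red.bc π G).hom := MorphismProperty.pullback_snd G.hom π inferInstance
  obtain ⟨V, e, he, hes, g, ⟨φ, hφ⟩⟩ := Groth.Agent.S4116.result U (Red.bc π G) (Red.bc π T) E.T
    ((Over.pullback π).map i) E.i (Chev.MaxTorusBC.isMaximalTorus_bc i hT π) E.maximalTorus
  haveI := he; haveI := hes
  obtain ⟨v, rfl⟩ := Surjective.surj (f := e) u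
  haveI := MTSplit.mono_bc π i; haveI := MTSplit.mono_bc e ((Over.pullback π).map i)
  haveI := E.maximalTorus.1; haveI := E.maximalTorus.2.1; haveI := MTSplit.mono_bc e E.i
  obtain ⟨ε₀⟩ := MTQuot.nonempty_DS_congr (S := U) (Module.finBasis ℤ E.M).equivFun.toAddEquiv.symm
  let ε := E.split ≪≫ ε₀
  obtain ⟨ψ, -⟩ := exists_iso_of_pts ((Over.pullback e).map ((Over.pullback π).map i)) ((Over.pullback e).map E.i)
    (MTImage.inn g) fun x => pts_of_conjBy ⟨φ, hφ⟩ x
  haveI := DynPar.isIso_ej e (Fin (Module.finrank ℤ E.M) → ℤ)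
  haveI : IsMonHom (DynPar.ej e (Fin (Module.finrank ℤ E.M) → ℤ)) := DynPar.isMonHom_ej e
  exact ⟨V, e ≫ π, _, inferInstance, ⟨v, by rw [← hu]; rfl⟩,
    ⟨bcComp π e T ≪≫ ψ ≪≫ bcMapIso e ε ≪≫ (RootBase.grpIso (DynPar.ej e (Fin (Module.finrank ℤ E.M) → ℤ))).symm⟩⟩

/-- The intersection of a maximal torus with a smooth connected subgroup containing the derived group is a torus. -/
theorem isTorus_inter_sub' [IsMonHom f₀] [Smooth D.hom] (hdk : AlgGrp.IsKernel d f₀) (k : H ⟶ G) (hH : RedSub.IsSubgrp k)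
    (e : D ⟶ H) (he : e ≫ k = d) [Smooth H.hom] (hconn : RedSub.HasConnectedFibres H) {T T' : Over S}
    [GrpObj T] [GrpObj T'] (i : T ⟶ G) [IsMonHom i] (hTC : ToCorad f₀ i)
    (hchart : ∀ s : S, ∃ (V : Scheme.{u}) (π : V ⟶ S) (r : ℕ), Etale π ∧ s ∈ Set.range π ∧
      Red.IsSplitTorusWith (Fin r → ℤ) (Red.bc π T)) (a : T' ⟶ T) [IsMonHom a] (b : T' ⟶ H)
    (hsq : IsPullback a b i k) : Red.IsTorus T' := by
  obtain ⟨hsm, hc⟩ := smooth_connected_inter hdk k hH e he hconn i hTC a b hsq
  haveI := mono_of_subgrp hH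
  haveI : Mono a := PullbackCone.mono_fst_of_is_pullback_of_mono hsq.isLimit
  refine ParStd.isTorus_of_etale_split T' fun s => ?_
  obtain ⟨V, π, r, hπ, ⟨v, hv⟩, ⟨ε⟩⟩ := hchart s
  haveI := hπ
  let x : Red.bc π T' ⟶ Red.DS V (Fin r → ℤ) := (Over.pullback π).map a ≫ ε.hom.hom.hom
  haveI : IsMonHom ε.hom.hom.hom := ε.hom.hom.isMonHom_hom
  haveI : IsIso ε.hom.hom.hom := ((Grp.forget _).mapIso ε).isIso_hom
  haveI := MTSplit.mono_bc π a
  haveI : Mono x := mono_comp _ _
  haveI : IsMonHom x := inferInstanceAs (IsMonHom (_ ≫ _))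
  haveI : Smooth T'.hom := hsm
  haveI : Smooth (Red.bc π T').hom := inferInstanceAs (Smooth (pullback.snd T'.hom π))
  obtain ⟨W, r', hW, ⟨ε'⟩⟩ := TorusSub.exists_split_nhd x (fun t => MTImage.isConnected_fibre_bc T' hc π t) v
  exact ⟨W, W.ι ≫ π, r', inferInstance, ⟨⟨v, hW⟩, hv⟩, ⟨bcComp π W.ι T' ≪≫ ε'⟩⟩

/-- The intersection of a maximal torus with a smooth connected subgroup containing the derived group is a torus. -/
theorem isTorus_inter_sub (hG : Red.IsReductive G) (h : IsCorad d f₀) (k : H ⟶ G) (hH : RedSub.IsSubgrp k)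
    (e : D ⟶ H) (he : e ≫ k = d) [Smooth H.hom] (hconn : RedSub.HasConnectedFibres H) {T T' : Over S}
    [GrpObj T] [GrpObj T'] (i : T ⟶ G) (hT : Red.IsMaximalTorus i) (a : T' ⟶ T) [IsMonHom a] (b : T' ⟶ H)
    (hsq : IsPullback a b i k) : Red.IsTorus T' := by
  haveI := h.hf; haveI := h.smoothD; haveI := hT.1
  exact isTorus_inter_sub' h.ker k hH e he hconn i (torus_to_corad hG h i hT)
    (fun s => exists_etale_chart hG h i hT s) a b hsq

end Groth.Agent.Corad

namespace Groth.Agent.Corad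

open Groth.Agent.MTBridge

variable {S : Scheme.{u}} {G D C H : Over S} [GrpObj G] [GrpObj D] [GrpObj C] [GrpObj H] {d : D ⟶ G} {f₀ : G ⟶ C}

/-- The intersection of a maximal torus with a subgroup containing the derived group is a maximal torus of it. -/
theorem isMaximalTorus_inter_sub (hG : Red.IsReductive G) (h : IsCorad d f₀) (k : H ⟶ G) (hH : RedSub.IsSubgrp k)
    (e : D ⟶ H) (he : e ≫ k = d) [Smooth H.hom] (hconn : RedSub.HasConnectedFibres H) {T T' : Over S}
    [GrpObj T] [GrpObj T'] (i : T ⟶ G) (hT : Red.IsMaximalTorus i) (a : T' ⟶ T) [IsMonHom a] (b : T' ⟶ H)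
    [IsMonHom b] (hsq : IsPullback a b i k) : Red.IsMaximalTorus b := by
  haveI := hT.2.1; haveI := hT.1; haveI := hH.1; haveI := mono_of_subgrp hH
  have hT' := isTorus_inter_sub hG h k hH e he hconn i hT a b hsq
  haveI := h.hd
  obtain ⟨K, _, a₀, b₀, ha₀, hb₀, hsq₀⟩ := exists_grp_pullback i d
  haveI := ha₀
  have hc := centralizer_inter hG (wc_of_isCorad hG h) i hT a₀ b₀ hsq₀
  haveI : Mono b := PullbackCone.mono_snd_of_is_pullback_of_mono hsq.isLimit
  refine RedCartan.isMaximalTorus_of_isCentralizerOf_self b hT' ⟨inferInstance, inferInstance, fun X g => ⟨?_, fun hg => ?_⟩⟩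
  · rintro ⟨z, rfl⟩ X' x w
    letI : CommGroup (X' ⟶ T') := { (inferInstance : Group (X' ⟶ T')) with mul_comm := RedR1.mul_comm_torus hT' }
    rw [← Category.assoc x z b, ← MonObj.mul_comp, ← MonObj.mul_comp, mul_comm]
  obtain ⟨t, ht⟩ := (hc.2.2 X (g ≫ k)).2 fun X' x w => by
    let l := hsq.lift a₀ (b₀ ≫ e) (by rw [Category.assoc, he, hsq₀.w])
    have h1 := congrArg (· ≫ k) (hg X' x (w ≫ l))
    simp only [MonObj.mul_comp, Category.assoc, ← hsq.w] at h1
    rwa [hsq.lift_fst_assoc] at h1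
  exact ⟨hsq.lift t g ht, hsq.lift_snd _ _ _⟩

/-- A subgroup containing the derived group is closed when the group has a suitable torus. -/
theorem closed_core [IsMonHom f₀] [Smooth D.hom] (hdk : AlgGrp.IsKernel d f₀) (k : H ⟶ G) (hH : RedSub.IsSubgrp k)
    (e : D ⟶ H) (he : e ≫ k = d) [Smooth H.hom] (hconn : RedSub.HasConnectedFibres H) {T : Over S} [GrpObj T]
    (i : T ⟶ G) [IsMonHom i] [Mono i] (hT : Red.IsTorus T) (hTC : ToCorad f₀ i)
    (hchart : ∀ s : S, ∃ (V : Scheme.{u}) (π : V ⟶ S) (r : ℕ), Etale π ∧ s ∈ Set.range π ∧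
      Red.IsSplitTorusWith (Fin r → ℤ) (Red.bc π T)) : IsClosedImmersion k.left := by
  haveI := hH.1; haveI := mono_of_subgrp hH
  obtain ⟨T', _, a, b, ha, hb, hsq⟩ := exists_grp_pullback i k
  haveI := ha; haveI := hb
  have hT' := isTorus_inter_sub' hdk k hH e he hconn i hTC hchart a b hsq
  haveI : Mono a := PullbackCone.mono_fst_of_is_pullback_of_mono hsq.isLimit
  haveI : IsClosedImmersion a.left := MTBridge.isClosedImmersion_of_mono
    (MTBridge.locally_of_isMultTypeFT' T' (MTBridge.isMultTypeFT_of_isTorus T' hT'))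
    (MTBridge.isAffineHom _ (MTBridge.isMultTypeFT_of_isTorus _ hT)) a
  obtain ⟨hsm, hsu, -⟩ := hTC
  haveI := hsm; haveI := hsu
  have hq := (isPullback_mul d f₀ hdk i).map (Over.forget S)
  haveI : Smooth ((i ⊗ₘ d) ≫ μ[G]).left := MorphismProperty.of_isPullback hq.flip hsm
  haveI : Surjective ((i ⊗ₘ d) ≫ μ[G]).left := MorphismProperty.of_isPullback hq.flip hsu
  haveI : Flat ((i ⊗ₘ d) ≫ μ[G]).left := inferInstance
  haveI : LocallyOfFinitePresentation ((i ⊗ₘ d) ≫ μ[G]).left := inferInstance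
  have hcov : CoverMap.Covers ((i ⊗ₘ d) ≫ μ[G]).left := ⟨_, ((i ⊗ₘ d) ≫ μ[G]).left, 𝟙 _,
    Scheme.fppfPrecoverage_le_fpqcPrecoverage _ (((i ⊗ₘ d) ≫ μ[G]).left.singleton_mem_fppfPrecoverage),
    Category.id_comp _⟩
  haveI : IsClosedImmersion (a ⊗ₘ 𝟙 D).left := by
    have hp : IsPullback (fst T' D) (a ⊗ₘ 𝟙 D) a (fst T D) := by
      refine ⟨⟨(tensorHom_fst _ _).symm⟩, ⟨PullbackCone.IsLimit.mk _ (fun t => lift t.fst (t.snd ≫ snd T D))
        (fun t => lift_fst _ _) (fun t => ?_) fun t g hg1 hg2 => ?_⟩⟩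
      · apply CartesianMonoidalCategory.hom_ext
        · rw [Category.assoc, tensorHom_fst, lift_fst_assoc, t.condition]
        · rw [Category.assoc, tensorHom_snd, Category.comp_id, lift_snd]
      · apply CartesianMonoidalCategory.hom_ext
        · rw [lift_fst, hg1]
        · rw [lift_snd, ← hg2, Category.assoc, tensorHom_snd, Category.comp_id]
    exact MorphismProperty.of_isPullback (hp.map (Over.forget S)) ‹IsClosedImmersion a.left›
  exact hcov.descend @IsClosedImmersion
    ((isPullback_sub d k e he i a b hsq).map (Over.forget S)) (inferInstanceAs (IsClosedImmersion (a ⊗ₘ 𝟙 D).left))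

/-- Being a closed immersion is etale local on the base. -/
theorem closed_of_charts {A B : Over S} (k : A ⟶ B) {ι' : Type u} {U : ι' → Scheme.{u}} (π : ∀ s, U s ⟶ S)
    [∀ s, Etale (π s)] {σ : S → ι'} (hs : ∀ s, s ∈ Set.range (π (σ s)))
    (hU : ∀ s, IsClosedImmersion ((Over.pullback (π (σ s))).map k).left) : IsClosedImmersion k.left := by
  let q := fun s => pullback.fst B.hom (π (σ s))
  haveI : ∀ s, Etale (q s) := fun s => inferInstanceAs (Etale (pullback.fst B.hom (π (σ s))))
  haveI : Etale (Sigma.desc q) := IsZariskiLocalAtSource.sigmaDesc (P := @Etale) fun s => inferInstance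
  haveI : Surjective (Sigma.desc q) := ⟨fun b => by
    obtain ⟨u, hu⟩ := hs (B.hom b)
    obtain ⟨c, hc, -⟩ := Scheme.Pullback.exists_preimage_pullback b u hu.symm
    exact ⟨Sigma.ι (fun t => pullback B.hom (π (σ t))) (B.hom b) c, by rw [← Scheme.Hom.comp_apply, Sigma.ι_desc]; exact hc⟩⟩
  refine FpqcDescent.of_fpqcPrecoverage @IsClosedImmersion k.left
    (Scheme.fppfPrecoverage_le_fpqcPrecoverage _ ((Sigma.desc q).singleton_mem_fppfPrecoverage)) ?_
  rintro _ _ ⟨⟩
  rw [IsZariskiLocalAtTarget.iff_of_openCover (P := @IsClosedImmersion) (sigmaOpenCover _)]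
  intro s
  show IsClosedImmersion (pullback.snd (pullback.snd k.left (Sigma.desc q)) (Sigma.ι _ s))
  have h1 := (IsPullback.of_hasPullback (pullback.snd k.left (Sigma.desc q)) (Sigma.ι (fun t => pullback B.hom (π (σ t))) s)).paste_horiz
    (IsPullback.of_hasPullback k.left (Sigma.desc q))
  rw [Sigma.ι_desc] at h1
  have h2 := MTImage.isPullback_map k (π (σ s))
  rw [← h1.isoIsPullback_hom_snd _ _ h2]
  haveI := hU s
  infer_instance

/-- A smooth connected subgroup containing the derived group is closed and reductive. -/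
theorem closed_reductive_sub (hG : Red.IsReductive G) (h : IsCorad d f₀) (k : H ⟶ G) (hH : RedSub.IsSubgrp k)
    (e : D ⟶ H) (he : e ≫ k = d) [Smooth H.hom] (hconn : RedSub.HasConnectedFibres H) :
    IsClosedImmersion k.left ∧ Red.IsReductive H := by
  haveI := hG.1; haveI := hG.2.1; haveI := h.hf; haveI := hH.1; haveI := mono_of_subgrp hH; haveI := h.smoothD
  obtain ⟨hdm, hdp⟩ := kernel_pts h.ker
  have hn : AlgGrp.IsNormalHom k := fun X g n => by
    obtain ⟨z, hz⟩ := (hdp (g * (n ≫ k) * g⁻¹ * (n ≫ k)⁻¹)).2 (by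
      simp only [MonObj.mul_comp, GrpObj.inv_comp]
      rw [h.comm _ (g ≫ f₀) _, mul_inv_cancel_right, mul_inv_cancel])
    refine ⟨(z ≫ e) * n, ?_⟩
    rw [MonObj.mul_comp, Category.assoc, he, hz, inv_mul_cancel_right]
  haveI hk : IsClosedImmersion k.left := by
    choose U π hπ hs E m hmm hmi hm using h.loc
    haveI : ∀ s, Etale (π s) := hπ
    let q := Sigma.desc π
    haveI : Etale q := IsZariskiLocalAtSource.sigmaDesc (P := @Etale) hπ
    haveI : Surjective q := ⟨fun s => by
      obtain ⟨u, hu⟩ := hs s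
      exact ⟨Sigma.ι U s u, by rw [← Scheme.Hom.comp_apply, Sigma.ι_desc]; exact hu⟩⟩
    have hU : ∀ s, IsClosedImmersion ((Over.pullback (π s)).map k).left := fun s => by
      haveI := hmm s; haveI := hmi s
      letI := (E s).acgM; letI := (E s).grpT; haveI := (E s).finiteM; haveI := (E s).freeM
      haveI := (E s).maximalTorus.1; haveI := (E s).maximalTorus.2.1
      haveI : Smooth C.hom := MTImage.smooth_torus h.torus
      haveI : Smooth (Red.bc (π s) C).hom := inferInstanceAs (Smooth (pullback.snd C.hom (π s)))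
      haveI : IsAffineHom (Red.bc (π s) C).hom := MorphismProperty.pullback_snd C.hom (π s) h.affine
      haveI : Smooth (Red.bc (π s) D).hom := inferInstanceAs (Smooth (pullback.snd D.hom (π s)))
      haveI : Smooth (Red.bc (π s) H).hom := inferInstanceAs (Smooth (pullback.snd H.hom (π s)))
      haveI := MTSplit.mono_bc (π s) k
      haveI : IsImmersion ((Over.pullback (π s)).map k).left :=
        MorphismProperty.of_isPullback (MTImage.isPullback_map k (π s)) hH.2
      have hdk := Chev.isKernel_bc (π s) d f₀ h.ker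
      refine closed_core hdk ((Over.pullback (π s)).map k) ⟨inferInstance, inferInstance⟩ ((Over.pullback (π s)).map e)
        (by rw [← Functor.map_comp, he]) (fun t => MTImage.isConnected_fibre_bc H hconn (π s) t) (E s).i
        (E s).maximalTorus.2.2.1 (toCorad_split ((wc_of_isCorad hG h).bc (π s)) hdk (E s) (m s) (hm s)) fun v => ?_
      obtain ⟨ε₀⟩ := MTQuot.nonempty_DS_congr (S := U s) (Module.finBasis ℤ (E s).M).equivFun.toAddEquiv.symm
      exact ⟨U s, 𝟙 _, _, inferInstance, ⟨v, rfl⟩, ⟨Chev.bcIdIso (E s).T ≪≫ (E s).split ≪≫ ε₀⟩⟩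
    exact closed_of_charts k π hs hU
  refine ⟨hk, by rw [← Over.w k]; infer_instance, inferInstance, fun s => ?_⟩
  let τ := Red.geomPt s
  let F := Over.pullback τ
  haveI : IsClosedImmersion (F.map k).left := MorphismProperty.of_isPullback (MTImage.isPullback_map k τ) hk
  haveI : Smooth (Red.geomFibre s H).hom := inferInstanceAs (Smooth (pullback.snd H.hom τ))
  haveI : ConnectedSpace ↥(Red.geomFibre s H).left := TorusLift.connectedSpace_bc_geom hconn τ
  haveI : ConnectedSpace ↥(Red.geomFibre s G).left := (hG.2.2 s).2.2.1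
  refine UniRad.isReductiveOver_of_normal (hG.2.2 s) (F.map k) fun X g n => ?_
  obtain ⟨g, rfl⟩ := exists_toBC' τ g
  obtain ⟨n, rfl⟩ := exists_toBC' τ n
  obtain ⟨n', hn'⟩ := hn _ g n
  exact ⟨toBC τ n', by rw [← toBC_comp, ← toBC_comp, ← toBC_inv, ← toBC_mul, ← toBC_mul, hn']⟩

end Groth.Agent.Corad
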