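import Groth.Agent.Corad.SplitHom
import Groth.Agent.MTImage.RootScheme
import Groth.Agent.MTCentre.Main
import Groth.Agent.MTSplit.Basic
import Groth.Agent.RootBase.UPsi
import Groth.Agent.RootBase.Dense
import Groth.Agent.S0115

/-!
# The kernel of the projection of a split group onto a torus
-/

set_option autoImplicit false
set_option backward.isDefEq.respectTransparency false
set_option linter.style.haveILetI false
set_option linter.unusedSectionVars false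
set_option maxHeartbeats 1000000
set_option synthInstance.maxHeartbeats 400000

universe u

open CategoryTheory Limits MonoidalCategory CartesianMonoidalCategory MonObj GrpObj AlgebraicGeometry LieS
open scoped CategoryTheory.Obj

noncomputable section

namespace Groth.Agent.Corad

open Groth.Agent.HomDiag Groth.Agent.DynPar Groth.Agent.RootSys Groth.Agent.MTBridge Groth.Agent.RootBase

variable {S : Scheme.{u}}

theorem smooth_DS (L : Type) [AddCommGroup L] [Module.Free ℤ L] [Module.Finite ℤ L] :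
    Smooth (Red.DS S L).hom := by
  let b := Module.finBasis ℤ L
  let e : L ≃+ (Fin (Module.finrank ℤ L) → ℤ) := b.equivFun.toAddEquiv
  haveI : Smooth (Red.DS S (Fin (Module.finrank ℤ L) → ℤ)).hom :=
    MTImage.smooth_torus (MTCentre.isTorus_DS_scheme S _)
  obtain ⟨i⟩ := MTQuot.nonempty_DS_congr (S := S) e.symm
  rw [← Over.w i.hom.hom.hom]
  haveI : IsIso i.hom.hom.hom.left :=
    ((Over.forget _).mapIso (asIso i.hom.hom.hom)).isIso_hom
  infer_instance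

theorem epi_of_covers {X Y : Over S} {f : X ⟶ Y} (h : CoverMap.Covers f.left) : Epi f := by
  haveI : Epi f.left := by
    obtain ⟨Z, q, r, hq, hr⟩ := h
    rw [← PreZeroHypercover.presieve₀_singleton.{_, _, u}] at hq
    obtain ⟨-, hs, hfl⟩ := (HTopV.mem_fpqc_iff _).1 hq
    haveI : Flat q := hfl PUnit.unit
    haveI : Surjective q := ⟨fun y => by obtain ⟨_, z, hz⟩ := hs y; exact ⟨z, hz⟩⟩
    haveI := Flat.epi_of_flat_of_surjective q
    haveI : Epi (r ≫ f.left) := hr.symm ▸ inferInstance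
    exact epi_of_epi r f.left
  exact Over.epi_of_epi_left f

/-- A morphism out of a product torus is trivial when its components are. -/
theorem DSmap_comp_eq_one_of_components {M : Type} [AddCommGroup M] {β : Type} [Fintype β] [DecidableEq β]
    {A : Over S} [GrpObj A] (ψ : Red.DS S M ⟶ A) [IsMonHom ψ] (θ : M →+ (β → ℤ))
    (h : ∀ b, Red.DSmap S ((Pi.evalAddMonoidHom (fun _ : β => ℤ) b).comp θ) ≫ ψ = 1) :
    Red.DSmap S θ ≫ ψ = 1 := by
  have e : θ = ∑ b, (AddMonoidHom.single (fun _ : β => ℤ) b).comp ((Pi.evalAddMonoidHom _ b).comp θ) := by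
    ext m i
    simp [Finset.sum_apply]
  rw [e]
  refine Finset.sum_induction _ (fun θ' => Red.DSmap S θ' ≫ ψ = 1) (fun a b ha hb => ?_) ?_ fun b _ => ?_
  · rw [← MTSplit.DSmap_mul, MonObj.mul_comp, ha, hb, _root_.one_mul]
  · rw [MTSplit.DSmap_zero, MonObj.one_comp]
  · rw [← MTQuot.DSmap_comp, Category.assoc, h, MonObj.comp_one]

variable {G : Over S} [GrpObj G] {M : Type} [AddCommGroup M]
  [Module.Free ℤ M] [Module.Finite ℤ M] {c : Red.DS S M ⟶ G} {idx : Type} [Fintype idx]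
  {root : idx → M} {u : idx → (Red.Ga S ⟶ G)}

/-- The points of a kernel. -/
theorem kernel_pts {K H Q : Over S} [GrpObj Q] {k : K ⟶ H} {f : H ⟶ Q} (hk : AlgGrp.IsKernel k f) :
    Mono k ∧ ∀ {X : Over S} (g : X ⟶ H), (∃ z : X ⟶ K, z ≫ k = g) ↔ g ≫ f = 1 := by
  haveI : Mono (η[Q] : 𝟙_ (Over S) ⟶ Q) := ⟨fun a b _ => toUnit_unique a b⟩
  refine ⟨PullbackCone.mono_fst_of_is_pullback_of_mono hk.isLimit, fun {X} g => ⟨?_, fun h => ?_⟩⟩
  · rintro ⟨z, rfl⟩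
    rw [Category.assoc, hk.w, ← Category.assoc, toUnit_unique (z ≫ toUnit K) (toUnit X)]
    rfl
  · exact ⟨hk.lift g (toUnit X) (h.trans rfl), hk.lift_fst _ _ _⟩

/-- The inverse image of the kernel in two copies of an abstract cell. -/
theorem kernel_facts_of_cell (hG : Red.IsReductive G) {T T' An Am Q : Over S} [GrpObj Q] [GrpObj T] [GrpObj T']
    [Smooth An.hom] [Smooth Am.hom] [Smooth T'.hom] (c : T ⟶ G) (j : An ⊗ (T ⊗ Am) ⟶ G) [IsOpenImmersion j.left]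
    (e : 𝟙_ (Over S) ⟶ An ⊗ (T ⊗ Am)) (he : e ≫ j = 1)
    (p : T ⟶ Q) [IsMonHom p] (hcomm : ∀ (X : Over S) (a b : X ⟶ Q), a * b = b * a)
    (f : G ⟶ Q) [IsMonHom f] (hf : c ≫ f = p)
    (hjφ : ∀ {A : Over S} [GrpObj A] (φ : G ⟶ A) [IsMonHom φ],
      (∀ (X : Over S) (a b : X ⟶ A), a * b = b * a) → ∀ {X : Over S} (x : X ⟶ An ⊗ (T ⊗ Am)),
        x ≫ j ≫ φ = x ≫ (snd _ _ ≫ fst _ _) ≫ c ≫ φ) [IsMonHom c]
    (incl : T' ⟶ T) [Mono incl] [IsMonHom incl] (ρ : T ⟶ T') (hinclρ : incl ≫ ρ = 𝟙 T')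
    (hinclp : ∀ {X : Over S} (x : X ⟶ T'), (x ≫ incl) ≫ p = 1)
    (hfac : ∀ {X : Over S} (x : X ⟶ T), x ≫ p = 1 → (x ≫ ρ) ≫ incl = x)
    {K : Over S} [GrpObj K] (k : K ⟶ G) [IsMonHom k] (hk : AlgGrp.IsKernel k f) :
    Smooth K.hom ∧ RedSub.HasConnectedFibres K ∧
      (∀ (A : Over S) [GrpObj A] (φ : G ⟶ A) [IsMonHom φ], (∀ (X : Over S) (a b : X ⟶ A), a * b = b * a) →
        incl ≫ c ≫ φ = 1 → k ≫ φ = 1) ∧
      ∃ (K' : Over S) (m : K' ⟶ K) (a b : K' ⟶ An ⊗ (T ⊗ Am)) (s : K' ⟶ T'), Smooth m.left ∧ Surjective m.left ∧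
        m ≫ k = (a ≫ j)⁻¹ * (b ≫ j) ∧ b ≫ snd _ _ ≫ fst _ _ = (a ≫ snd _ _ ≫ fst _ _) * (s ≫ incl) := by
  classical
  haveI := hG.2.1
  obtain ⟨hkm, hkp⟩ := kernel_pts hk
  haveI := hkm
  let tor : (An ⊗ (T ⊗ Am)) ⟶ T := snd _ _ ≫ fst _ _
  -- two cells cover the group
  let Φ : (An ⊗ (T ⊗ Am)) ⊗ (An ⊗ (T ⊗ Am)) ⟶ G := (fst (An ⊗ (T ⊗ Am)) (An ⊗ (T ⊗ Am)) ≫ j)⁻¹ * (snd (An ⊗ (T ⊗ Am)) (An ⊗ (T ⊗ Am)) ≫ j)
  have hΦs : Surjective Φ.left := by
    obtain ⟨X', q, c0, -, hs, -, hd⟩ := exists_translate_open hG j e he ![𝟙 G]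
    obtain ⟨d, hd⟩ := hd 0
    have h : (lift c0 d ≫ Φ).left = q.left := by
      rw [show lift c0 d ≫ Φ = q from by
        simp [Φ, MonObj.comp_mul, GrpObj.comp_inv, hd]]
    haveI : Surjective ((lift c0 d).left ≫ Φ.left) := by rw [← Over.comp_left, h]; exact hs
    exact Surjective.of_comp (lift c0 d).left Φ.left
  haveI hΦ : Smooth Φ.left := by
    haveI : IsOpenImmersion ((An ⊗ (T ⊗ Am)) ◁ j).left := by
      rw [Over.whiskerLeft_left]
      infer_instance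
    let τ : (An ⊗ (T ⊗ Am)) ⊗ G ≅ (An ⊗ (T ⊗ Am)) ⊗ G :=
      ⟨lift (fst _ _) ((fst _ _ ≫ j)⁻¹ * snd _ _), lift (fst _ _) ((fst _ _ ≫ j) * snd _ _),
        CartesianMonoidalCategory.hom_ext _ _ (by simp) (by simp [MonObj.comp_mul, GrpObj.comp_inv]),
        CartesianMonoidalCategory.hom_ext _ _ (by simp) (by simp [MonObj.comp_mul, GrpObj.comp_inv])⟩
    have h : Φ = ((An ⊗ (T ⊗ Am)) ◁ j) ≫ τ.hom ≫ snd (An ⊗ (T ⊗ Am)) G := by
      simp only [τ, Φ, lift_snd, MonObj.comp_mul, GrpObj.comp_inv, whiskerLeft_fst_assoc, whiskerLeft_snd]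
    haveI : IsIso τ.hom.left := ((Over.forget _).mapIso τ).isIso_hom
    haveI : Smooth (An ⊗ (T ⊗ Am)).hom := by rw [← Over.w j]; infer_instance
    haveI : Smooth (snd (An ⊗ (T ⊗ Am)) G).left := inferInstanceAs (Smooth (pullback.snd (An ⊗ (T ⊗ Am)).hom G.hom))
    rw [h, Over.comp_left, Over.comp_left]
    infer_instance
  -- the inverse image of the kernel
  let K' := (An ⊗ (T ⊗ Am)) ⊗ (An ⊗ (T' ⊗ Am))
  let Ψ : K' ⟶ (An ⊗ (T ⊗ Am)) ⊗ (An ⊗ (T ⊗ Am)) := lift (fst _ _) (lift (snd _ _ ≫ fst _ _)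
    (lift ((fst _ _ ≫ tor) * (snd _ _ ≫ snd _ _ ≫ fst _ _ ≫ incl)) (snd _ _ ≫ snd _ _ ≫ snd _ _)))
  have hΦf : ∀ {X : Over S} (x : X ⟶ (An ⊗ (T ⊗ Am)) ⊗ (An ⊗ (T ⊗ Am))),
      x ≫ Φ ≫ f = ((x ≫ fst (An ⊗ (T ⊗ Am)) (An ⊗ (T ⊗ Am)) ≫ tor) ≫ p)⁻¹ * ((x ≫ snd (An ⊗ (T ⊗ Am)) (An ⊗ (T ⊗ Am)) ≫ tor) ≫ p) := fun {X} x => by
    simp only [Φ, MonObj.mul_comp, GrpObj.inv_comp, MonObj.comp_mul, GrpObj.comp_inv, Category.assoc]
    simp only [← Category.assoc x]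
    rw [hjφ f hcomm, hjφ f hcomm, hf]
  have hΨ : Ψ ≫ Φ ≫ f = 1 := by
    rw [hΦf]
    simp only [Ψ, lift_fst_assoc, lift_snd_assoc, lift_fst, lift_snd, tor, MonObj.mul_comp, Category.assoc]
    rw [show incl ≫ p = 1 by simpa using hinclp (𝟙 T')]
    simp [MonObj.comp_one]
  obtain ⟨mK, hmK⟩ := (hkp (Ψ ≫ Φ)).2 (by rw [Category.assoc]; exact hΨ)
  have hpb : IsPullback mK Ψ k Φ := by
    refine IsPullback.of_isLimit (c := PullbackCone.mk mK Ψ hmK) (PullbackCone.IsLimit.mk hmK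
      (fun s => lift (s.snd ≫ fst (An ⊗ (T ⊗ Am)) (An ⊗ (T ⊗ Am))) (lift (s.snd ≫ snd (An ⊗ (T ⊗ Am)) (An ⊗ (T ⊗ Am)) ≫ fst _ _)
        (lift (((s.snd ≫ fst (An ⊗ (T ⊗ Am)) (An ⊗ (T ⊗ Am)) ≫ tor)⁻¹ * (s.snd ≫ snd (An ⊗ (T ⊗ Am)) (An ⊗ (T ⊗ Am)) ≫ tor)) ≫ ρ)
          (s.snd ≫ snd (An ⊗ (T ⊗ Am)) (An ⊗ (T ⊗ Am)) ≫ snd _ _ ≫ snd _ _)))) (fun s => ?_) (fun s => ?_) fun s q h1 h2 => ?_)
    all_goals
      have hs : ((s.snd ≫ fst (An ⊗ (T ⊗ Am)) (An ⊗ (T ⊗ Am)) ≫ tor)⁻¹ * (s.snd ≫ snd (An ⊗ (T ⊗ Am)) (An ⊗ (T ⊗ Am)) ≫ tor)) ≫ p = 1 := by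
        rw [MonObj.mul_comp, GrpObj.inv_comp, ← hΦf, ← Category.assoc, ← s.condition, Category.assoc]
        exact (hkp _).1 ⟨s.fst, rfl⟩
      have hΨs : ∀ (z : s.pt ⟶ T'), z = ((s.snd ≫ fst (An ⊗ (T ⊗ Am)) (An ⊗ (T ⊗ Am)) ≫ tor)⁻¹ * (s.snd ≫ snd (An ⊗ (T ⊗ Am)) (An ⊗ (T ⊗ Am)) ≫ tor)) ≫ ρ →
          (s.snd ≫ fst (An ⊗ (T ⊗ Am)) (An ⊗ (T ⊗ Am)) ≫ tor) * (z ≫ incl) = s.snd ≫ snd (An ⊗ (T ⊗ Am)) (An ⊗ (T ⊗ Am)) ≫ tor := fun z hz => by
        rw [hz, hfac _ hs, mul_inv_cancel_left]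
    · rw [← cancel_mono k, Category.assoc, hmK, s.condition, ← Category.assoc]
      congr 1
      refine CartesianMonoidalCategory.hom_ext _ _ (by simp [Ψ])
        (CartesianMonoidalCategory.hom_ext _ _ (by simp [Ψ]) (CartesianMonoidalCategory.hom_ext _ _ ?_ (by simp [Ψ])))
      simpa [Ψ, tor, MonObj.comp_mul] using hΨs _ rfl
    · refine CartesianMonoidalCategory.hom_ext _ _ (by simp [Ψ])
        (CartesianMonoidalCategory.hom_ext _ _ (by simp [Ψ]) (CartesianMonoidalCategory.hom_ext _ _ ?_ (by simp [Ψ])))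
      simpa [Ψ, tor, MonObj.comp_mul] using hΨs _ rfl
    · refine CartesianMonoidalCategory.hom_ext _ _ (by simp [← h2, Ψ])
        (CartesianMonoidalCategory.hom_ext _ _ (by simp [← h2, Ψ])
          (CartesianMonoidalCategory.hom_ext _ _ ?_ (by simp [← h2, Ψ])))
      rw [← cancel_mono incl]
      simp only [lift_snd_assoc, lift_fst_assoc, lift_fst, Category.assoc]
      rw [← Category.assoc _ ρ incl, hfac _ hs]
      simp [← h2, Ψ, tor, MonObj.comp_mul]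
  have hpbl := hpb.map (Over.forget S)
  haveI : Smooth mK.left := MorphismProperty.of_isPullback hpbl.flip hΦ
  haveI : Surjective mK.left := MorphismProperty.of_isPullback hpbl.flip hΦs
  haveI : Smooth (An ⊗ (T ⊗ Am)).hom := by rw [← Over.w j]; infer_instance
  haveI : Smooth (T' ⊗ Am).hom := MTImage.smooth_tensor _ _
  haveI : Smooth (An ⊗ (T' ⊗ Am)).hom := MTImage.smooth_tensor _ _
  haveI : Smooth K'.hom := MTImage.smooth_tensor _ _
  haveI : Smooth (mK.left ≫ K.hom) := by rw [Over.w mK]; infer_instance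
  refine ⟨S0115.result mK.left K.hom, fun s => ?_, fun A _ φ _ hA hφ => ?_,
    K', mK, Ψ ≫ fst _ _, Ψ ≫ snd _ _, snd _ _ ≫ snd _ _ ≫ fst _ _, inferInstance, inferInstance, ?_, ?_⟩
  · -- connected fibres
    haveI := RedR1.geometricallyIrreducible_of_isReductive hG
    haveI : Surjective (j.left ≫ G.hom) := ⟨fun t => ⟨e.left t, by
      rw [Over.w j]; exact congrArg (fun (q : _ ⟶ S) => q t) (Over.w e)⟩⟩
    haveI : GeometricallyIrreducible (An ⊗ (T ⊗ Am)).hom := by rw [← Over.w j]; infer_instance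
    haveI : GeometricallyIrreducible ((An ⊗ (T ⊗ Am)) ⊗ (An ⊗ (T ⊗ Am))).hom := by
      show GeometricallyIrreducible (pullback.fst (An ⊗ (T ⊗ Am)).hom (An ⊗ (T ⊗ Am)).hom ≫ (An ⊗ (T ⊗ Am)).hom)
      exact GeometricallyIrreducible.comp _ _
    haveI : Smooth ((An ⊗ (T ⊗ Am)) ⊗ (An ⊗ (T ⊗ Am))).hom := MTImage.smooth_tensor _ _
    have hconn : _root_.IsConnected (((An ⊗ (T ⊗ Am)) ⊗ (An ⊗ (T ⊗ Am))).hom.base ⁻¹' {s}) :=
      (((An ⊗ (T ⊗ Am)) ⊗ (An ⊗ (T ⊗ Am))).hom.isIrreducible_preimage (Scheme.Hom.isOpenMap _) isIrreducible_singleton).isConnected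
    let π : (An ⊗ (T ⊗ Am)) ⊗ (An ⊗ (T ⊗ Am)) ⟶ K' := lift (fst _ _) (lift (snd _ _ ≫ fst _ _)
      (lift (snd _ _ ≫ tor ≫ ρ) (snd _ _ ≫ snd _ _ ≫ snd _ _)))
    let gsec : K' ⟶ (An ⊗ (T ⊗ Am)) ⊗ (An ⊗ (T ⊗ Am)) := lift (fst _ _) (lift (snd _ _ ≫ fst _ _)
      (lift (snd _ _ ≫ snd _ _ ≫ fst _ _ ≫ incl) (snd _ _ ≫ snd _ _ ≫ snd _ _)))
    have hgsec : gsec ≫ π = 𝟙 K' := by
      refine CartesianMonoidalCategory.hom_ext _ _ (by simp [gsec, π])
        (CartesianMonoidalCategory.hom_ext _ _ (by simp [gsec, π])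
          (CartesianMonoidalCategory.hom_ext _ _ (by simp [gsec, π, tor, hinclρ]) (by simp [gsec, π])))
    haveI : Surjective π.left := by
      have h : gsec.left ≫ π.left = 𝟙 K'.left := by rw [← Over.comp_left, hgsec]; rfl
      exact ⟨fun x => ⟨gsec.left x, by rw [← Scheme.Hom.comp_apply, h]; rfl⟩⟩
    let g := π.left ≫ mK.left
    have hg : g ≫ K.hom = ((An ⊗ (T ⊗ Am)) ⊗ (An ⊗ (T ⊗ Am))).hom := by rw [Category.assoc, Over.w, Over.w]
    have hpre : K.hom.base ⁻¹' {s} = g '' (((An ⊗ (T ⊗ Am)) ⊗ (An ⊗ (T ⊗ Am))).hom.base ⁻¹' {s}) := by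
      rw [← hg, show (g ≫ K.hom).base ⁻¹' {s} = g ⁻¹' (K.hom.base ⁻¹' {s}) from rfl,
        Set.image_preimage_eq _ g.surjective]
    rw [hpre]
    exact hconn.image _ g.continuous.continuousOn
  · haveI : Epi mK := RedR1.epi_of_flat_surjective mK
    rw [← cancel_epi mK, MonObj.comp_one, ← Category.assoc, hmK, Category.assoc]
    simp only [Φ, MonObj.mul_comp, GrpObj.inv_comp, MonObj.comp_mul, GrpObj.comp_inv, Category.assoc]
    simp only [← Category.assoc Ψ]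
    rw [hjφ φ hA, hjφ φ hA]
    simp only [Ψ, lift_fst_assoc, lift_snd_assoc, tor, Category.assoc, lift_fst, lift_snd, MonObj.mul_comp]
    rw [hφ, MonObj.comp_one, MonObj.comp_one, MonObj.comp_one, _root_.mul_one, inv_mul_cancel]
  · rw [hmK]
    simp [Φ, MonObj.comp_mul, GrpObj.comp_inv]
  · simp [Ψ, tor]



/-- The inverse image of the kernel in two copies of the big cell. -/
theorem kernel_facts_of_retract (F : Frame c root u) {Q T' : Over S} [GrpObj Q] [GrpObj T']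
    (p : Red.DS S M ⟶ Q) [IsMonHom p] (hcomm : ∀ (X : Over S) (a b : X ⟶ Q), a * b = b * a)
    (f : G ⟶ Q) [IsMonHom f] (hf : c ≫ f = p) [Smooth T'.hom]
    (incl : T' ⟶ Red.DS S M) [Mono incl] [IsMonHom incl] (ρ : Red.DS S M ⟶ T') (hinclρ : incl ≫ ρ = 𝟙 T')
    (hinclp : ∀ {X : Over S} (x : X ⟶ T'), (x ≫ incl) ≫ p = 1)
    (hfac : ∀ {X : Over S} (x : X ⟶ Red.DS S M), x ≫ p = 1 → (x ≫ ρ) ≫ incl = x)
    {K : Over S} [GrpObj K] (k : K ⟶ G) [IsMonHom k] (hk : AlgGrp.IsKernel k f) :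
    Smooth K.hom ∧ RedSub.HasConnectedFibres K ∧
      ∀ (A : Over S) [GrpObj A] (φ : G ⟶ A) [IsMonHom φ], (∀ (X : Over S) (a b : X ⟶ A), a * b = b * a) →
        incl ≫ c ≫ φ = 1 → k ≫ φ = 1 := by
  classical
  haveI := F.hc.1
  haveI := F.hG.2.1
  obtain ⟨hkm, hkp⟩ := kernel_pts hk
  haveI := hkm
  -- the big cell
  obtain ⟨mu, n, m, en, ep, hn, hm, -, hj⟩ := F.exists_cell
  let Ω := RedSub.pow (Red.Ga S) n ⊗ (Red.DS S M ⊗ RedSub.pow (Red.Ga S) m)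
  let j : Ω ⟶ G := cellC c (fun l => u (en l)) (fun l => u (ep l))
  haveI : IsOpenImmersion j.left := hj
  let tor : Ω ⟶ Red.DS S M := snd _ _ ≫ fst _ _
  have hjφ : ∀ {A : Over S} [GrpObj A] (φ : G ⟶ A) [IsMonHom φ],
      (∀ (X : Over S) (a b : X ⟶ A), a * b = b * a) → ∀ {X : Over S} (x : X ⟶ Ω),
        x ≫ j ≫ φ = x ≫ tor ≫ c ≫ φ := fun {A} _ φ _ hA {X} x => by
    have hu : ∀ (q : ℕ) (e : Fin q → idx), RedSub.prodMap (Red.Ga S) q (fun l => u (e l)) ≫ φ = 1 := fun q e => by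
      haveI : IsMonHom (1 : G ⟶ A) := MTBridge.isMonHom_of_points 1 fun X a b => by simp [MonObj.comp_one]
      have h := prodMap_comp φ (1 : G ⟶ A) (fun l => u (e l)) (𝟙 _) (fun l => Or.inl (by
        rw [rootHom_comp_eq_one F φ hA, MonObj.comp_one])) fun l => (F.hu _).1
      simpa [MonObj.comp_one] using h
    simp only [j, tor, cellC, MonObj.mul_comp, MonObj.comp_mul, Category.assoc, hu, MonObj.comp_one,
      _root_.one_mul, _root_.mul_one]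
  obtain ⟨y0, hy0, -⟩ := exists_pow_prod (G := G) (fun l => u (en l)) (X := 𝟙_ (Over S)) fun _ => 1
  obtain ⟨y1, hy1, -⟩ := exists_pow_prod (G := G) (fun l => u (ep l)) (X := 𝟙_ (Over S)) fun _ => 1
  let e : 𝟙_ (Over S) ⟶ Ω := lift y0 (lift (1 : 𝟙_ (Over S) ⟶ Red.DS S M) y1)
  have he : e ≫ j = 1 := by
    rw [comp_cellC, prodMap_one _ (fun k => (F.hu _).1) y0 hy0, prodMap_one _ (fun k => (F.hu _).1) y1 hy1,
      MonObj.one_comp (X := 𝟙_ (Over S)) c, _root_.one_mul, _root_.one_mul]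
  haveI := smooth_powGa S n
  haveI := smooth_powGa S m
  obtain ⟨h₁, h₂, h₃, -⟩ := kernel_facts_of_cell F.hG c j e he p hcomm f hf hjφ incl ρ hinclρ hinclp hfac k hk
  exact ⟨h₁, h₂, h₃⟩

/-- The kernel of a projection of a split group onto a torus is smooth with connected fibres, and a homomorphism
killing the kernel on the torus kills it. -/
theorem kernel_facts (F : Frame c root u) (N : AddSubgroup M)
    (hsat : ∀ (k : ℤ) (m : M), k ≠ 0 → k • m ∈ N → m ∈ N)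
    (f : G ⟶ Red.DS S ↥N) [IsMonHom f] (hf : c ≫ f = Red.DSmap S N.subtype)
    {K : Over S} [GrpObj K] (k : K ⟶ G) [IsMonHom k] (hk : AlgGrp.IsKernel k f) :
    Smooth K.hom ∧ RedSub.HasConnectedFibres K ∧
      ∀ (A : Over S) [GrpObj A] (φ : G ⟶ A) [IsMonHom φ], (∀ (X : Over S) (a b : X ⟶ A), a * b = b * a) →
        Red.DSmap S (QuotientAddGroup.mk' N) ≫ c ≫ φ = 1 → k ≫ φ = 1 := by
  classical
  haveI := F.hc.1
  haveI := F.hG.2.1
  haveI : AddGroup.FG M := Module.Finite.iff_addGroup_fg.1 inferInstance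
  haveI : Module.Finite ℤ (M ⧸ N) := Module.Finite.of_surjective
    ((QuotientAddGroup.mk' N).toIntLinearMap) (QuotientAddGroup.mk'_surjective N)
  haveI : Module.IsTorsionFree ℤ (M ⧸ N) := by
    refine Module.IsTorsionFree.of_smul_eq_zero fun z x hzx => ?_
    induction x using QuotientAddGroup.induction_on with
    | _ m =>
      by_cases hz : z = 0
      · exact Or.inl hz
      · rw [← QuotientAddGroup.mk_zsmul, QuotientAddGroup.eq_zero_iff] at hzx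
        exact Or.inr ((QuotientAddGroup.eq_zero_iff m).2 (hsat z m hz hzx))
  haveI : Module.Free ℤ (M ⧸ N) := Module.free_of_finite_type_torsion_free'
  -- the subtorus and a retraction
  let p := Red.DSmap S N.subtype
  let T' := Red.DS S (M ⧸ N)
  let incl : T' ⟶ Red.DS S M := Red.DSmap S (QuotientAddGroup.mk' N)
  obtain ⟨sec, hsec⟩ := Module.projective_lifting_property ((QuotientAddGroup.mk' N).toIntLinearMap)
    (LinearMap.id : (M ⧸ N) →ₗ[ℤ] M ⧸ N) (QuotientAddGroup.mk'_surjective N)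
  let ρ : Red.DS S M ⟶ T' := Red.DSmap S sec.toAddMonoidHom
  have hinclρ : incl ≫ ρ = 𝟙 T' := by
    rw [MTQuot.DSmap_comp, ← MTQuot.DSmap_id]
    congr 1
    exact AddMonoidHom.ext fun x => LinearMap.congr_fun hsec x
  haveI : Mono incl := ⟨fun a b e => by
    simpa only [Category.assoc, hinclρ, Category.comp_id] using congrArg (· ≫ ρ) e⟩
  haveI : IsMonHom p := MTQuot.isMonHom_DSmap _
  haveI : IsMonHom incl := MTQuot.isMonHom_DSmap _
  have hinclp : ∀ {X : Over S} (x : X ⟶ T'), (x ≫ incl) ≫ p = 1 := fun x => by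
    rw [MTQuot.comp_eq_one_iff]
    intro m hm
    rw [ch_DSmap, toAdd_ofAdd, QuotientAddGroup.mk'_apply, (QuotientAddGroup.eq_zero_iff m).2 hm, ofAdd_zero,
      map_one]
  have hfac : ∀ {X : Over S} (x : X ⟶ Red.DS S M), x ≫ p = 1 → (x ≫ ρ) ≫ incl = x := fun x hx => ch_ext fun m => by
    obtain ⟨m, rfl⟩ : ∃ n : M, Multiplicative.ofAdd n = m := ⟨m.toAdd, rfl⟩
    rw [ch_DSmap, toAdd_ofAdd, ch_DSmap, toAdd_ofAdd]
    have h : m - sec (QuotientAddGroup.mk' N m) ∈ N := (QuotientAddGroup.eq_zero_iff _).1 (by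
      rw [← QuotientAddGroup.mk'_apply, map_sub]
      exact sub_eq_zero.2 (LinearMap.congr_fun hsec _).symm)
    have h2 := (MTQuot.comp_eq_one_iff N x).1 hx _ h
    conv_rhs => rw [← sub_add_cancel m (sec (QuotientAddGroup.mk' N m)), ofAdd_add, map_mul, h2, _root_.one_mul]
    rfl
  haveI : Smooth T'.hom := smooth_DS _
  exact kernel_facts_of_retract F p (fun X a b => ch_ext fun m => by rw [ch_mul, ch_mul, _root_.mul_comm]) f hf incl ρ
    hinclρ hinclp hfac k hk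

end Groth.Agent.Corad
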