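import Groth.Agent.Corad.GlueCore
import Groth.Agent.RedCartan.Global
import Groth.Agent.TorusLift.Rank
import Groth.Agent.ParStd.GenPosGlobal
import Groth.Agent.MTBridge.Centralizer
import Groth.Agent.MTBridge.EtaleConj
import Groth.Agent.S5543
import Groth.Agent.RootBase.SplitMap
import Groth.Agent.S5236

/-!
# The coradical and the derived group of a reductive group
-/

set_option autoImplicit false
set_option backward.isDefEq.respectTransparency false
set_option linter.style.haveILetI false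
set_option linter.unusedSectionVars false
set_option maxHeartbeats 1000000
set_option synthInstance.maxHeartbeats 400000

universe u

open CategoryTheory Limits MonoidalCategory CartesianMonoidalCategory MonObj GrpObj AlgebraicGeometry
open scoped CategoryTheory.Obj

noncomputable section

namespace Groth.Agent.Corad

open Groth.Agent.MTBridge

variable {S : Scheme.{u}} {G : Over S} [GrpObj G]

/-- A reductive group is split on an etale covering. -/
theorem exists_split_family (hG : Red.IsReductive G) :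
    ∃ (I : Type u) (U : I → Scheme.{u}) (π : ∀ i, U i ⟶ S), (∀ i, Etale (π i)) ∧
      (∀ s : S, ∃ i, s ∈ Set.range (π i)) ∧ ∀ i, Nonempty (Red.SplitRed (Red.bc (π i) G)) := by
  haveI := hG.1
  haveI := hG.2.1
  have hconn := RedCartan.isConnected_fibre_of_isReductive hG
  obtain ⟨S₁, f₁, he, hsurj, T, _, t, ht⟩ := TorusLift.hasMaxTorusEtaleLocally
    (MTCentre.redRankLocallyConstant_of_urz hconn (RedCartan.unipotentRankZero_of_isReductive hG))
  haveI := he
  have hG₁ := DynPar.isReductive_bc f₁ hG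
  choose U g hge hgs D e hD using fun s : S₁ => S5543.result hG₁ t ht s
  refine ⟨↥S₁, U, fun s => g s ≫ f₁, fun s => inferInstance, fun s => ?_, fun s => ?_⟩
  · obtain ⟨s₁, rfl⟩ := Surjective.surj (f := f₁) s
    obtain ⟨x, hx⟩ := hgs s₁
    exact ⟨s₁, x, by rw [Scheme.Hom.comp_apply, hx]⟩
  · obtain ⟨D', -⟩ := RootBase.exists_map (D s) (bcComp f₁ (g s) G).symm (DynPar.isReductive_bc _ hG)
    exact ⟨D'⟩

theorem bc_injective {T : Scheme.{u}} {X : Over S} {a b : X ⟶ G}
    (j : T ⟶ S) [Epi (pullback.fst X.hom j)] (h : (Over.pullback j).map a = (Over.pullback j).map b) : a = b := by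
  refine Over.OverMorphism.ext ((cancel_epi (pullback.fst X.hom j)).1 ?_)
  have h' := congrArg (fun z : Red.bc j X ⟶ Red.bc j G => z.left ≫ pullback.fst G.hom j) h
  simpa using h'

/-- Universality at the base itself. -/
theorem Univ.killed {Q : Over S} [GrpObj Q] {f : G ⟶ Q} (hu : Univ f) {A : Over S} [GrpObj A] (φ : G ⟶ A)
    [IsMonHom φ] (hA : ∀ (X : Over S) (a b : X ⟶ A), a * b = b * a) {X : Over S} (x : X ⟶ G) (hx : x ≫ f = 1) :
    x ≫ φ = 1 := by
  have h := hu S (𝟙 S) (Red.bc (𝟙 S) A) ((Over.pullback (𝟙 S)).map φ) (fun Y a b => by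
    obtain ⟨a, rfl⟩ := exists_toBC' (𝟙 S) a
    obtain ⟨b, rfl⟩ := exists_toBC' (𝟙 S) b
    rw [← toBC_mul, ← toBC_mul, hA]) _ ((Over.pullback (𝟙 S)).map x) (by
      rw [← Functor.map_comp, hx, bc_map_one])
  rw [← Functor.map_comp] at h
  exact bc_injective (𝟙 S) (h.trans (bc_map_one (𝟙 S) X).symm)

section Cover

variable {I : Type u} {U : I → Scheme.{u}} {π : ∀ i, U i ⟶ S} (hcov : Presieve.ofArrows U π ∈ Scheme.fpqcPrecoverage S)
include hcov

theorem eq_of_bc {X H : Over S} {a b : X ⟶ H} (h : ∀ i, (Over.pullback (π i)).map a = (Over.pullback (π i)).map b) :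
    a = b := by
  refine Over.OverMorphism.ext (SchDescent.hom_ext_cover (Precoverage.mem_coverings_of_isPullback π hcov X.hom _
    (fun i => pullback.snd X.hom (π i)) (fun i => IsPullback.of_hasPullback X.hom (π i))) fun i => ?_)
  have h' := congrArg (fun z : Red.bc (π i) X ⟶ Red.bc (π i) H => z.left ≫ pullback.fst H.hom (π i)) (h i)
  simpa using h'

end Cover

/-- The derived group and the coradical of a reductive group. -/
theorem exists_coradical (hG : Red.IsReductive G) :
    ∃ (C : Over S) (_ : GrpObj C) (f₀ : G ⟶ C) (D : Over S) (_ : GrpObj D) (d : D ⟶ G),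
      IsMonHom f₀ ∧ (∀ (X : Over S) (a b : X ⟶ C), a * b = b * a) ∧ Red.IsTorus C ∧ IsAffineHom C.hom ∧
      Smooth f₀.left ∧ Surjective f₀.left ∧ IsMonHom d ∧ IsClosedImmersion d.left ∧ AlgGrp.IsKernel d f₀ ∧
      RedSub.IsQuotient d f₀ ∧ Smooth D.hom ∧ RedSub.HasConnectedFibres D ∧ RedSub.KilledByCommutative d ∧
      ∀ s : S, ∃ (U : Scheme.{u}) (π : U ⟶ S), Etale π ∧ s ∈ Set.range π ∧
        ∃ (E : Red.SplitRed (Red.bc π G)) (m : Red.DS U ↥(coradLattice E) ⟶ Red.bc π C), IsMonHom m ∧ IsIso m ∧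
          (E.split.inv.hom.hom ≫ E.i) ≫ (Over.pullback π).map f₀ = Red.DSmap U (coradLattice E).subtype ≫ m := by
  obtain ⟨I, U, π, het, hsurj, hsp⟩ := exists_split_family hG
  choose Q gQ f hfm hcomm hspl hsm hsu huniv hker mQ hmQ hmQi hmQf using fun i => exists_coradical_split (hsp i).some
  have haff : ∀ i, IsAffineHom (Q i).hom := fun i => by
    letI := gQ i
    obtain ⟨r, ⟨ε⟩⟩ := hspl i
    let ε' : Q i ≅ Red.DS (U i) (Fin r → ℤ) := (Grp.forget _).mapIso ε
    haveI : IsAffineHom (Red.DS (U i) (Fin r → ℤ)).hom := MTBridge.isAffineHom_DS _ _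
    haveI : IsIso ε'.hom.left := ((Over.forget _).mapIso ε').isIso_hom
    rw [← Over.w ε'.hom]
    infer_instance
  have hd : LocalData π gQ f := ⟨het, hsurj, hfm, hcomm, haff, hsm, hsu, huniv⟩
  have hcov := mem_fpqc hd
  obtain ⟨C, f₀, e, hCa, hf₀s, hf₀u, hmap⟩ := exists_glued hd
  haveI := hCa; haveI := hf₀s; haveI := hf₀u
  haveI := hG.1
  haveI := hG.2.1
  have hrel : ∀ {X : Over S} (a b : X ⟶ G), a ≫ f₀ = b ≫ f₀ ↔
      ∀ i, (Over.pullback (π i)).map a ≫ f i = (Over.pullback (π i)).map b ≫ f i := by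
    intro X a b
    refine ⟨fun h i => (cancel_mono (e i).hom).1 ?_, fun h => eq_of_bc hcov fun i => ?_⟩
    · rw [Category.assoc, Category.assoc, ← hmap, ← Functor.map_comp, h, Functor.map_comp]
    · rw [Functor.map_comp, Functor.map_comp, hmap, reassoc_of% h i]
  have hone : ∀ {X : Over S} (a : X ⟶ G), a ≫ f₀ = (1 : X ⟶ G) ≫ f₀ ↔
      ∀ i, letI := gQ i; (Over.pullback (π i)).map a ≫ f i = 1 := fun {X} a => by
    rw [hrel]
    refine forall_congr' fun i => ?_
    letI := gQ i
    haveI := hfm i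
    rw [bc_map_one, MonObj.one_comp]
  -- the kernel
  let c₀ : 𝟙_ (Over S) ⟶ C := η[G] ≫ f₀
  let D : Over S := pullback f₀ c₀
  let d : D ⟶ G := pullback.fst f₀ c₀
  haveI : IsSplitMono c₀ := ⟨⟨⟨toUnit C, toUnit_unique _ _⟩⟩⟩
  haveI : Mono d := inferInstance
  have hd1 : ∀ {X : Over S} (a : X ⟶ G), (∃ z : X ⟶ D, z ≫ d = a) ↔ a ≫ f₀ = (1 : X ⟶ G) ≫ f₀ := fun {X} a => by
    refine ⟨?_, fun h => ⟨pullback.lift a (toUnit X) (h.trans ?_), pullback.lift_fst _ _ _⟩⟩
    · rintro ⟨z, rfl⟩
      rw [Category.assoc, pullback.condition, ← Category.assoc, toUnit_unique (z ≫ pullback.snd f₀ c₀) (toUnit X),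
        Hom.one_def, Category.assoc]
    · rw [Hom.one_def, Category.assoc]
  obtain ⟨hgD, hdm⟩ := SubGen.Spread.exists_grpObj_of_div d
    ((hd1 η[G]).2 (by rw [show (η[G] : 𝟙_ (Over S) ⟶ G) = 1 by rw [Hom.one_def, toUnit_unit, Category.id_comp]]))
    ((hd1 _).2 ((hone _).2 fun i => by
      letI := gQ i
      haveI := hfm i
      have h1 := (hone (fst D D ≫ d)).1 ((hd1 _).1 ⟨_, rfl⟩) i
      have h2 := (hone (snd D D ≫ d)).1 ((hd1 _).1 ⟨_, rfl⟩) i
      rw [Functor.map_mul, bc_map_inv, MonObj.mul_comp, GrpObj.inv_comp, h1, h2, inv_one, _root_.mul_one]))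
  letI := hgD
  haveI := hdm
  have hpt : ∀ {X : Over S} (z : X ⟶ D) (i : I),
      letI := gQ i; (Over.pullback (π i)).map (z ≫ d) ≫ f i = 1 := fun {X} z i =>
    (hone (z ≫ d)).1 ((hd1 _).1 ⟨z, rfl⟩) i
  have hn : AlgGrp.IsNormalHom d := fun X g n => by
    obtain ⟨n', hn'⟩ := (hd1 (g * (n ≫ d) * g⁻¹)).2 ((hone _).2 fun i => by
      letI := gQ i
      haveI := hfm i
      rw [Functor.map_mul, Functor.map_mul, bc_map_inv, MonObj.mul_comp, MonObj.mul_comp, GrpObj.inv_comp, hpt n i,
        _root_.mul_one, mul_inv_cancel])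
    exact ⟨n', hn'.symm⟩
  have hsq : IsPullback (fst G D) ((G ◁ d) ≫ μ[G]) f₀ f₀ := by
    have hμ : (G ◁ d) ≫ μ[G] = fst G D * (snd G D ≫ d) := by
      rw [Hom.mul_def]
      congr 1
    rw [hμ]
    have hex : ∀ t : PullbackCone f₀ f₀, ∃ z, z ≫ d = t.fst⁻¹ * t.snd := fun t => (hd1 _).2 ((hone _).2 fun i => by
      letI := gQ i
      haveI := hfm i
      rw [Functor.map_mul, bc_map_inv, MonObj.mul_comp, GrpObj.inv_comp, (hrel _ _).1 t.condition i, inv_mul_cancel])
    choose z hz using hex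
    refine ⟨⟨?_⟩, ⟨PullbackCone.IsLimit.mk _ (fun t => lift t.fst (z t)) (fun t => lift_fst _ _)
      (fun t => ?_) fun t m hm1 hm2 => ?_⟩⟩
    · refine (hrel _ _).2 fun i => ?_
      letI := gQ i
      haveI := hfm i
      rw [Functor.map_mul, MonObj.mul_comp, hpt (snd G D) i, _root_.mul_one]
    · rw [MonObj.comp_mul, lift_fst, lift_snd_assoc, hz t]
      exact mul_inv_cancel_left _ _
    · refine CartesianMonoidalCategory.hom_ext _ _ (hm1.trans (lift_fst _ _).symm) ((cancel_mono d).1 ?_)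
      rw [Category.assoc, Category.assoc, lift_snd_assoc, hz t]
      rw [MonObj.comp_mul, hm1] at hm2
      exact eq_inv_mul_iff_mul_eq.2 hm2
  haveI : LocallyOfFinitePresentation f₀.left := inferInstance
  haveI : Flat f₀.left := inferInstance
  have hquot : RedSub.IsQuotient d f₀ := ⟨hf₀u, inferInstance, inferInstance, hsq⟩
  obtain ⟨gC, hf₀m, -⟩ := S5236.result d hn f₀ hquot
  letI := gC
  haveI := hf₀m
  have hk : AlgGrp.IsKernel d f₀ := by
    show IsPullback d (toUnit D) f₀ η[C]
    rw [toUnit_unique (toUnit D) (pullback.snd f₀ c₀), show η[C] = c₀ from (IsMonHom.one_hom f₀).symm]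
    exact IsPullback.of_hasPullback _ _
  have hem : ∀ i, letI := gQ i; IsMonHom (e i).hom := fun i => by
    letI := gQ i
    haveI := hfm i
    haveI := hsm i
    haveI := hsu i
    haveI : Epi (f i).left := Flat.epi_of_flat_of_surjective _
    haveI : Epi (f i) := (Over.forget _).epi_of_epi_map (inferInstanceAs (Epi (f i).left))
    haveI : IsMonHom (f i ≫ (e i).hom) := by rw [← hmap]; infer_instance
    haveI : Epi (f i ⊗ₘ f i) := epi_of_covers (CoverMap.covers_tensor
      ⟨_, (f i).left, 𝟙 _, Scheme.fppfPrecoverage_le_fpqcPrecoverage _ ((f i).left.singleton_mem_fppfPrecoverage),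
        Category.id_comp _⟩)
    refine ⟨?_, ?_⟩
    · rw [← IsMonHom.one_hom (f i), Category.assoc, IsMonHom.one_hom (f i ≫ (e i).hom)]
    · rw [← cancel_epi (f i ⊗ₘ f i), ← Category.assoc, ← IsMonHom.mul_hom (f i), Category.assoc,
        IsMonHom.mul_hom (f i ≫ (e i).hom), ← tensorHom_comp_tensorHom, Category.assoc]
  have hCcomm : ∀ (X : Over S) (a b : X ⟶ C), a * b = b * a := fun X a b => eq_of_bc hcov fun i => by
    letI := gQ i
    haveI := hem i
    haveI : IsMonHom (e i).inv := inferInstance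
    rw [← cancel_mono (e i).inv, Functor.map_mul, Functor.map_mul, MonObj.mul_comp, MonObj.mul_comp, hcomm i]
  have hCt : Red.IsTorus C := ParStd.isTorus_of_etale_split C fun s => by
    obtain ⟨i, hi⟩ := hsurj s
    letI := gQ i
    haveI := hem i
    obtain ⟨r, ⟨ε⟩⟩ := hspl i
    exact ⟨U i, π i, r, het i, hi, ⟨(RootBase.grpIso (e i).hom).symm ≪≫ ε⟩⟩
  have hDsm : Smooth D.hom := by
    have h : IsPullback d.left (pullback.snd f₀ c₀).left f₀.left c₀.left :=
      (IsPullback.of_hasPullback f₀ c₀).map (Over.forget S)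
    have hw := Over.w (pullback.snd f₀ c₀)
    rw [← hw]
    haveI : IsIso (𝟙_ (Over S)).hom := inferInstanceAs (IsIso (𝟙 S))
    refine (MorphismProperty.cancel_right_of_respectsIso @Smooth _ _).2 ?_
    exact MorphismProperty.of_isPullback h hf₀s
  haveI : IsClosedImmersion c₀.left := by
    haveI : IsClosedImmersion (c₀.left ≫ C.hom) := by
      rw [Over.w c₀]
      exact inferInstanceAs (IsClosedImmersion (𝟙 S))
    exact IsClosedImmersion.of_comp c₀.left C.hom
  have hdcl : IsClosedImmersion d.left :=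
    MorphismProperty.of_isPullback ((IsPullback.of_hasPullback f₀ c₀).map (Over.forget S)).flip
      (inferInstanceAs (IsClosedImmersion c₀.left))
  have hkills : RedSub.KilledByCommutative d := by
    intro A _ φ _ hA
    refine eq_of_bc hcov fun i => ?_
    letI := gQ i
    haveI := hfm i
    have hA' : ∀ (X : Over (U i)) (a b : X ⟶ Red.bc (π i) A), a * b = b * a := fun X a b => by
      obtain ⟨a, rfl⟩ := exists_toBC' (π i) a
      obtain ⟨b, rfl⟩ := exists_toBC' (π i) b
      rw [← toBC_mul, ← toBC_mul, hA]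
    rw [Functor.map_comp, Univ.killed (huniv i) ((Over.pullback (π i)).map φ) hA' _ (by
      have := hpt (𝟙 D) i
      rwa [Category.id_comp] at this)]
    exact (bc_map_one (π i) D).symm
  have hDconn : RedSub.HasConnectedFibres D := fun s => by
    obtain ⟨i, u, hu⟩ := hsurj s
    letI := gQ i
    haveI := hfm i
    obtain ⟨K, k, hkm, hkk⟩ := exists_kernel (G := Red.bc (π i) G) (f i)
    letI := K
    obtain ⟨-, hKc⟩ := hker i _ k hkk
    have hKp := kernel_pts hkk
    obtain ⟨ζ, hζ⟩ := (hKp.2 ((Over.pullback (π i)).map d)).2 (by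
      have := hpt (𝟙 D) i
      rwa [Category.id_comp] at this)
    let ψK : (Over.map (π i)).obj (pullback (f i) η[Q i]) ⟶ G :=
      Over.homMk (k.left ≫ pullback.fst G.hom (π i)) (by
        show (k.left ≫ _) ≫ G.hom = _ ≫ π i
        rw [Category.assoc, pullback.condition, ← Category.assoc]
        exact congrArg (· ≫ π i) (Over.w k))
    have hψK : toBC (π i) ψK = k := by
      refine Over.OverMorphism.ext (pullback.hom_ext ?_ ((Over.w (toBC (π i) ψK)).trans (Over.w k).symm))
      simp [toBC, ψK, Adjunction.homEquiv_unit]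
      exact Category.id_comp _
    obtain ⟨φK, hφK⟩ := (hd1 ψK).2 ((hone ψK).2 fun j => by
      letI := gQ j
      haveI := hfm j
      have h1 : ψK ≫ f₀ = 1 := MTBridge.toBC_inj (π i) (by
        rw [toBC_comp, hψK, hmap, ← Category.assoc, (hKp.2 k).1 ⟨𝟙 _, Category.id_comp _⟩]
        haveI := hem i
        rw [MonObj.one_comp]
        exact (map_one (MonoidHom.mk' (fun x : (Over.map (π i)).obj _ ⟶ C => toBC (π i) x) (toBC_mul _))).symm)
      exact (hone ψK).1 (by rw [h1, MonObj.one_comp]) j)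
    have h := hKc u
    have hsub : φK.left '' ((pullback (f i) η[Q i]).hom ⁻¹' {u}) = D.hom ⁻¹' {s} := by
      have hφw : ∀ x, D.hom (φK.left x) = π i ((pullback (f i) η[Q i]).hom x) := fun x => by
        rw [← Scheme.Hom.comp_apply, Over.w φK]
        rfl
      ext y
      refine ⟨?_, fun hy => ?_⟩
      · rintro ⟨x, hx, rfl⟩
        rw [Set.mem_preimage, hφw, show (pullback (f i) η[Q i]).hom x = u from hx, hu]
        exact rfl
      · obtain ⟨z, hz1, hz2⟩ := Scheme.Pullback.exists_preimage_pullback y u ((show D.hom y = s from hy).trans hu.symm)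
        refine ⟨ζ.left z, (congrArg (fun m : pullback D.hom (π i) ⟶ U i => m z) (Over.w ζ)).trans hz2,
          d.left.isClosedEmbedding.injective ?_⟩
        rw [← hz1]
        refine (congrArg (fun m : pullback D.hom (π i) ⟶ G.left => m z) (?_ :
          ζ.left ≫ φK.left ≫ d.left = pullback.fst D.hom (π i) ≫ d.left))
        rw [show φK.left ≫ d.left = ψK.left from congrArg Over.Hom.left hφK]
        show ζ.left ≫ k.left ≫ pullback.fst G.hom (π i) = _
        rw [← Category.assoc, ← Over.comp_left, hζ]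
        simp
    rw [← hsub]
    exact h.image _ φK.left.continuous.continuousOn
  refine ⟨C, gC, f₀, D, hgD, d, hf₀m, hCcomm, hCt, hCa, hf₀s, hf₀u, hdm, hdcl, hk, hquot, hDsm, hDconn, hkills,
    fun s => ?_⟩
  obtain ⟨i, hi⟩ := hsurj s
  letI := gQ i
  haveI := hem i
  haveI := hmQ i
  haveI := hmQi i
  exact ⟨U i, π i, het i, hi, (hsp i).some, mQ i ≫ (e i).hom, inferInstance, inferInstance, by
    rw [hmap, ← Category.assoc, hmQf i, Category.assoc]⟩

end Groth.Agent.Corad
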