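import Groth.Agent.Corad.Universal
import Groth.Agent.MTCentre.Centre
import Groth.Agent.SchDescent.Family
import Groth.Agent.SchDescent.SheafDescAffine
import Groth.Agent.SchDescent.Effective
import Groth.Agent.FpqcDescent.Affine
import Groth.Agent.SchDescent.AffineDesc
import Groth.Agent.QuotFormal.Basic
import Groth.Agent.AlgSpLib.SourceDesc

/-!
# Gluing local coradicals: the scheme
-/

set_option autoImplicit false
set_option backward.isDefEq.respectTransparency false
set_option linter.style.haveILetI false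
set_option linter.unusedSectionVars false
set_option maxHeartbeats 1000000
set_option synthInstance.maxHeartbeats 400000

universe u

open CategoryTheory Limits MonoidalCategory CartesianMonoidalCategory MonObj GrpObj AlgebraicGeometry
open scoped CategoryTheory.Obj

noncomputable section

namespace Groth.Agent.Corad

open Groth.Agent.MTBridge

variable {S : Scheme.{u}} {G : Over S} [GrpObj G] {I : Type u} {U : I → Scheme.{u}} (π : ∀ i, U i ⟶ S)
  {Q : ∀ i, Over (U i)} (gQ : ∀ i, GrpObj (Q i)) (f : ∀ i, Red.bc (π i) G ⟶ Q i)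

/-- The image in the local coradical of a point of the group over a point of the base. -/
def pt {i : I} {W : Scheme.{u}} (g : W ⟶ G.left) (x : W ⟶ U i) (h : g ≫ G.hom = x ≫ π i) : W ⟶ (Q i).left :=
  pullback.lift g x h ≫ (f i).left

theorem pt_hom {i : I} {W : Scheme.{u}} (g : W ⟶ G.left) (x : W ⟶ U i) (h : g ≫ G.hom = x ≫ π i) :
    pt π f g x h ≫ (Q i).hom = x := by
  rw [pt, Category.assoc, Over.w (f i)]
  exact pullback.lift_snd _ _ _

theorem comp_pt {i : I} {W W' : Scheme.{u}} (a : W' ⟶ W) (g : W ⟶ G.left) (x : W ⟶ U i) (h : g ≫ G.hom = x ≫ π i) :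
    a ≫ pt π f g x h = pt π f (a ≫ g) (a ≫ x) (by rw [Category.assoc, Category.assoc, h]) := by
  rw [pt, pt, ← Category.assoc]
  congr 1
  apply pullback.hom_ext <;> simp

theorem pt_congr {i : I} {W : Scheme.{u}} {g : W ⟶ G.left} {x x' : W ⟶ U i} (e : x = x') (h : g ≫ G.hom = x ≫ π i) :
    pt π f g x h = pt π f g x' (e ▸ h) := by
  subst e; rfl

/-- `w` is the image over `y` of the point `v` over `x`. -/
def IsImg {i j : I} {W : Scheme.{u}} (x : W ⟶ U i) (y : W ⟶ U j) (v : W ⟶ (Q i).left) (w : W ⟶ (Q j).left) : Prop :=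
  w ≫ (Q j).hom = y ∧ ∀ (W' : Scheme.{u}) (a : W' ⟶ W) (g : W' ⟶ G.left) (hx : g ≫ G.hom = (a ≫ x) ≫ π i)
    (hy : g ≫ G.hom = (a ≫ y) ≫ π j), pt π f g (a ≫ x) hx = a ≫ v → pt π f g (a ≫ y) hy = a ≫ w

/-- The hypotheses on local coradicals. -/
structure LocalData : Prop where
  etale : ∀ i, Etale (π i)
  cover : ∀ s : S, ∃ i, s ∈ Set.range (π i)
  hom : ∀ i, @IsMonHom _ _ _ (Red.bc (π i) G) (Q i) _ (gQ i).toMonObj (f i)
  comm : ∀ i (X : Over (U i)) (a b : X ⟶ Q i), letI := gQ i; a * b = b * a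
  affine : ∀ i, IsAffineHom (Q i).hom
  smooth : ∀ i, Smooth (f i).left
  surj : ∀ i, Surjective (f i).left
  univ : ∀ i, letI := gQ i; Univ (f i)

variable {π gQ f} (hd : LocalData π gQ f)
include hd

/-- A section over a base, from a point of the group. -/
theorem key {i j : I} {W : Scheme.{u}} (g g' : W ⟶ G.left) (x : W ⟶ U i) (y : W ⟶ U j)
    (hx : g ≫ G.hom = x ≫ π i) (hx' : g' ≫ G.hom = x ≫ π i) (hy : g ≫ G.hom = y ≫ π j)
    (hy' : g' ≫ G.hom = y ≫ π j) (he : pt π f g x hx = pt π f g' x hx') : pt π f g y hy = pt π f g' y hy' := by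
  letI := gQ i
  letI := gQ j
  haveI := hd.hom i
  haveI := hd.hom j
  have hxy : x ≫ π i = y ≫ π j := hx.symm.trans hy
  obtain ⟨e0, he0, hm0⟩ := Chev.MaxTorusBC.exists_trIso (show x ≫ π i = x ≫ π i from rfl) G
  obtain ⟨e1, he1, hm1⟩ := Chev.MaxTorusBC.exists_trIso (show y ≫ π j = x ≫ π i from hxy.symm) G
  haveI : IsMonHom e0.hom := hm0
  haveI : IsMonHom e1.hom := hm1
  let φ : Red.bc x (Red.bc (π i) G) ⟶ Red.bc y (Q j) := e0.inv ≫ e1.hom ≫ (Over.pullback y).map (f j)
  haveI : IsMonHom φ := inferInstance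
  have hA : ∀ (X : Over W) (a b : X ⟶ Red.bc y (Q j)), a * b = b * a := fun X a b => by
    obtain ⟨a, rfl⟩ := exists_toBC' y a
    obtain ⟨b, rfl⟩ := exists_toBC' y b
    rw [← toBC_mul, ← toBC_mul, hd.comm j]
  let sec : ∀ (g : W ⟶ G.left), g ≫ G.hom = x ≫ π i → (Over.mk (𝟙 W) ⟶ Red.bc x (Red.bc (π i) G)) := fun g h =>
    Over.homMk (pullback.lift (pullback.lift g x h) (𝟙 W)
      (((pullback.lift_snd g x h)).trans (Category.id_comp x).symm)) (pullback.lift_snd _ _ _)
  have hleft : ∀ g h, (sec g h ≫ (Over.pullback x).map (f i)).left ≫ pullback.fst _ _ = pt π f g x h := fun g h => by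
    simp [sec, pt]
  have hsnd : ∀ g h, (sec g h).left ≫ pullback.snd _ _ = 𝟙 W := fun g h => pullback.lift_snd _ _ _
  have hab : sec g hx ≫ (Over.pullback x).map (f i) = sec g' hx' ≫ (Over.pullback x).map (f i) := by
    refine Over.OverMorphism.ext (pullback.hom_ext ((hleft g hx).trans (he.trans (hleft g' hx').symm)) ?_)
    exact (Over.w (sec g hx ≫ (Over.pullback x).map (f i))).trans (Over.w (sec g' hx' ≫ _)).symm
  have hφ : sec g hx ≫ φ = sec g' hx' ≫ φ := by
    have h := hd.univ i W x (Red.bc y (Q j)) φ hA _ ((sec g hx)⁻¹ * sec g' hx') (by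
      rw [MonObj.mul_comp, GrpObj.inv_comp, hab, inv_mul_cancel])
    rw [MonObj.mul_comp, GrpObj.inv_comp, inv_mul_eq_one] at h
    exact h
  have hval : ∀ g h (h' : g ≫ G.hom = y ≫ π j), (sec g h ≫ φ).left ≫ pullback.fst _ _ = pt π f g y h' := by
    intro g h h'
    have t0 := MTCentre.tr_id_fst (show x ≫ π i = x ≫ π i from rfl) G
    have t1 := MTCentre.tr_id_fst (show y ≫ π j = x ≫ π i from hxy.symm) G
    rw [← he0] at t0
    rw [← he1] at t1
    have hz : (sec g h ≫ e0.inv ≫ e1.hom).left ≫ pullback.fst _ y = pullback.lift g y h' := by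
      apply pullback.hom_ext
      · rw [pullback.lift_fst]
        calc ((sec g h ≫ e0.inv ≫ e1.hom).left ≫ pullback.fst _ y) ≫ pullback.fst G.hom (π j)
            = (sec g h ≫ e0.inv).left ≫ (e1.hom.left ≫ pullback.fst _ y ≫ pullback.fst G.hom (π j)) := by
              simp only [Over.comp_left, Category.assoc]
          _ = (sec g h ≫ e0.inv).left ≫ (e0.hom.left ≫ pullback.fst _ x ≫ pullback.fst G.hom (π i)) := by
              rw [t1, t0]
          _ = (sec g h).left ≫ pullback.fst _ x ≫ pullback.fst G.hom (π i) := by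
              rw [← Category.assoc, ← Over.comp_left, Category.assoc, e0.inv_hom_id, Category.comp_id]
          _ = g := by simp [sec]
      · rw [pullback.lift_snd, Category.assoc]
        calc (sec g h ≫ e0.inv ≫ e1.hom).left ≫ pullback.fst _ y ≫ (Red.bc (π j) G).hom
            = ((sec g h ≫ e0.inv ≫ e1.hom).left ≫ (Red.bc y (Red.bc (π j) G)).hom) ≫ y := by
              rw [pullback.condition, Category.assoc]; rfl
          _ = y := by
              rw [Over.w]
              exact Category.id_comp y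
    show (sec g h ≫ e0.inv ≫ e1.hom ≫ (Over.pullback y).map (f j)).left ≫ _ = _
    rw [← Category.assoc e0.inv, ← Category.assoc, Over.comp_left, Category.assoc]
    have hf := pullback.lift_fst (f := (Q j).hom) (g := y) (pullback.fst (Red.bc (π j) G).hom y ≫ (f j).left)
      (pullback.snd _ y) (by rw [Category.assoc, Over.w (f j), pullback.condition])
    refine (congrArg _ hf).trans ?_
    rw [← Category.assoc, hz]
    rfl
  rw [← hval g hx hy, ← hval g' hx' hy', hφ]

theorem exists_img {i j : I} {W : Scheme.{u}} (x : W ⟶ U i) (y : W ⟶ U j) (hxy : x ≫ π i = y ≫ π j)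
    (v : W ⟶ (Q i).left) (hv : v ≫ (Q i).hom = x) : ∃! w, IsImg π f x y v w := by
  haveI : Smooth (f i).left := hd.smooth i
  haveI : Surjective (f i).left := hd.surj i
  let P := pullback v (f i).left
  let p : P ⟶ W := pullback.fst _ _
  let gP : P ⟶ G.left := pullback.snd v (f i).left ≫ pullback.fst G.hom (π i)
  have hP : pullback.snd v (f i).left ≫ pullback.snd G.hom (π i) = p ≫ x := by
    rw [← hv, pullback.condition_assoc, Over.w (f i)]
    rfl
  have hgx : gP ≫ G.hom = (p ≫ x) ≫ π i := by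
    rw [← hP, Category.assoc, Category.assoc, pullback.condition]
  have hgy : gP ≫ G.hom = (p ≫ y) ≫ π j := by rw [hgx, Category.assoc, hxy, Category.assoc]
  have hvP : pt π f gP (p ≫ x) hgx = p ≫ v := by
    rw [pt, show pullback.lift gP _ hgx = pullback.snd v (f i).left from
      pullback.hom_ext (pullback.lift_fst _ _ _) ((pullback.lift_snd _ _ _).trans hP.symm), pullback.condition]
  haveI : Epi p := Flat.epi_of_flat_of_surjective p
  let w' := pt π f gP (p ≫ y) hgy
  have hw' : ∀ {Z : Scheme.{u}} (a b : Z ⟶ P), a ≫ p = b ≫ p → a ≫ w' = b ≫ w' := fun {Z} a b e => by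
    have e' : ∀ {V : Scheme.{u}} (z : W ⟶ V), a ≫ p ≫ z = b ≫ p ≫ z := fun z => by
      rw [← Category.assoc, e, Category.assoc]
    simp only [w', comp_pt, e']
    refine key hd _ _ (b ≫ p ≫ x) _ ?_ ?_ _ _ ?_
    · rw [Category.assoc, hgx, ← e']; simp
    · rw [Category.assoc, hgx]; simp
    · have h1 := comp_pt π f a gP _ hgx
      have h2 := comp_pt π f b gP _ hgx
      rw [hvP] at h1 h2
      simp only [e'] at h1
      exact h1.symm.trans h2
  obtain ⟨w, hw⟩ : ∃ w : W ⟶ (Q j).left, p ≫ w = w' :=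
    ⟨EffectiveEpi.desc p w' hw', EffectiveEpi.fac p w' hw'⟩
  have huniq : ∀ w₀, IsImg π f x y v w₀ → p ≫ w₀ = w' := fun w₀ h => (h.2 P p gP hgx hgy hvP).symm
  refine ⟨w, ⟨?_, fun W' a g hx hy h => ?_⟩, fun w₀ h => by rw [← cancel_epi p, hw, huniq w₀ h]⟩
  · rw [← cancel_epi p, ← Category.assoc, hw, pt_hom]
  · let m : W' ⟶ P := pullback.lift a (pullback.lift g (a ≫ x) hx) h.symm
    have hm : m ≫ p = a := pullback.lift_fst _ _ _
    have hmg : m ≫ gP = g := by simp [m, gP]
    conv_rhs => rw [← hm, Category.assoc, hw, comp_pt]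
    have hm' : ∀ {V : Scheme.{u}} (z : W ⟶ V), m ≫ p ≫ z = a ≫ z := fun z => by rw [← Category.assoc, hm]
    simp only [hmg, hm']

/-- The descent datum of the local coradicals. -/
theorem exists_datum : ∃ D : Desc.SchDDFam π, D.obj = Q ∧
    ∀ {W : Scheme.{u}} {i j : I} (x : W ⟶ U i) (y : W ⟶ U j) (h : x ≫ π i = y ≫ π j)
      (v : Desc.Lifts (D.obj i) x) (v' : W ⟶ (Q i).left) (w' : W ⟶ (Q j).left),
        HEq v.1 v' → HEq (D.φ x y h v).1 w' → IsImg π f x y v' w' := by
  have hex : ∀ ⦃W : Scheme.{u}⦄ ⦃i j : I⦄ (x : W ⟶ U i) (y : W ⟶ U j) (_ : x ≫ π i = y ≫ π j)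
      (v : Desc.Lifts (Q i) x), ∃! w, IsImg π f x y v.1 w := fun W i j x y h v => exists_img hd x y h v.1 v.2
  choose w hw hu using hex
  have hself : ∀ {W : Scheme.{u}} {i : I} (x : W ⟶ U i) (v : Desc.Lifts (Q i) x), IsImg π f x x v.1 v.1 :=
    fun x v => ⟨v.2, fun _ _ _ _ _ h => h⟩
  have hcomp : ∀ {W : Scheme.{u}} {i j k : I} (x : W ⟶ U i) (y : W ⟶ U j) (z : W ⟶ U k) (_ : x ≫ π i = y ≫ π j)
      (a : W ⟶ (Q i).left) (b : W ⟶ (Q j).left) (c : W ⟶ (Q k).left),
      IsImg π f x y a b → IsImg π f y z b c → IsImg π f x z a c := fun x y z hxy a b c h h' =>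
    ⟨h'.1, fun W' e g hx hz he => h'.2 W' e g (by rw [hx, Category.assoc, hxy, Category.assoc]) hz
      (h.2 W' e g hx (by rw [hx, Category.assoc, hxy, Category.assoc]) he)⟩
  let D : Desc.SchDDFam π :=
    { obj := Q
      φ := fun W i j x y h =>
        { toFun := fun v => ⟨w x y h v, (hw x y h v).1⟩
          invFun := fun v => ⟨w y x h.symm v, (hw y x h.symm v).1⟩
          left_inv := fun v => Subtype.ext ((hu x x rfl v _ (hcomp x y x h _ _ _ (hw x y h v)
            (hw y x h.symm ⟨w x y h v, (hw x y h v).1⟩))).trans (hu x x rfl v _ (hself x v)).symm)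
          right_inv := fun v => Subtype.ext ((hu y y rfl v _ (hcomp y x y h.symm _ _ _ (hw y x h.symm v)
            (hw x y h ⟨w y x h.symm v, (hw y x h.symm v).1⟩))).trans (hu y y rfl v _ (hself y v)).symm) }
      φ_natural := fun W W' t i j x y h x' y' hx' hy' h' v v' hv => by
        subst hx' hy'
        refine (hu (t ≫ x) (t ≫ y) h' v' _ ⟨?_, fun W'' a g hx hy he => ?_⟩).symm
        · show (t ≫ w x y h v) ≫ _ = _
          rw [Category.assoc, (hw x y h v).1]
        · show _ = a ≫ t ≫ w x y h v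
          rw [pt_congr π f (Category.assoc a t y).symm hy]
          refine ((hw x y h v).2 W'' (a ≫ t) g (by rw [hx]; simp) _ ?_).trans (Category.assoc _ _ _)
          rw [← pt_congr π f (Category.assoc a t x).symm hx, he, hv, Category.assoc]
      φ_self := fun W i x v => Subtype.ext (hu x x rfl v _ (hself x v)).symm
      φ_comp := fun W i j k x y z h h' v => Subtype.ext (hu x z (h.trans h') v _ (hcomp x y z h _ _ _ (hw x y h v)
        (hw y z h' ⟨w x y h v, (hw x y h v).1⟩))) }
  refine ⟨D, rfl, fun x y h v v' w' hv hw' => ?_⟩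
  obtain rfl := eq_of_heq hv
  obtain rfl := eq_of_heq hw'
  exact hw x y h v

theorem mem_fpqc : Presieve.ofArrows U π ∈ Scheme.fpqcPrecoverage S :=
  Scheme.proetalePrecoverage_le_fpqcPrecoverage _ (Scheme.etalePrecoverage_le_proetalePrecoverage _
    ((Scheme.ofArrows_mem_precoverage_iff _).2 ⟨hd.cover, hd.etale⟩))

/-- The local coradicals are the base changes of one scheme with a map from the group. -/
theorem exists_glued : ∃ (C : Over S) (f₀ : G ⟶ C) (e : ∀ i, Q i ≅ Red.bc (π i) C), IsAffineHom C.hom ∧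
    Smooth f₀.left ∧ Surjective f₀.left ∧ ∀ i, (Over.pullback (π i)).map f₀ = f i ≫ (e i).hom := by
  haveI : ∀ i, Etale (π i) := hd.etale
  have hcov := mem_fpqc hd
  obtain ⟨D, hD, hφ⟩ := exists_datum hd
  obtain ⟨Qd, φ, h1, h2, h3⟩ := D
  dsimp only at hD
  subst hD
  let D : Desc.SchDDFam π := ⟨Qd, φ, h1, h2, h3⟩
  obtain ⟨C, ⟨E⟩⟩ := SchDescent.effective_of_family (u' := π) @IsAffineHom
    (fun _ _ _ q h ↦ SchDescent.SheafDesc.isAffineHom_sigmaMap q h)
    (fun X' T' p _ _ _ _ D' h ↦ have : IsAffineHom D'.obj.hom := h; SchDescent.effective_of_isAffineHom D')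
    hcov D hd.affine
  let k : ∀ i, Qd i ⟶ Over.mk (pullback.fst (π i) C.hom) := fun i => E.inv.hom i
  haveI : ∀ i, IsIso (k i) := fun i => ⟨E.hom.hom i,
    congrFun (congrArg Desc.SchDDFam.Hom.hom E.inv_hom_id) i, congrFun (congrArg Desc.SchDDFam.Hom.hom E.hom_inv_id) i⟩
  let sw : ∀ i, Over.mk (pullback.fst (π i) C.hom) ≅ Red.bc (π i) C := fun i =>
    Over.isoMk (pullbackSymmetry (π i) C.hom) (pullbackSymmetry_hom_comp_snd _ _)
  let e : ∀ i, Qd i ≅ Red.bc (π i) C := fun i => asIso (k i) ≪≫ sw i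
  let ψ : ∀ i, (Qd i).left ⟶ C.left := fun i => (e i).hom.left ≫ pullback.fst C.hom (π i)
  have hψ : ∀ i, ψ i = (k i).left ≫ pullback.snd (π i) C.hom := fun i => by
    simp [ψ, e, sw, pullbackSymmetry_hom_comp_fst]
  have hψhom : ∀ i, ψ i ≫ C.hom = (Qd i).hom ≫ π i := fun i => by
    rw [Category.assoc, pullback.condition, ← Category.assoc, ← Over.w (e i).hom]
    rfl
  have hcomp : ∀ {P : Scheme.{u}} {i j : I} (g : P ⟶ G.left) (x : P ⟶ U i) (y : P ⟶ U j)
      (hx : g ≫ G.hom = x ≫ π i) (hy : g ≫ G.hom = y ≫ π j),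
      pt π f g x hx ≫ ψ i = pt π f g y hy ≫ ψ j := by
    intro P i j g x y hx hy
    have hxy : x ≫ π i = y ≫ π j := hx.symm.trans hy
    let v : Desc.Lifts (Qd i) x := ⟨pt π f g x hx, pt_hom π f g x hx⟩
    let w := φ x y hxy v
    have himg := hφ x y hxy v v.1 w.1 HEq.rfl HEq.rfl
    have hw : pt π f g y hy = w.1 := by
      have := himg.2 P (𝟙 P) g (by rw [Category.id_comp]; exact hx) (by rw [Category.id_comp]; exact hy)
        (by simp only [Category.id_comp]; rfl)
      simpa only [Category.id_comp] using this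
    have hc := (E.inv : D ⟶ (Desc.toDDFam π).obj C).comm x y hxy v
      ⟨v.1 ≫ (k i).left, by rw [Category.assoc]; exact (congrArg (v.1 ≫ ·) (Over.w (k i))).trans v.2⟩ rfl
    rw [hψ, hψ, hw, ← Category.assoc, ← Category.assoc]
    refine Eq.trans ?_ (congrArg (· ≫ pullback.snd (π j) C.hom) hc)
    exact (pullback.lift_snd _ _ _).symm
  have hG := Precoverage.mem_coverings_of_isPullback π hcov G.hom _ (fun i => pullback.snd G.hom (π i))
    (fun i => (IsPullback.of_hasPullback G.hom (π i)))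
  obtain ⟨m, hm, -⟩ := SchDescent.existsUnique_glue hG (fun i => (f i).left ≫ ψ i) (fun i j => by
    have h := hcomp (pullback.fst (pullback.fst G.hom (π i)) (pullback.fst G.hom (π j)) ≫ pullback.fst G.hom (π i))
      (pullback.fst _ _ ≫ pullback.snd G.hom (π i)) (pullback.snd _ _ ≫ pullback.snd G.hom (π j))
      (by rw [Category.assoc, Category.assoc, pullback.condition]) (by
        rw [pullback.condition, Category.assoc, Category.assoc, pullback.condition])
    simp only [pt, Category.assoc] at h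
    refine (congrArg (· ≫ (f i).left ≫ ψ i) ?_).trans (h.trans (congrArg (· ≫ (f j).left ≫ ψ j) ?_))
    · exact pullback.hom_ext (pullback.lift_fst _ _ _).symm (pullback.lift_snd _ _ _).symm
    · exact pullback.hom_ext ((pullback.lift_fst _ _ _).trans pullback.condition) (pullback.lift_snd _ _ _))
  have hmC : m ≫ C.hom = G.hom := SchDescent.hom_ext_cover hG fun i => by
    rw [← Category.assoc, hm i, Category.assoc, hψhom, ← Category.assoc, Over.w (f i), pullback.condition]
    rfl
  let f₀ : G ⟶ C := Over.homMk m hmC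
  have hmap : ∀ i, (Over.pullback (π i)).map f₀ = f i ≫ (e i).hom := fun i => by
    refine Over.OverMorphism.ext (pullback.hom_ext ?_ ?_)
    · rw [Over.comp_left, Category.assoc]
      exact (by simp [f₀] : ((Over.pullback (π i)).map f₀).left ≫ pullback.fst C.hom (π i) = _ ≫ m).trans (hm i)
    · exact (Over.w ((Over.pullback (π i)).map f₀)).trans (Over.w (f i ≫ (e i).hom)).symm
  haveI : ∀ i, IsIso (e i).hom.left := fun i => ((Over.forget _).mapIso (e i)).isIso_hom
  refine ⟨C, f₀, e, ?_, ?_, ?_, hmap⟩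
  · refine FpqcDescent.of_fpqcPrecoverage @IsAffineHom C.hom hcov fun S' t ht => ?_
    obtain ⟨i⟩ := ht
    haveI := hd.affine i
    have he : (Red.bc (π i) C).hom = (e i).inv.left ≫ (Qd i).hom := (Over.w (e i).inv).symm
    show IsAffineHom (Red.bc (π i) C).hom
    haveI : IsIso (e i).inv.left := ((Over.forget _).mapIso (e i)).isIso_inv
    rw [he]
    infer_instance
  · haveI := IsZariskiLocalAtSource.sigmaDesc (P := @Etale) (f := fun i => pullback.fst G.hom (π i))
      (fun i => inferInstance)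
    haveI : Surjective (Sigma.desc fun i => pullback.fst G.hom (π i)) := ⟨fun g => by
      obtain ⟨i, x, hx⟩ := hd.cover (G.hom g)
      obtain ⟨z, hz, -⟩ := Scheme.Pullback.exists_preimage_pullback g x hx.symm
      exact ⟨Sigma.ι (fun i => pullback G.hom (π i)) i z, by rw [← Scheme.Hom.comp_apply, Sigma.ι_desc]; exact hz⟩⟩
    haveI : Smooth (Sigma.desc (fun i => pullback.fst G.hom (π i)) ≫ m) := by
      rw [show Sigma.desc (fun i => pullback.fst G.hom (π i)) ≫ m = Sigma.desc fun i => (f i).left ≫ ψ i from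
        Sigma.hom_ext _ _ fun i => by rw [Sigma.ι_desc_assoc, Sigma.ι_desc]; exact hm i]
      refine IsZariskiLocalAtSource.sigmaDesc (P := @Smooth) fun i => ?_
      haveI := hd.smooth i
      infer_instance
    exact AlgSpLib.SrcDesc.smooth (Sigma.desc fun i => pullback.fst G.hom (π i)) m
  · refine ⟨fun c => ?_⟩
    obtain ⟨i, x, hx⟩ := hd.cover (C.hom c)
    obtain ⟨z, hz, -⟩ := Scheme.Pullback.exists_preimage_pullback c x hx.symm
    haveI := hd.surj i
    obtain ⟨q, hq⟩ := Surjective.surj (f := (f i).left ≫ (e i).hom.left) z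
    exact ⟨pullback.fst G.hom (π i) q, by
      rw [← hz, ← hq]
      exact congrArg (fun z : pullback G.hom (π i) ⟶ C.left => z q) ((hm i).trans (Category.assoc _ _ _).symm)⟩

end Groth.Agent.Corad
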