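import Groth.Agent.Corad.Radical
import Groth.Agent.LimDesc.FPCancel

/-!
# The multiplication of the radical and the derived group, and the product map
-/

set_option autoImplicit false
set_option backward.isDefEq.respectTransparency false
set_option linter.style.haveILetI false
set_option linter.unusedSectionVars false
set_option maxHeartbeats 1000000
set_option synthInstance.maxHeartbeats 400000

universe u

open CategoryTheory Limits MonoidalCategory CartesianMonoidalCategory MonObj GrpObj AlgebraicGeometry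
open scoped CategoryTheory.Obj

noncomputable section

namespace Groth.Agent.Corad

variable {S : Scheme.{u}}

theorem mul_eq {G A B : Over S} [GrpObj G] (a : A ⟶ G) (b : B ⟶ G) :
    (a ⊗ₘ b) ≫ μ[G] = (fst A B ≫ a) * (snd A B ≫ b) := by
  rw [Hom.mul_def]
  congr 1

/-- A flat surjective monomorphism of finite presentation is an isomorphism. -/
theorem isIso_of_mono_covering {A B : Over S} (f : A ⟶ B) [Mono f] [Surjective f.left] [Flat f.left]
    [LocallyOfFinitePresentation f.left] : IsIso f := by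
  haveI : Mono f.left := inferInstance
  obtain ⟨g, hg, -⟩ := CoverMap.existsUnique_fac (f := f)
    ⟨_, f.left, 𝟙 _, Scheme.fppfPrecoverage_le_fpqcPrecoverage _ (f.left.singleton_mem_fppfPrecoverage),
      Category.id_comp _⟩ (𝟙 A) fun X a b h => by rw [(cancel_mono f).1 h]
  haveI : Epi f := CoverMap.epi_over (f := f)
    ⟨_, f.left, 𝟙 _, Scheme.fppfPrecoverage_le_fpqcPrecoverage _ (f.left.singleton_mem_fppfPrecoverage),
      Category.id_comp _⟩
  exact ⟨g, hg, by rw [← cancel_epi f, reassoc_of% hg, Category.comp_id]⟩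

section Formal

variable {G D C R : Over S} [GrpObj G] [GrpObj D] [GrpObj C] [GrpObj R] (d : D ⟶ G) (f₀ : G ⟶ C)
  [IsMonHom f₀] (hker : AlgGrp.IsKernel d f₀) (rj : R ⟶ G) [IsMonHom rj]
include hker

/-- Multiplication is a base change of the composite into the quotient. -/
theorem isPullback_mul : IsPullback ((rj ⊗ₘ d) ≫ μ[G]) (fst R D) f₀ (rj ≫ f₀) := by
  obtain ⟨hm, hp⟩ := kernel_pts hker
  haveI := hm
  rw [mul_eq]
  have hex : ∀ t : PullbackCone f₀ (rj ≫ f₀), ∃ z : t.pt ⟶ D, z ≫ d = (t.snd ≫ rj)⁻¹ * t.fst := fun t => (hp _).2 (by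
    rw [MonObj.mul_comp, GrpObj.inv_comp, t.condition, Category.assoc, inv_mul_cancel])
  choose z hz using hex
  refine ⟨⟨?_⟩, ⟨PullbackCone.IsLimit.mk _ (fun t => lift t.snd (z t)) (fun t => ?_) (fun t => lift_fst _ _)
    fun t g hg1 hg2 => ?_⟩⟩
  · rw [MonObj.mul_comp, Category.assoc, Category.assoc, (hp d).1 ⟨𝟙 D, Category.id_comp d⟩, MonObj.comp_one,
      _root_.mul_one]
  · rw [MonObj.comp_mul, lift_fst_assoc, lift_snd_assoc, hz t, mul_inv_cancel_left]
  · refine CartesianMonoidalCategory.hom_ext _ _ (hg2.trans (lift_fst _ _).symm) ((cancel_mono d).1 ?_)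
    rw [Category.assoc, Category.assoc, lift_snd_assoc, hz t]
    rw [MonObj.comp_mul, ← Category.assoc, hg2] at hg1
    exact eq_inv_mul_iff_mul_eq.2 hg1

theorem mono_comp_of_inter [Mono rj] (hI : ∀ (X : Over S) (x : X ⟶ R) (y : X ⟶ D), x ≫ rj = y ≫ d → x = 1) :
    Mono (rj ≫ f₀) := by
  obtain ⟨hm, hp⟩ := kernel_pts hker
  refine MTImage.mono_of_ker (rj ≫ f₀) fun X x hx => ?_
  obtain ⟨y, hy⟩ := (hp (x ≫ rj)).2 (by rw [Category.assoc, hx])
  exact hI X x y hy.symm

theorem isIso_mul_iff [IsMonHom d] [Mono rj] [Surjective (rj ≫ f₀).left] [Flat (rj ≫ f₀).left]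
    [LocallyOfFinitePresentation (rj ≫ f₀).left] :
    IsIso ((rj ⊗ₘ d) ≫ μ[G]) ↔ ∀ (X : Over S) (x : X ⟶ R) (y : X ⟶ D), x ≫ rj = y ≫ d → x = 1 := by
  refine ⟨fun hiso X x y hxy => ?_, fun hI => ?_⟩
  · have h1 : lift x y⁻¹ ≫ (rj ⊗ₘ d) ≫ μ[G] = lift (1 : X ⟶ R) 1 ≫ (rj ⊗ₘ d) ≫ μ[G] := by
      rw [mul_eq, MonObj.comp_mul, MonObj.comp_mul, lift_fst_assoc, lift_snd_assoc, lift_fst_assoc, lift_snd_assoc,
        GrpObj.inv_comp, hxy, mul_inv_cancel, MonObj.one_comp, MonObj.one_comp, _root_.mul_one]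
    simpa using congrArg (· ≫ fst R D) ((cancel_mono _).1 h1)
  · haveI := mono_comp_of_inter d f₀ hker rj hI
    haveI := isIso_of_mono_covering (rj ≫ f₀)
    exact (isPullback_mul d f₀ hker rj).isIso_fst_of_isIso

end Formal

section Main

variable {G D C Z R : Over S} [GrpObj G] [GrpObj D] [GrpObj C] [GrpObj Z] [GrpObj R] (hG : Red.IsReductive G)
  {d : D ⟶ G} {f₀ : G ⟶ C} (h : IsCorad d f₀) (j : Z ⟶ G) (hZ : Red.IsCentre j) (r : R ⟶ Z)
  (hR : Red.IsMaximalTorus r)
include hG h hZ hR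

/-- **The multiplication of the radical and the derived group is an isogeny.** -/
theorem isogeny_mul : Surjective (((r ≫ j) ⊗ₘ d) ≫ μ[G]).left ∧ Flat (((r ≫ j) ⊗ₘ d) ≫ μ[G]).left ∧
    IsFinite (((r ≫ j) ⊗ₘ d) ≫ μ[G]).left := by
  haveI := h.hf; haveI := hZ.1; haveI := hR.1
  obtain ⟨h1, h2, h3⟩ := isogeny_radical hG h j hZ r hR
  have sq := (isPullback_mul d f₀ h.ker (r ≫ j)).map (Over.forget S)
  rw [show (r ≫ j) ≫ f₀ = r ≫ j ≫ f₀ from Category.assoc _ _ _] at sq
  exact ⟨MorphismProperty.of_isPullback sq.flip h1, MorphismProperty.of_isPullback sq.flip h2,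
    MorphismProperty.of_isPullback sq.flip h3⟩

theorem lfp_radical : LocallyOfFinitePresentation ((r ≫ j) ≫ f₀).left := by
  obtain ⟨-, -, h3⟩ := isogeny_radical hG h j hZ r hR
  haveI := MTImage.smooth_torus h.torus
  haveI := MTImage.smooth_torus hR.2.2.1
  haveI : LocallyOfFinitePresentation (((r ≫ j) ≫ f₀).left ≫ C.hom) := by rw [Over.w]; infer_instance
  exact Groth.Agent.LimDesc.lfp_of_comp ((r ≫ j) ≫ f₀).left C.hom

theorem mono_radical : Mono (r ≫ j) := by
  haveI := hZ.2.1; haveI := hR.2.1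
  infer_instance

end Main

end Groth.Agent.Corad
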