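import Groth.Agent.Corad.Global
import Groth.Agent.MTBridge.MonoClosed
import Groth.Agent.MTImage.Kernel
import Groth.Agent.MTImage.Normalized

/-!
# The derived group is determined by its properties
-/

set_option autoImplicit false
set_option backward.isDefEq.respectTransparency false
set_option linter.style.haveILetI false
set_option linter.unusedSectionVars false
set_option maxHeartbeats 1000000
set_option synthInstance.maxHeartbeats 400000

universe u

open CategoryTheory Limits MonoidalCategory CartesianMonoidalCategory MonObj GrpObj AlgebraicGeometry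
open scoped CategoryTheory.Obj

noncomputable section

namespace Groth.Agent.Corad

open Groth.Agent.MTBridge

variable {S : Scheme.{u}} {G D C : Over S} [GrpObj G] [GrpObj D] [GrpObj C]

/-- The properties of the derived group and the coradical. -/
structure IsCorad (d : D ⟶ G) (f₀ : G ⟶ C) : Prop where
  hd : IsMonHom d
  hf : IsMonHom f₀
  comm : ∀ (X : Over S) (a b : X ⟶ C), a * b = b * a
  torus : Red.IsTorus C
  affine : IsAffineHom C.hom
  smooth : Smooth f₀.left
  surj : Surjective f₀.left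
  closed : IsClosedImmersion d.left
  ker : AlgGrp.IsKernel d f₀
  quot : RedSub.IsQuotient d f₀
  smoothD : Smooth D.hom
  conn : RedSub.HasConnectedFibres D
  killed : RedSub.KilledByCommutative d
  loc : ∀ s : S, ∃ (U : Scheme.{u}) (π : U ⟶ S), Etale π ∧ s ∈ Set.range π ∧
    ∃ (E : Red.SplitRed (Red.bc π G)) (m : Red.DS U ↥(coradLattice E) ⟶ Red.bc π C), IsMonHom m ∧ IsIso m ∧
      (E.split.inv.hom.hom ≫ E.i) ≫ (Over.pullback π).map f₀ = Red.DSmap U (coradLattice E).subtype ≫ m

/-- A subgroup killed by commutative groups and cut out by one of them is the derived group. -/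
theorem exists_iso_kernel {D' : Over S} [GrpObj D'] {d : D ⟶ G} {f₀ : G ⟶ C} (h : IsCorad d f₀)
    (d' : D' ⟶ G) [IsMonHom d']
    (hker : ∃ (C : Over S) (_ : GrpObj C) (f₀ : G ⟶ C), IsMonHom f₀ ∧ (∀ (X : Over S) (a b : X ⟶ C), a * b = b * a) ∧
      AlgGrp.IsKernel d' f₀)
    (hkill : RedSub.KilledByCommutative d') : ∃ ε : D' ≅ D, IsMonHom ε.hom ∧ ε.hom ≫ d = d' := by
  obtain ⟨C', _, f', hf', hc', hk'⟩ := hker
  haveI := h.hf; haveI := h.hd; haveI := hf'
  obtain ⟨hm, hp⟩ := kernel_pts h.ker
  obtain ⟨hm', hp'⟩ := kernel_pts hk'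
  haveI := hm; haveI := hm'
  obtain ⟨a, ha⟩ := (hp d').2 (hkill C f₀ h.comm)
  obtain ⟨b, hb⟩ := (hp' d).2 (h.killed C' f' hc')
  haveI : IsMonHom (a ≫ d) := ha.symm ▸ ‹IsMonHom d'›
  refine ⟨⟨a, b, by rw [← cancel_mono d', Category.assoc, hb, ha, Category.id_comp],
    by rw [← cancel_mono d, Category.assoc, ha, hb, Category.id_comp]⟩, ?_, ha⟩
  exact MTBridge.isMonHom_of_points a fun X x y => by
    rw [← cancel_mono d, Category.assoc, ha, MonObj.mul_comp, MonObj.mul_comp, Category.assoc, Category.assoc, ha]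

/-- The derived group and the coradical exist. -/
theorem exists_isCorad (hG : Red.IsReductive G) :
    ∃ (C : Over S) (_ : GrpObj C) (f₀ : G ⟶ C) (D : Over S) (_ : GrpObj D) (d : D ⟶ G), IsCorad d f₀ := by
  obtain ⟨C, gC, f₀, D, gD, d, h1, h2, h3, h4, h5, h6, h7, h8, h9, h10, h11, h12, h13, h14⟩ := exists_coradical hG
  exact ⟨C, gC, f₀, D, gD, d, ⟨h7, h1, h2, h3, h4, h5, h6, h8, h9, h10, h11, h12, h13, h14⟩⟩

theorem isConnected_fibre_iso {X Y : Over S} (ε : X ≅ Y) (h : RedSub.HasConnectedFibres Y) :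
    RedSub.HasConnectedFibres X := fun s => by
  have e : X.hom.base ⁻¹' {s} = ε.inv.left '' (Y.hom.base ⁻¹' {s}) := by
    have hw : ∀ y, X.hom (ε.inv.left y) = Y.hom y := fun y => by
      rw [← Scheme.Hom.comp_apply, Over.w ε.inv]
    ext x
    refine ⟨fun hx => ⟨ε.hom.left x, ?_, ?_⟩, ?_⟩
    · show Y.hom (ε.hom.left x) = s
      rw [← Scheme.Hom.comp_apply, Over.w ε.hom]
      exact hx
    · rw [← Scheme.Hom.comp_apply, ← Over.comp_left, ε.hom_inv_id]
      rfl
    · rintro ⟨y, hy, rfl⟩
      exact (hw y).trans hy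
  rw [e]
  exact (h s).image _ ε.inv.left.continuous.continuousOn

/-- A derived group is the kernel of a coradical. -/
theorem exists_corad_of_ker (hG : Red.IsReductive G) (d : D ⟶ G) [IsMonHom d]
    (hker : ∃ (C : Over S) (_ : GrpObj C) (f₀ : G ⟶ C), IsMonHom f₀ ∧ (∀ (X : Over S) (a b : X ⟶ C), a * b = b * a) ∧
      AlgGrp.IsKernel d f₀)
    (hkill : RedSub.KilledByCommutative d) : ∃ (C : Over S) (_ : GrpObj C) (f₀ : G ⟶ C), IsCorad d f₀ := by
  obtain ⟨C, gC, f₀, D₀, gD, d₀, h⟩ := exists_isCorad hG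
  obtain ⟨ε, hεm, hε⟩ := exists_iso_kernel h d hker hkill
  haveI : IsIso ε.hom.left := ((Over.forget _).mapIso ε).isIso_hom
  haveI := h.hf; haveI := h.hd; haveI := h.closed; haveI := h.smoothD
  haveI := hεm
  obtain ⟨hm, hp⟩ := kernel_pts h.ker
  have hk : AlgGrp.IsKernel d f₀ := by
    show IsPullback d (toUnit D) f₀ η[C]
    exact IsPullback.of_iso h.ker ε.symm (Iso.refl _) (Iso.refl _) (Iso.refl _)
      (by simp [← hε]) (by rw [Iso.refl_hom, Category.comp_id]; exact toUnit_unique _ _) (by simp) (by simp)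
  have hq : IsPullback (fst G D) ((G ◁ d) ≫ μ[G]) f₀ f₀ :=
    IsPullback.of_iso h.quot.2.2.2 (whiskerLeftIso G ε.symm) (Iso.refl _) (Iso.refl _) (Iso.refl _)
      (by simp) (by
        show ((G ◁ d₀) ≫ μ[G]) ≫ 𝟙 G = (G ◁ ε.inv) ≫ (G ◁ d) ≫ μ[G]
        rw [Category.comp_id, ← MonoidalCategory.whiskerLeft_comp_assoc, ← hε, Iso.inv_hom_id_assoc])
      (by simp) (by simp)
  refine ⟨C, gC, f₀, ⟨inferInstance, h.hf, h.comm, h.torus, h.affine, h.smooth, h.surj, ?_, hk,
    ⟨h.quot.1, h.quot.2.1, h.quot.2.2.1, hq⟩, ?_, isConnected_fibre_iso ε h.conn, hkill, h.loc⟩⟩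
  · rw [← hε, Over.comp_left]
    infer_instance
  · rw [← Over.w ε.hom]
    infer_instance

/-- A coradical pinned by its universal properties has all the properties. -/
theorem isCorad_of_pinned (hG : Red.IsReductive G) (d : D ⟶ G) [IsMonHom d] (f₀ : G ⟶ C) [IsMonHom f₀]
    (hC : ∀ (X : Over S) (a b : X ⟶ C), a * b = b * a) (hker : AlgGrp.IsKernel d f₀)
    (hquot : RedSub.IsQuotient d f₀) (hkill : RedSub.KilledByCommutative d) : IsCorad d f₀ := by
  obtain ⟨C₁, gC₁, f₁, h⟩ := exists_corad_of_ker hG d ⟨C, inferInstance, f₀, inferInstance, hC, hker⟩ hkill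
  haveI := h.hf; haveI := h.smooth; haveI := h.surj; haveI := h.affine
  haveI := hquot.1; haveI := hquot.2.1; haveI := hquot.2.2.1
  obtain ⟨hm₁, hp₁⟩ := kernel_pts h.ker
  obtain ⟨hm₀, hp₀⟩ := kernel_pts hker
  have cov : ∀ {A B : Over S} (q : A ⟶ B) [Surjective q.left] [Flat q.left] [LocallyOfFinitePresentation q.left],
      CoverMap.Covers q.left := fun q _ _ _ =>
    ⟨_, q.left, 𝟙 _, Scheme.fppfPrecoverage_le_fpqcPrecoverage _ (q.left.singleton_mem_fppfPrecoverage),
      Category.id_comp _⟩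
  obtain ⟨m, hm, hm'⟩ := MTImage.exists_desc_hom f₀ (cov f₀) f₁ fun X x hx => by
    obtain ⟨z, hz⟩ := (hp₀ x).2 hx
    exact (hp₁ x).1 ⟨z, hz⟩
  obtain ⟨n, hn, hn'⟩ := MTImage.exists_desc_hom f₁ (cov f₁) f₀ fun X x hx => by
    obtain ⟨z, hz⟩ := (hp₁ x).2 hx
    exact (hp₀ x).1 ⟨z, hz⟩
  haveI := CoverMap.epi_over (cov f₀)
  haveI := CoverMap.epi_over (cov f₁)
  let φ : C ≅ C₁ := ⟨m, n, by rw [← cancel_epi f₀, reassoc_of% hm', hn', Category.comp_id],
    by rw [← cancel_epi f₁, reassoc_of% hn', hm', Category.comp_id]⟩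
  haveI : IsMonHom φ.hom := hm
  haveI : IsMonHom φ.inv := hn
  haveI : IsIso φ.inv := φ.isIso_inv
  haveI : IsIso n.left := ((Over.forget _).mapIso φ).isIso_inv
  haveI : IsIso m.left := ((Over.forget _).mapIso φ).isIso_hom
  refine ⟨inferInstance, inferInstance, hC, ?_, ?_, ?_, hquot.1, h.closed, hker, hquot, h.smoothD, h.conn, hkill,
    fun s => ?_⟩
  · exact RootBase.isTorus_of_grpIso (RootBase.grpIso φ.inv) h.torus
  · rw [← Over.w m]
    infer_instance
  · rw [← hn', Over.comp_left]
    infer_instance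
  · obtain ⟨U, π, het, hs, E, μ', hμ, hμi, hμf⟩ := h.loc s
    haveI := hμ; haveI := hμi
    haveI : IsIso ((Over.pullback π).map n) := Functor.map_isIso (Over.pullback π) φ.inv
    exact ⟨U, π, het, hs, E, μ' ≫ (Over.pullback π).map n, inferInstance, inferInstance, by
      rw [← hn', Functor.map_comp, ← Category.assoc, hμf, Category.assoc]⟩

/-- An extension of a group with connected fibres by one has connected fibres. -/
theorem hasConnectedFibres_of_ext {H T : Over S} [GrpObj H] [GrpObj T] (g : H ⟶ T) [IsMonHom g]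
    [Surjective g.left] [Flat g.left] [LocallyOfFinitePresentation g.left] {K : Over S} [GrpObj K] [Smooth K.hom]
    (j : K ⟶ H) [IsMonHom j] (hj : ∀ {X : Over S} (x : X ⟶ H), x ≫ g = 1 → ∃ z : X ⟶ K, z ≫ j = x)
    (hj' : j ≫ g = 1) (hK : RedSub.HasConnectedFibres K) (hT : RedSub.HasConnectedFibres T) :
    RedSub.HasConnectedFibres H := by
  have hop : IsOpenMap g.left.base := g.left.isOpenMap
  have hfib : ∀ t : T.left, _root_.IsConnected (g.left.base ⁻¹' {t}) := fun t => by
    obtain ⟨x₀, hx₀⟩ := Surjective.surj (f := g.left) t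
    let m : H ⊗ K ⟶ H := fst H K * (snd H K ≫ j)
    have hm : ∀ p, g.left (m.left p) = g.left ((fst H K).left p) := fun p => by
      have e : m ≫ g = fst H K ≫ g := by
        rw [MonObj.mul_comp, Category.assoc, hj', MonObj.comp_one, _root_.mul_one]
      exact congrArg (fun z : H ⊗ K ⟶ T => z.left p) e
    let F := (fst H K).left.base ⁻¹' {x₀}
    have hF : _root_.IsConnected F := by
      have h₀ := (MTImage.isConnected_fibre_bc K hK H.hom x₀).image _
        (pullbackSymmetry K.hom H.hom).hom.continuous.continuousOn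
      have e : (pullbackSymmetry K.hom H.hom).hom '' ((Red.bc H.hom K).hom.base ⁻¹' {x₀}) = F := by
        have hw : ∀ q, (fst H K).left ((pullbackSymmetry K.hom H.hom).hom q) = (Red.bc H.hom K).hom q := fun q =>
          congrArg (fun z : pullback K.hom H.hom ⟶ H.left => z q) (pullbackSymmetry_hom_comp_fst K.hom H.hom)
        ext y
        refine ⟨?_, fun hy => ⟨(pullbackSymmetry K.hom H.hom).inv y, ?_, ?_⟩⟩
        · rintro ⟨q, hq, rfl⟩
          exact (hw q).trans hq
        · show (Red.bc H.hom K).hom _ = x₀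
          rw [← hw, ← Scheme.Hom.comp_apply, Iso.inv_hom_id]
          exact hy
        · rw [← Scheme.Hom.comp_apply, Iso.inv_hom_id]
          rfl
      rwa [e] at h₀
    have himg : m.left '' F = g.left.base ⁻¹' {t} := by
      apply Set.Subset.antisymm
      · rintro _ ⟨p, hp, rfl⟩
        show g.left (m.left p) = t
        rw [hm, show (fst H K).left p = x₀ from hp, hx₀]
      · intro y hy
        let P : Over S := Over.mk (pullback.fst g.left g.left ≫ H.hom)
        let a : P ⟶ H := Over.homMk (pullback.fst g.left g.left) rfl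
        let b : P ⟶ H := Over.homMk (pullback.snd g.left g.left) (by
          show pullback.snd g.left g.left ≫ H.hom = pullback.fst g.left g.left ≫ H.hom
          rw [← Over.w g, pullback.condition_assoc])
        obtain ⟨z, hz⟩ := hj (a⁻¹ * b) (by
          rw [MonObj.mul_comp, GrpObj.inv_comp, inv_mul_eq_one]
          exact Over.OverMorphism.ext pullback.condition)
        obtain ⟨p, hp1, hp2⟩ := Scheme.Pullback.exists_preimage_pullback x₀ y (hx₀.trans (Eq.symm hy))
        refine ⟨(lift a z).left p, ?_, ?_⟩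
        · show (fst H K).left ((lift a z).left p) = x₀
          exact (congrArg (fun q : P ⟶ H => q.left p) (lift_fst a z)).trans hp1
        · have e : lift a z ≫ m = b := by
            rw [MonObj.comp_mul, lift_fst, lift_snd_assoc, hz, mul_inv_cancel_left]
          exact (congrArg (fun q : P ⟶ H => q.left p) e).trans hp2
    rw [← himg]
    exact hF.image _ m.left.continuous.continuousOn
  intro s
  have h := hT s
  have hpre : g.left.base ⁻¹' (T.hom.base ⁻¹' {s}) = H.hom.base ⁻¹' {s} := by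
    rw [← Set.preimage_comp]
    exact congrArg (fun z : H.left ⟶ S => z.base ⁻¹' {s}) (Over.w g)
  rw [← hpre]
  let A := T.hom.base ⁻¹' {s}
  haveI : ConnectedSpace A := Subtype.connectedSpace h
  let g' : g.left.base ⁻¹' A → A := A.restrictPreimage g.left.base
  have hg' : IsOpenMap g' := hop.restrictPreimage A
  have hg'c : Continuous g' := g.left.continuous.restrictPreimage
  have hg's : Function.Surjective g' := fun a => by
    obtain ⟨x, hx⟩ := Surjective.surj (f := g.left) a.1
    exact ⟨⟨x, by show g.left x ∈ A; rw [hx]; exact a.2⟩, Subtype.ext hx⟩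
  have hfib' : ∀ a : A, _root_.IsConnected (g' ⁻¹' {a}) := fun a => by
    have e : g' ⁻¹' {a} = Subtype.val ⁻¹' (g.left.base ⁻¹' {a.1}) := by
      ext x
      exact Subtype.ext_iff
    rw [e]
    refine ⟨?_, ?_⟩
    · obtain ⟨x, hx⟩ := (hfib a.1).1
      exact ⟨⟨x, by show g.left x ∈ A; rw [show g.left x = a.1 from hx]; exact a.2⟩, hx⟩
    · rw [← Topology.IsInducing.subtypeVal.isPreconnected_image, Subtype.image_preimage_coe,
        Set.inter_eq_right.2 (fun x hx => by show g.left x ∈ A; rw [show g.left x = a.1 from hx]; exact a.2)]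
      exact (hfib a.1).2
  have h2 := (hg'.isQuotientMap hg'c hg's).isCoinducing.isConnected_preimage_of_isClosed hfib' isClosed_univ
    isConnected_univ
  rw [Set.preimage_univ] at h2
  have h3 := h2.image Subtype.val continuous_subtype_val.continuousOn
  rwa [Set.image_univ, Subtype.range_coe_subtype] at h3

end Groth.Agent.Corad
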