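import Groth.Agent.Corad.Isogeny
import Groth.Agent.CoverMap.Group

/-!
# The map to the product of the coradical and the semisimple quotient
-/

set_option autoImplicit false
set_option backward.isDefEq.respectTransparency false
set_option linter.style.haveILetI false
set_option linter.unusedSectionVars false
set_option maxHeartbeats 1000000
set_option synthInstance.maxHeartbeats 400000

universe u

open CategoryTheory Limits MonoidalCategory CartesianMonoidalCategory MonObj GrpObj AlgebraicGeometry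
open scoped CategoryTheory.Obj

noncomputable section

namespace Groth.Agent.Corad

variable {S : Scheme.{u}} {G C R SS : Over S} [GrpObj G] [GrpObj C] [GrpObj R] (f₀ : G ⟶ C) [IsMonHom f₀]
  (rj : R ⟶ G) [IsMonHom rj] [Mono rj] (q : G ⟶ SS) (hq : RedSub.IsQuotient rj q)

/-- The shear of a map to a group. -/
def shearHom : G ⊗ C ≅ C ⊗ G where
  hom := lift ((fst G C ≫ f₀) * snd G C) (fst G C)
  inv := lift (snd C G) ((snd C G ≫ f₀)⁻¹ * fst C G)
  hom_inv_id := by
    apply CartesianMonoidalCategory.hom_ext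
    · simp
    · simp [MonObj.comp_mul, GrpObj.comp_inv, lift_fst_assoc, lift_snd_assoc]
  inv_hom_id := by
    apply CartesianMonoidalCategory.hom_ext
    · simp [MonObj.comp_mul, lift_fst_assoc, lift_snd_assoc]
    · simp

include hq in
theorem isPullback_prod : IsPullback (fst G R * (snd G R ≫ rj)) ((G ◁ (rj ≫ f₀)) ≫ (shearHom f₀).hom) (lift f₀ q) (C ◁ q) := by
  have hsq := hq.2.2.2
  have hμ : (G ◁ rj) ≫ μ[G] = fst G R * (snd G R ≫ rj) := by
    rw [Hom.mul_def]
    congr 1
  rw [hμ] at hsq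
  have hsnd : (G ◁ (rj ≫ f₀)) ≫ (shearHom f₀).hom =
      lift ((fst G R ≫ f₀) * (snd G R ≫ rj ≫ f₀)) (fst G R) := by
    apply CartesianMonoidalCategory.hom_ext
    · simp [shearHom, MonObj.comp_mul]
    · simp [shearHom]
  rw [hsnd]
  refine ⟨⟨?_⟩, ⟨PullbackCone.IsLimit.mk _ (fun t => hsq.lift (t.snd ≫ snd C G) t.fst ?_) (fun t => hsq.lift_snd _ _ _)
    (fun t => ?_) fun t g hg1 hg2 => ?_⟩⟩
  · apply CartesianMonoidalCategory.hom_ext
    · simp [MonObj.mul_comp]
    · simp only [Category.assoc, lift_snd, whiskerLeft_snd, lift_snd_assoc]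
      exact hsq.w.symm
  · have h := congrArg (· ≫ snd C SS) t.condition
    simp only [Category.assoc, lift_snd, whiskerLeft_snd] at h
    rw [Category.assoc]
    exact h.symm
  · apply CartesianMonoidalCategory.hom_ext
    · rw [Category.assoc, lift_fst]
      have h2 := congrArg (· ≫ f₀) (hsq.lift_snd (t.snd ≫ snd C G) t.fst (by
        have h := congrArg (· ≫ snd C SS) t.condition
        simp only [Category.assoc, lift_snd, whiskerLeft_snd] at h
        rw [Category.assoc]
        exact h.symm))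
      have h3 := congrArg (· ≫ fst C SS) t.condition
      simp only [Category.assoc, lift_fst, whiskerLeft_fst] at h3
      rw [← h3, ← h2, MonObj.comp_mul]
      simp only [MonObj.mul_comp, MonObj.comp_mul, Category.assoc]
    · simp only [Category.assoc, lift_snd, IsPullback.lift_fst]
  · refine hsq.hom_ext ?_ (hg1.trans (hsq.lift_snd _ _ _).symm)
    rw [hsq.lift_fst, ← hg2, Category.assoc, lift_snd]

include hq in
/-- The map to the product is an isogeny when the composite into the coradical is. -/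
theorem isogeny_prod (hs : Surjective (rj ≫ f₀).left) (hfl : Flat (rj ≫ f₀).left) (hfin : IsFinite (rj ≫ f₀).left) :
    Surjective (lift f₀ q).left ∧ Flat (lift f₀ q).left ∧ IsFinite (lift f₀ q).left := by
  haveI := hq.1; haveI := hq.2.1; haveI := hq.2.2.1
  have hψ : CoverMap.Covers (C ◁ q).left :=
    CoverMap.Covers.of_isPullback
      ⟨_, q.left, 𝟙 _, Scheme.fppfPrecoverage_le_fpqcPrecoverage _ (q.left.singleton_mem_fppfPrecoverage),
        Category.id_comp _⟩ (Assoc.isPullback_whiskerLeft q).flip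
  have sq := (isPullback_prod f₀ rj q hq).map (Over.forget S)
  haveI : IsIso (shearHom f₀).hom.left := ((Over.forget _).mapIso (shearHom f₀)).isIso_hom
  have hw : ∀ (P : MorphismProperty Scheme.{u}) [P.IsStableUnderBaseChange] [P.RespectsIso],
      P (rj ≫ f₀).left → P ((G ◁ (rj ≫ f₀)) ≫ (shearHom f₀).hom).left := fun P _ _ h => by
    rw [Over.comp_left, P.cancel_right_of_respectsIso]
    exact P.of_isPullback (Assoc.isPullback_whiskerLeft (rj ≫ f₀)) h
  refine ⟨⟨fun y => ?_⟩, hψ.descend @Flat sq (hw @Flat hfl), hψ.descend @IsFinite sq (hw @IsFinite hfin)⟩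
  haveI := hψ.surjective
  haveI : Surjective ((G ◁ (rj ≫ f₀)) ≫ (shearHom f₀).hom).left := hw @Surjective hs
  obtain ⟨x, rfl⟩ := Surjective.surj (f := (C ◁ q).left) y
  obtain ⟨z, rfl⟩ := Surjective.surj (f := ((G ◁ (rj ≫ f₀)) ≫ (shearHom f₀).hom).left) x
  exact ⟨(fst G R * (snd G R ≫ rj)).left z, congrArg (fun m : (G ⊗ R).left ⟶ (C ⊗ SS).left => m z) sq.w⟩

include hq in
/-- A point killed by the quotient lies in the subgroup. -/
theorem exists_of_quotient_one [GrpObj SS] [IsMonHom q] {X : Over S} (g : X ⟶ G) (h : g ≫ q = 1) :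
    ∃ x : X ⟶ R, x ≫ rj = g := by
  have hμ : (G ◁ rj) ≫ μ[G] = fst G R * (snd G R ≫ rj) := by
    rw [Hom.mul_def]
    congr 1
  have hsq := hq.2.2.2
  rw [hμ] at hsq
  refine ⟨hsq.lift 1 g (by rw [h, MonObj.one_comp]) ≫ snd G R, ?_⟩
  have h2 := hsq.lift_snd (1 : X ⟶ G) g (by rw [h, MonObj.one_comp])
  rw [MonObj.comp_mul, hsq.lift_fst, _root_.one_mul] at h2
  rw [Category.assoc]
  exact h2

include hq in
theorem quotient_kills [GrpObj SS] [IsMonHom q] {X : Over S} (x : X ⟶ R) : x ≫ rj ≫ q = 1 := by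
  have hμ : (G ◁ rj) ≫ μ[G] = fst G R * (snd G R ≫ rj) := by
    rw [Hom.mul_def]
    congr 1
  have h := congrArg (lift (1 : X ⟶ G) x ≫ ·) hq.2.2.2.w
  simp only [hμ] at h
  rw [lift_fst_assoc, MonObj.one_comp, MonObj.mul_comp, MonObj.comp_mul, lift_fst_assoc, MonObj.one_comp,
    _root_.one_mul, Category.assoc, lift_snd_assoc] at h
  exact h.symm

include hq in
/-- The map to the product is an isomorphism when the composite into the coradical is. -/
theorem isIso_prod [IsIso (rj ≫ f₀)] [Mono (lift f₀ q)] : IsIso (lift f₀ q) := by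
  haveI := hq.1; haveI := hq.2.1; haveI := hq.2.2.1
  obtain ⟨Z, p, t, hp, ht⟩ : CoverMap.Covers (C ◁ q).left :=
    CoverMap.Covers.of_isPullback
      ⟨_, q.left, 𝟙 _, Scheme.fppfPrecoverage_le_fpqcPrecoverage _ (q.left.singleton_mem_fppfPrecoverage),
        Category.id_comp _⟩ (Assoc.isPullback_whiskerLeft q).flip
  let κ := inv ((G ◁ (rj ≫ f₀)) ≫ (shearHom f₀).hom) ≫ (fst G R * (snd G R ≫ rj))
  have hκ : κ ≫ lift f₀ q = C ◁ q := by
    rw [Category.assoc, (isPullback_prod f₀ rj q hq).w, IsIso.inv_hom_id_assoc]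
  have hcov : CoverMap.Covers (lift f₀ q).left := ⟨Z, p, t ≫ κ.left, hp, by
    rw [Category.assoc, ← Over.comp_left, hκ]; exact ht⟩
  obtain ⟨g, hg, -⟩ := CoverMap.existsUnique_fac hcov (𝟙 G) fun X a b h => by rw [(cancel_mono (lift f₀ q)).1 h]
  haveI := CoverMap.epi_over hcov
  exact ⟨g, hg, by rw [← cancel_epi (lift f₀ q), reassoc_of% hg, Category.comp_id]⟩

end Groth.Agent.Corad
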