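import Groth.Agent.Corad.Pin
import Groth.Agent.S2962
import Groth.Agent.MTSplit.Basic
import Groth.Agent.MTImage.PreimageTorus
import Groth.Agent.GrpSubRep.Fam
import Groth.Agent.Chev.NonAffTori
import Groth.Agent.FpqcDescent.Props

/-!
# The radical and the coradical
-/

set_option autoImplicit false
set_option backward.isDefEq.respectTransparency false
set_option linter.style.haveILetI false
set_option linter.unusedSectionVars false
set_option maxHeartbeats 1000000
set_option synthInstance.maxHeartbeats 400000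

universe u

open CategoryTheory Limits MonoidalCategory CartesianMonoidalCategory MonObj GrpObj AlgebraicGeometry
open scoped CategoryTheory.Obj

noncomputable section

namespace Groth.Agent.Corad

open Groth.Agent.MTBridge Groth.Agent.HomDiag Groth.Agent.RootIntrinsic

variable {S : Scheme.{u}}

section Field

variable {K : Type u} [Field K] [IsAlgClosed K]

/-- A maximal torus of a group of multiplicative type contains every subtorus. -/
theorem exists_factor_maxTorus {Z R A : Over (Spec (CommRingCat.of K))} [GrpObj Z] [GrpObj R] [GrpObj A]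
    (hZ : SGA3x.IsMultTypeFT Z) (r : R ⟶ Z) (hR : Red.IsMaximalTorus r) (a : A ⟶ Z) [IsMonHom a]
    (hA : Red.IsTorus A) : ∃ b : A ⟶ R, b ≫ r = a := by
  haveI := hR.1; haveI := hR.2.1
  obtain ⟨n₁, h1⟩ := Chev.exists_split_algClosed hR.2.2.1
  obtain ⟨n₂, h2⟩ := Chev.exists_split_algClosed hA
  haveI : ConnectedSpace ↥(Spec (CommRingCat.of K)) := inferInstanceAs (ConnectedSpace (PrimeSpectrum K))
  obtain ⟨Q, _, m, g, g', n, hm, hmono, hQ, hg, hg'⟩ := MTSplit.exists_sup_split hZ r a h1 h2
  haveI := hm; haveI := hmono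
  haveI : IsMonHom g := MTSplit.isMonHom_of_comp_mono g m r hg
  haveI : IsIso g := (Chev.Borel.isMaxTorus_of_isMaximalTorus r hR).2.2.2 Q m g
    (MTSplit.isTorus_of_locSplit (MTSplit.locSplitRank_of_split hQ).locSplit) hg
  exact ⟨g' ≫ inv g, by rw [Category.assoc, ← hg', ← hg, IsIso.inv_hom_id_assoc]⟩

end Field

variable {G Z : Over S} [GrpObj G] [GrpObj Z]

/-- The centre is closed of multiplicative type. -/
theorem centre_facts (hG : Red.IsReductive G) (j : Z ⟶ G) (hZ : Red.IsCentre j) :
    IsClosedImmersion j.left ∧ SGA3x.IsMultTypeFT Z ∧ IsAffineHom Z.hom := by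
  haveI := hZ.1; haveI := hZ.2.1
  obtain ⟨Z₀, _, z, hz, hzc, hm⟩ := RedCartan.exists_centre_of_isReductive hG
  haveI := hz.1; haveI := hz.2.1; haveI := hzc
  obtain ⟨a, ha⟩ := (hz.2.2 Z j).2 ((hZ.2.2 Z j).1 ⟨𝟙 Z, Category.id_comp j⟩)
  obtain ⟨b, hb⟩ := (hZ.2.2 Z₀ z).2 ((hz.2.2 Z₀ z).1 ⟨𝟙 Z₀, Category.id_comp z⟩)
  let φ : Z ≅ Z₀ := ⟨a, b, by rw [← cancel_mono j, Category.assoc, hb, ha, Category.id_comp],
    by rw [← cancel_mono z, Category.assoc, ha, hb, Category.id_comp]⟩
  haveI : IsMonHom φ.hom := MTSplit.isMonHom_of_comp_mono a z j ha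
  haveI : IsIso a.left := ((Over.forget _).mapIso φ).isIso_hom
  haveI : IsIso φ.hom := φ.isIso_hom
  have hcl : IsClosedImmersion j.left := by rw [← ha, Over.comp_left]; infer_instance
  refine ⟨hcl, ?_, ?_⟩
  · obtain ⟨S', g, h1, h2, h3, h4⟩ := hm
    refine ⟨S', g, h1, h2, h3, fun s => ?_⟩
    obtain ⟨U, hs, M, i, hfg, ⟨e⟩⟩ := h4 s
    exact ⟨U, hs, M, i, hfg, ⟨bcMapIso _ (RootBase.grpIso φ.hom) ≪≫ e⟩⟩
  · haveI := hcl; haveI := hG.1
    rw [← Over.w j]
    infer_instance

/-- Central points of a base change lie in the base change of the centre. -/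
theorem exists_lift_centre (j : Z ⟶ G) (hZ : Red.IsCentre j) {U : Scheme.{u}} (π : U ⟶ S) {X : Over U}
    (x : X ⟶ Red.bc π G) (hx : ∀ (X' : Over U) (a : X' ⟶ X) (g : X' ⟶ Red.bc π G), (a ≫ x) * g = g * (a ≫ x)) :
    ∃ z : X ⟶ Red.bc π Z, z ≫ (Over.pullback π).map j = x := by
  obtain ⟨x, rfl⟩ := exists_toBC' π x
  obtain ⟨z, hz⟩ := (hZ.2.2 _ x).2 fun X' a h => by
    let X'' : Over U := Over.mk (a.left ≫ X.hom)
    let a' : X'' ⟶ X := Over.homMk a.left rfl
    let ε : (Over.map π).obj X'' ≅ X' := Over.isoMk (Iso.refl _) (by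
      show 𝟙 _ ≫ X'.hom = (a.left ≫ X.hom) ≫ π
      rw [Category.id_comp, Category.assoc, ← Over.w a]
      rfl)
    have hε : (Over.map π).map a' = ε.hom ≫ a := Over.OverMorphism.ext (Category.id_comp _).symm
    have h0 := hx X'' a' (toBC π (ε.hom ≫ h))
    rw [← toBC_naturality, ← toBC_mul, ← toBC_mul] at h0
    have h1 := toBC_inj π h0
    rw [hε] at h1
    rw [Category.comp_id, ← cancel_epi ε.hom, MonObj.comp_mul, MonObj.comp_mul, ← Category.assoc]
    exact h1
  exact ⟨toBC π z, by rw [← toBC_comp, hz]⟩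

section Chart

variable {U : Scheme.{u}} (E : Red.SplitRed G) {Q : Over S} [GrpObj Q] (f : G ⟶ Q) [IsMonHom f]
  (m : Red.DS S ↥(coradLattice E) ⟶ Q) [IsMonHom m] [IsIso m]
  (hm : (E.split.inv.hom.hom ≫ E.i) ≫ f = Red.DSmap S (coradLattice E).subtype ≫ m)
include hm

theorem kerRoots_comp : RootIntrinsic.kerRoots E ≫ f =
    Red.DSmap S ((QuotientAddGroup.mk' _).comp (coradLattice E).subtype :
      ↥(coradLattice E) →+ RootIntrinsic.KerChar E) ≫ m := by
  rw [RootIntrinsic.kerRoots, Category.assoc, Category.assoc, ← Category.assoc _ E.i f, hm, ← Category.assoc,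
    MTQuot.DSmap_comp]

/-- A central subtorus mapping onto the coradical. -/
theorem exists_central_torus :
    ∃ (A : Over S) (_ : GrpObj A) (a : A ⟶ G), IsMonHom a ∧ Red.IsTorus A ∧
      (∀ (X : Over S) (x : X ⟶ A) (g : X ⟶ G), (x ≫ a) * g = g * (x ≫ a)) ∧ Surjective (a ≫ f).left := by
  letI := E.acgM
  haveI := E.finiteM
  let L := RootIntrinsic.KerChar E
  haveI : Module.Finite ℤ L := Module.Finite.of_surjective
    ((QuotientAddGroup.mk' _).toIntLinearMap) (QuotientAddGroup.mk'_surjective _)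
  let F := L ⧸ Submodule.torsion ℤ L
  haveI : Module.Free ℤ F := inferInstance
  obtain ⟨ε⟩ := MTQuot.nonempty_DS_congr (S := S) (Module.finBasis ℤ F).equivFun.toAddEquiv.symm
  let p : L →+ F := (Submodule.mkQ _).toAddMonoidHom
  haveI : IsMonHom (Red.DSmap S p) := MTQuot.isMonHom_DSmap _
  refine ⟨Red.DS S F, inferInstance, Red.DSmap S p ≫ RootIntrinsic.kerRoots E, inferInstance,
    RootBase.isTorus_of_grpIso ε.symm (MTCentre.isTorus_DS_scheme S _), fun X x g => ?_, ?_⟩
  · rw [← Category.assoc]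
    exact RootIntrinsic.kerRoots_central E _ g
  · rw [Category.assoc, kerRoots_comp E f m hm, ← Category.assoc, MTQuot.DSmap_comp, Over.comp_left]
    haveI : AddGroup.FG F := Module.Finite.iff_addGroup_fg.1 inferInstance
    haveI : Module.Finite ℤ (coradLattice E) :=
      Module.Finite.of_fg (IsNoetherian.noetherian (coradLattice E).toIntSubmodule)
    haveI : AddGroup.FG (coradLattice E) := Module.Finite.iff_addGroup_fg.1 inferInstance
    haveI : IsIso m.left := ((Over.forget _).mapIso (asIso m)).isIso_hom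
    haveI : Surjective (Red.DSmap S (p.comp ((QuotientAddGroup.mk' _).comp (coradLattice E).subtype))).left := by
      refine (MTQuot.covers_DSmap _ ((injective_iff_map_eq_zero _).2 fun x hx => ?_)).surjective
      obtain ⟨k, hk⟩ := (Submodule.mem_torsion_iff _).1 ((Submodule.Quotient.mk_eq_zero _).1 hx)
      refine Subtype.ext ?_
      have h1 : (k : ℤ) • (x : E.M) = 0 := eq_zero_of_mem_latt_span (P := E.P)
        (AddSubgroup.zsmul_mem _ x.2 _) ((QuotientAddGroup.eq_zero_iff _).1 (by
          rw [QuotientAddGroup.mk_zsmul]; exact hk))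
      haveI := E.freeM
      exact (smul_eq_zero.1 h1).resolve_left (mem_nonZeroDivisors_iff_ne_zero.1 k.2)
    infer_instance

/-- Central points killed by the coradical factor through a finite group. -/
theorem exists_finite_factor :
    ∃ (W : Over S) (w : W ⟶ G), IsFinite W.hom ∧ ∀ (X : Over S) (x : X ⟶ G),
      (∀ (X' : Over S) (a : X' ⟶ X) (g : X' ⟶ G), (a ≫ x) * g = g * (a ≫ x)) → x ≫ f = 1 →
        ∃ y : X ⟶ W, y ≫ w = x := by
  letI := E.acgM
  letI := E.grpT
  haveI := E.finiteM
  haveI := E.fintypeIdx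
  haveI := finite_quot_lattSup (P := E.P)
  haveI : AddGroup.FG E.M := Module.Finite.iff_addGroup_fg.1 inferInstance
  haveI : IsMonHom E.split.inv.hom.hom := E.split.inv.hom.isMonHom_hom
  let w : Red.DS S (E.M ⧸ lattSup E.P) ⟶ G :=
    Red.DSmap S (QuotientAddGroup.mk' (lattSup E.P)) ≫ E.split.inv.hom.hom ≫ E.i
  refine ⟨_, w, (GrpSubRep.isFinite_DS S _).1, fun X x hx hxf => ?_⟩
  obtain ⟨t, ht, hroots⟩ := (S2962.result E X x).1 hx
  let t' := t ≫ E.split.hom.hom.hom
  have h2 : E.split.hom.hom.hom ≫ E.split.inv.hom.hom = 𝟙 E.T := congrArg (fun z => z.hom.hom) E.split.hom_inv_id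
  have htx : t' ≫ E.split.inv.hom.hom ≫ E.i = x := by simp only [t', Category.assoc, reassoc_of% h2, ht]
  have hN : t' ≫ Red.DSmap S (coradLattice E).subtype = 1 := by
    rw [← cancel_mono m, Category.assoc, ← hm, MonObj.one_comp, ← Category.assoc, htx, hxf]
  obtain ⟨y, hy⟩ : ∃ y, y ≫ Red.DSmap S (QuotientAddGroup.mk' (lattSup E.P)) = t' :=
    (MTImage.ker_DSmap_iff (lattSup E.P) t').2 (by
      rw [MTQuot.comp_eq_one_iff]
      intro n hn
      let φ : E.M →+ Additive Γ(X.left, ⊤) :=
        { toFun := fun m => Additive.ofMul (ch t' (Multiplicative.ofAdd m))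
          map_zero' := by rw [ofAdd_zero, map_one]; rfl
          map_add' := fun a b => by rw [ofAdd_add, map_mul]; rfl }
      have hle : lattSup E.P ≤ φ.ker := sup_le (fun a ha => by
          show Additive.ofMul (ch t' (Multiplicative.ofAdd a)) = 0
          rw [(MTQuot.comp_eq_one_iff _ t').1 hN a ha]
          rfl)
        ((AddSubgroup.closure_le _).2 (by
          rintro _ ⟨a, rfl⟩
          show Additive.ofMul (ch t' (Multiplicative.ofAdd (E.P.root a))) = 0
          rw [← gmFn_chi, show t' ≫ Red.chi S (E.P.root a) = 1 by rw [Category.assoc]; exact hroots a,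
            RootIntrinsic.gmFn_one_eq]
          rfl))
      exact congrArg Additive.toMul (hle hn))
  exact ⟨y, by rw [← htx, ← hy, Category.assoc]⟩

end Chart

variable {R D C : Over S} [GrpObj R] [GrpObj D] [GrpObj C] (hG : Red.IsReductive G) {d : D ⟶ G} {f₀ : G ⟶ C}
  (h : IsCorad d f₀) (j : Z ⟶ G) (hZ : Red.IsCentre j) (r : R ⟶ Z) (hR : Red.IsMaximalTorus r)
include hG h hZ

/-- The centre meets the derived group in a finite scheme. -/
theorem isFinite_inter {P : Over S} (p : P ⟶ Z) (q : P ⟶ D) (hsq : IsPullback p q j d) : IsFinite P.hom := by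
  haveI := h.hf; haveI := h.hd; haveI := h.closed; haveI := hZ.1
  obtain ⟨hjc, hZm, hZa⟩ := centre_facts hG j hZ
  obtain ⟨hdm, hdp⟩ := kernel_pts h.ker
  haveI : IsClosedImmersion p.left := MorphismProperty.of_isPullback (hsq.map (Over.forget S)).flip h.closed
  haveI := hjc
  choose U π het hs E m hm hmi hmf using h.loc
  haveI : ∀ s, Etale (π s) := het
  have hcov : Presieve.ofArrows U π ∈ Scheme.fpqcPrecoverage S :=
    Scheme.proetalePrecoverage_le_fpqcPrecoverage _ (Scheme.etalePrecoverage_le_proetalePrecoverage _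
      ((Scheme.ofArrows_mem_precoverage_iff _).2 ⟨fun s => ⟨s, hs s⟩, het⟩))
  refine FpqcDescent.of_fpqcPrecoverage @IsFinite P.hom hcov fun S' t ht => ?_
  obtain ⟨s⟩ := ht
  show IsFinite (Red.bc (π s) P).hom
  haveI := hm s; haveI := hmi s
  obtain ⟨W, w, hW, hWp⟩ := exists_finite_factor (E s) ((Over.pullback (π s)).map f₀) (m s) (hmf s)
  let x := (Over.pullback (π s)).map (p ≫ j)
  obtain ⟨y, hy⟩ := hWp _ x (fun X' a g => by
    obtain ⟨g, rfl⟩ := exists_toBC' (π s) g
    obtain ⟨a, rfl⟩ := exists_toBC' (π s) a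
    rw [← toBC_comp, ← toBC_mul, ← toBC_mul]
    have := (hZ.2.2 P (p ≫ j)).1 ⟨p, rfl⟩ _ a g
    rw [Category.comp_id] at this
    rw [this]) (by
    rw [← Functor.map_comp, Category.assoc, ← Category.assoc, hsq.w, Category.assoc,
      (hdp d).1 ⟨𝟙 D, Category.id_comp d⟩, MonObj.comp_one]
    exact bc_map_one (π s) P)
  haveI := hW
  haveI : IsClosedImmersion (p ≫ j).left := by rw [Over.comp_left]; infer_instance
  haveI : IsClosedImmersion x.left := MorphismProperty.of_isPullback
    (MTImage.isPullback_map (p ≫ j) (π s)) inferInstance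
  haveI : IsClosedImmersion y.left := by
    haveI : IsClosedImmersion (y.left ≫ w.left) := by rw [← Over.comp_left, hy]; infer_instance
    haveI : IsAffineHom (Red.bc (π s) G).hom :=
      haveI := hG.1; MorphismProperty.pullback_snd G.hom (π s) hG.1
    haveI : IsSeparated w.left := by
      haveI : IsSeparated (w.left ≫ (Red.bc (π s) G).hom) := by rw [Over.w w]; infer_instance
      exact IsSeparated.of_comp w.left (Red.bc (π s) G).hom
    exact IsClosedImmersion.of_comp y.left w.left
  rw [← Over.w y]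
  infer_instance

include hR

/-- **The radical maps onto the coradical.** -/
theorem surjective_radical : Surjective (r ≫ j ≫ f₀).left := by
  haveI := h.hf; haveI := hZ.1; haveI := hR.1
  obtain ⟨hjc, hZm, hZa⟩ := centre_facts hG j hZ
  haveI := hjc; haveI := hZa; haveI := hG.1; haveI := hG.2.1
  haveI : LocallyOfFiniteType Z.hom := by rw [← Over.w j]; infer_instance
  refine ⟨fun c => ?_⟩
  obtain ⟨U, π, het, ⟨u, hu⟩, E, m, hm, hmi, hmf⟩ := h.loc (C.hom c)
  haveI := hm; haveI := hmi
  obtain ⟨A, _, a, ham, hA, hac, hasurj⟩ := exists_central_torus E ((Over.pullback π).map f₀) m hmf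
  haveI := ham
  obtain ⟨a₁, ha₁⟩ := exists_lift_centre j hZ π a fun X' x g => hac X' x g
  haveI : Mono ((Over.pullback π).map j) :=
    haveI := hZ.2.1; MTSplit.mono_bc π j
  haveI : IsMonHom a₁ := MTSplit.isMonHom_of_comp_mono a₁ _ a ha₁
  have hsurj : Surjective ((Over.pullback π).map (r ≫ j ≫ f₀)).left := by
    refine MTImage.surjective_of_geom _ fun v => ?_
    let τ := Red.geomPt v
    haveI : LocallyOfFiniteType (Red.bc π Z).hom := inferInstanceAs (LocallyOfFiniteType (pullback.snd Z.hom π))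
    haveI : QuasiCompact (Red.bc π Z).hom := inferInstanceAs (QuasiCompact (pullback.snd Z.hom π))
    obtain ⟨b, hb⟩ := exists_factor_maxTorus (isMultTypeFT_bc _ τ (isMultTypeFT_bc Z π hZm))
      ((Over.pullback τ).map ((Over.pullback π).map r))
      (Chev.MaxTorusBC.isMaximalTorus_bc _ (Chev.MaxTorusBC.isMaximalTorus_bc r hR π) τ)
      ((Over.pullback τ).map a₁) (Chev.Borel.isTorus_bc_scheme A τ hA)
    haveI hs' : Surjective ((Over.pullback τ).map (a ≫ (Over.pullback π).map f₀)).left :=
      MorphismProperty.of_isPullback (MTImage.isPullback_map _ τ) hasurj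
    have he : (Over.pullback τ).map (a ≫ (Over.pullback π).map f₀) =
        b ≫ (Over.pullback τ).map ((Over.pullback π).map (r ≫ j ≫ f₀)) := by
      rw [← ha₁]
      simp only [Functor.map_comp, Category.assoc, reassoc_of% hb]
    rw [he, Over.comp_left] at hs'
    haveI := hs'
    exact Surjective.of_comp b.left _
  haveI := hsurj
  obtain ⟨c', hc'1, -⟩ := Scheme.Pullback.exists_preimage_pullback c u hu.symm
  obtain ⟨x, hx⟩ := Surjective.surj (f := ((Over.pullback π).map (r ≫ j ≫ f₀)).left) c'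
  refine ⟨pullback.fst R.hom π x, ?_⟩
  rw [← hc'1, ← hx]
  exact congrArg (fun z => z x) (MTImage.isPullback_map (r ≫ j ≫ f₀) π).w

/-- **The radical is isogenous to the coradical.** -/
theorem isogeny_radical :
    Surjective (r ≫ j ≫ f₀).left ∧ Flat (r ≫ j ≫ f₀).left ∧ IsFinite (r ≫ j ≫ f₀).left := by
  have hsurj := surjective_radical hG h j hZ r hR
  haveI := hsurj
  haveI := h.hf; haveI := h.hd; haveI := hZ.1; haveI := hR.1; haveI := hR.2.1; haveI := h.affine
  obtain ⟨hjc, hZm, hZa⟩ := centre_facts hG j hZ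
  haveI := hjc; haveI := hZa; haveI := h.closed
  haveI : Smooth R.hom := MTImage.smooth_torus hR.2.2.1
  haveI : Smooth C.hom := MTImage.smooth_torus h.torus
  have hRt := MTBridge.locally_of_isMultTypeFT' R (MTBridge.isMultTypeFT_of_isTorus R hR.2.2.1)
  haveI : IsClosedImmersion r.left := MTBridge.isClosedImmersion_of_mono hRt hZa r
  haveI : IsAffineHom R.hom := by rw [← Over.w r]; infer_instance
  let ρ := r ≫ j ≫ f₀
  haveI hfl : Flat ρ.left := MTImage.flat_hom ρ
  refine ⟨hsurj, hfl, ?_⟩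
  -- the kernel is finite
  obtain ⟨hdm, hdp⟩ := kernel_pts h.ker
  let P : Over S := pullback j d
  have hP : IsFinite P.hom := isFinite_inter hG h j hZ (pullback.fst j d) (pullback.snd j d) (IsPullback.of_hasPullback j d)
  let K : Over S := pullback r (pullback.fst j d)
  let k : K ⟶ R := pullback.fst _ _
  haveI : IsClosedImmersion (pullback.snd r (pullback.fst j d)).left :=
    MorphismProperty.of_isPullback ((IsPullback.of_hasPullback r (pullback.fst j d)).map (Over.forget S))
      (inferInstanceAs (IsClosedImmersion r.left))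
  haveI : IsFinite K.hom := by
    rw [← Over.w (pullback.snd r (pullback.fst j d))]
    infer_instance
  have hk : ∀ {X : Over S} (x : X ⟶ R), x ≫ ρ = 1 ↔ ∃ z : X ⟶ K, z ≫ k = x := fun {X} x => by
    refine ⟨fun hx => ?_, ?_⟩
    · obtain ⟨y, hy⟩ := (hdp (x ≫ r ≫ j)).2 (by simpa only [ρ, Category.assoc] using hx)
      exact ⟨pullback.lift x (pullback.lift (x ≫ r) y (by rw [Category.assoc, hy])) (pullback.lift_fst _ _ _).symm,
        pullback.lift_fst _ _ _⟩
    · rintro ⟨z, rfl⟩
      simp only [k, ρ, Category.assoc]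
      rw [pullback.condition_assoc, pullback.condition_assoc, (hdp d).1 ⟨𝟙 D, Category.id_comp d⟩,
        MonObj.comp_one, MonObj.comp_one, MonObj.comp_one]
  -- the projection of the self-product is a base change of the kernel
  let m₂ : R ⊗ K ⟶ R := fst R K * (snd R K ≫ k)
  have hkk : k ≫ ρ = 1 := (hk k).2 ⟨𝟙 K, Category.id_comp k⟩
  have hsq : IsPullback m₂ (fst R K) ρ ρ := by
    haveI : Mono k := by
      haveI : Mono (pullback.fst j d) := by
        haveI := hdm
        infer_instance
      infer_instance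
    have hw : m₂ ≫ ρ = fst R K ≫ ρ := by
      rw [MonObj.mul_comp, Category.assoc, hkk, MonObj.comp_one, _root_.mul_one]
    have hex : ∀ t : PullbackCone ρ ρ, ∃ z : t.pt ⟶ K, z ≫ k = t.snd⁻¹ * t.fst := fun t => (hk _).1 (by
      rw [MonObj.mul_comp, GrpObj.inv_comp, t.condition, inv_mul_cancel])
    choose z hz using hex
    refine ⟨⟨hw⟩, ⟨PullbackCone.IsLimit.mk _ (fun t => lift t.snd (z t)) (fun t => ?_) (fun t => lift_fst _ _)
      fun t g hg1 hg2 => ?_⟩⟩
    · rw [MonObj.comp_mul, lift_fst, lift_snd_assoc, hz t, mul_inv_cancel_left]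
    · refine CartesianMonoidalCategory.hom_ext _ _ (hg2.trans (lift_fst _ _).symm) ((cancel_mono k).1 ?_)
      rw [Category.assoc, Category.assoc, lift_snd_assoc, hz t]
      rw [MonObj.comp_mul, hg2] at hg1
      exact eq_inv_mul_iff_mul_eq.2 hg1
  haveI : IsFinite (fst R K).left := inferInstanceAs (IsFinite (pullback.fst R.hom K.hom))
  haveI : QuasiCompact (ρ.left ≫ C.hom) := by rw [Over.w ρ]; infer_instance
  haveI : QuasiCompact ρ.left := QuasiCompact.of_comp _ C.hom
  exact MorphismProperty.of_isPullback_of_descendsAlong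
    (Q := (@Surjective ⊓ @Flat ⊓ @QuasiCompact : MorphismProperty Scheme.{u})) (hsq.flip.map (Over.forget S))
    ⟨⟨hsurj, hfl⟩, (inferInstanceAs (QuasiCompact ρ.left))⟩ (inferInstanceAs (IsFinite (fst R K).left))

end Groth.Agent.Corad
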