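import Groth.Agent.Corad.Isogeny
import Groth.Agent.UniRad.Semisimple
import Groth.Agent.SSPerf.Main
import Groth.Agent.RedQuot.Main
import Groth.Agent.GModLib.RadChar
import Groth.Agent.Chev.TorusBasic
import Groth.Agent.MTImage.CartanTransporter
import Groth.Agent.S5286

/-!
# The derived group is semisimple
-/

set_option autoImplicit false
set_option backward.isDefEq.respectTransparency false
set_option linter.style.haveILetI false
set_option linter.unusedSectionVars false
set_option maxHeartbeats 1000000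
set_option synthInstance.maxHeartbeats 400000

universe u

open CategoryTheory Limits MonoidalCategory CartesianMonoidalCategory MonObj GrpObj AlgebraicGeometry
open scoped CategoryTheory.Obj

noncomputable section

namespace Groth.Agent.Corad

open Groth.Agent.MTBridge Groth.Agent.Chev Groth.Agent.Chev.BorelFixed Groth.Agent.Chev.Borel

section Field

variable {k : Type u} [Field k] [IsAlgClosed k]

/-- A normal subgroup of a reductive group, generating it with a central subgroup and meeting the centre in a finite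
scheme, is semisimple. -/
theorem isSemisimpleOver_of_complement {G D Z P : Over (Spec (CommRingCat.of k))} [GrpObj G] [GrpObj D]
    (hG : Red.IsReductiveOver k G) (d : D ⟶ G) [IsMonHom d] [IsClosedImmersion d.left] [Smooth D.hom]
    [ConnectedSpace D.left] (hn : AlgGrp.IsNormalHom d)
    (hgen : ∀ g : RP G, ∃ (x : RP G) (n : RP D), (∀ g' : RP G, x * g' = g' * x) ∧ g = x * (n ≫ d))
    [GrpObj Z] (j : Z ⟶ G) (hZ : Red.IsCentre j) (p : P ⟶ Z) (q : P ⟶ D) (hP : IsPullback p q j d)
    (hfin : IsFinite P.hom) : Red.IsSemisimpleOver k D := by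
  obtain ⟨hGa, hGs, hGc, -⟩ := id hG
  haveI := hGa; haveI := hGs; haveI := hGc
  have hDr := UniRad.isReductiveOver_of_normal hG d hn
  refine ⟨hDr, fun T _ t _ htc htn hT => ?_⟩
  haveI := htc
  haveI := isAffine_of_isTorus hT
  haveI := smooth_of_isTorus hT
  haveI := connectedSpace_of_isTorus hT
  haveI : IsReduced T.left := SmoothRed.isReduced_of_smooth_scheme T.hom
  haveI : Mono d := GrpField.SchImg.mono_of_isClosedImmersion d
  haveI : Mono t := GrpField.SchImg.mono_of_isClosedImmersion t
  have hconn : ∀ s : Spec (CommRingCat.of k),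
      ConnectedSpace ↥(pullback D.hom ((Spec (CommRingCat.of k)).fromSpecResidueField s)) := fun s => by
    have h : _root_.IsConnected (D.hom.base ⁻¹' {s}) := by
      haveI : Subsingleton ↥(Spec (CommRingCat.of k)) := inferInstanceAs (Subsingleton (PrimeSpectrum k))
      rw [show D.hom.base ⁻¹' {s} = Set.univ from Set.eq_univ_of_forall fun _ => Subsingleton.elim _ _]
      exact isConnected_univ
    rw [← D.hom.range_fiberι s] at h
    refine connectedSpace_iff_univ.2 ⟨⟨Classical.choice (Set.range_nonempty_iff_nonempty.1 h.nonempty), trivial⟩, ?_⟩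
    exact (D.hom.fiberι s).isEmbedding.isInducing.isPreconnected_image.1 (by rw [Set.image_univ]; exact h.2)
  have hcent := S5255.result D T hconn t (MTBridge.isMultTypeFT_of_isTorus T hT) htn
  -- the torus is central in the group
  haveI : IsSeparated G.hom := inferInstance
  haveI : LocallyOfFiniteType G.hom := inferInstance
  haveI : IsReduced (T ⊗ G).left := by
    haveI : Smooth (T ⊗ G).hom := by
      show Smooth (pullback.fst T.hom G.hom ≫ T.hom)
      infer_instance
    exact SmoothRed.isReduced_of_smooth_scheme (T ⊗ G).hom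
  haveI : LocallyOfFiniteType (T ⊗ G).hom := by
    haveI : Smooth (T ⊗ G).hom := by
      show Smooth (pullback.fst T.hom G.hom ≫ T.hom)
      infer_instance
    infer_instance
  have hrp : ∀ (a : RP T) (g : RP G), (a ≫ t ≫ d) * g = g * (a ≫ t ≫ d) := fun a g => by
    obtain ⟨x, n, hx, rfl⟩ := hgen g
    rw [← _root_.mul_assoc, ← hx (a ≫ t ≫ d), _root_.mul_assoc, ← Category.assoc, ← MonObj.mul_comp,
      ← hcent _ n a, MonObj.mul_comp, _root_.mul_assoc]
  have hcG : (fst T G ≫ t ≫ d) * snd T G = snd T G * (fst T G ≫ t ≫ d) := SSPerf.hom_ext_rp' fun z => by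
    simp only [MonObj.comp_mul, ← Category.assoc z]
    exact hrp _ _
  obtain ⟨a, ha⟩ := (hZ.2.2 T (t ≫ d)).2 fun X' x g => by
    have h := congrArg (lift x g ≫ ·) hcG
    simp only [MonObj.comp_mul, lift_fst_assoc, lift_snd] at h
    rw [Category.comp_id]
    exact h
  let b := hP.lift a t ha
  haveI : IsFinite P.hom := hfin
  haveI : IsFinite T.hom := by
    haveI : IsClosedImmersion (b.left ≫ q.left ≫ d.left) := by
      have e : b ≫ q = t := hP.lift_snd _ _ _
      rw [← Category.assoc, ← Over.comp_left, e]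
      infer_instance
    haveI : IsSeparated (q.left ≫ d.left) := by
      haveI : IsSeparated ((q.left ≫ d.left) ≫ G.hom) := by
        rw [Category.assoc, Over.w d, Over.w q]
        infer_instance
      exact IsSeparated.of_comp _ G.hom
    haveI : IsClosedImmersion b.left := IsClosedImmersion.of_comp b.left (q.left ≫ d.left)
    rw [← Over.w b]
    infer_instance
  haveI : IsProper T.hom := inferInstance
  exact GModLib.isTrivialGrp_of_id_eq_one (eq_one_of_isTorus_of_proper hT (𝟙 T))

end Field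

variable {S : Scheme.{u}} {G D C : Over S} [GrpObj G] [GrpObj D] [GrpObj C]

/-- The centre maps onto the coradical. -/
theorem surjective_centre {Z : Over S} [GrpObj Z] (hG : Red.IsReductive G) {d : D ⟶ G} {f₀ : G ⟶ C}
    (h : IsCorad d f₀) (j : Z ⟶ G) (hZ : Red.IsCentre j) : Surjective (j ≫ f₀).left := by
  haveI := h.hf; haveI := hZ.1
  refine ⟨fun c => ?_⟩
  obtain ⟨U, π, het, ⟨u, hu⟩, E, m, hm, hmi, hmf⟩ := h.loc (C.hom c)
  haveI := hm; haveI := hmi
  obtain ⟨A, _, a, ham, hA, hac, hasurj⟩ := exists_central_torus E ((Over.pullback π).map f₀) m hmf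
  obtain ⟨a₁, ha₁⟩ := exists_lift_centre j hZ π a fun X' x g => hac X' x g
  obtain ⟨c', hc'1, -⟩ := Scheme.Pullback.exists_preimage_pullback c u hu.symm
  haveI := hasurj
  obtain ⟨x, hx⟩ := Surjective.surj (f := (a ≫ (Over.pullback π).map f₀).left) c'
  refine ⟨pullback.fst Z.hom π (a₁.left x), ?_⟩
  rw [← hc'1, ← hx, ← ha₁, Category.assoc, ← Functor.map_comp]
  exact congrArg (fun z : (Red.bc π Z).left ⟶ C.left => z (a₁.left x)) (MTImage.isPullback_map (j ≫ f₀) π).w

/-- **The derived group is semisimple.** -/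
theorem isSemisimple_derived (hG : Red.IsReductive G) {d : D ⟶ G} {f₀ : G ⟶ C} (h : IsCorad d f₀) :
    Red.IsSemisimple D := by
  haveI := h.hd; haveI := h.hf; haveI := h.closed; haveI := h.smoothD; haveI := hG.1; haveI := hG.2.1
  obtain ⟨Z, _, j, hZ, hjc, hZm⟩ := RedCartan.exists_centre_of_isReductive hG
  haveI := hZ.1; haveI := hZ.2.1; haveI := hjc
  obtain ⟨hdm, hdp⟩ := kernel_pts h.ker
  haveI := hdm
  have hn : AlgGrp.IsNormalHom d := fun X g n => by
    obtain ⟨n', hn'⟩ := (hdp (g * (n ≫ d) * g⁻¹)).2 (by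
      rw [MonObj.mul_comp, MonObj.mul_comp, GrpObj.inv_comp, Category.assoc,
        (hdp d).1 ⟨𝟙 D, Category.id_comp d⟩, MonObj.comp_one, _root_.mul_one, mul_inv_cancel])
    exact ⟨n', hn'.symm⟩
  have haff : IsAffineHom D.hom := by rw [← Over.w d]; infer_instance
  refine ⟨haff, h.smoothD, fun s => ?_⟩
  let τ := Red.geomPt s
  let F := Over.pullback τ
  haveI : PreservesLimitsOfShape WalkingCospan F :=
    (Over.mapPullbackAdj τ).rightAdjoint_preservesLimits.preservesLimitsOfShape
  haveI : IsClosedImmersion (F.map d).left := MorphismProperty.of_isPullback (MTImage.isPullback_map d τ) h.closed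
  haveI : Smooth (Red.geomFibre s D).hom := inferInstanceAs (Smooth (pullback.snd D.hom τ))
  haveI : ConnectedSpace ↥(Red.geomFibre s D).left := TorusLift.connectedSpace_bc_geom h.conn τ
  haveI : LocallyOfFiniteType Z.hom := by rw [← Over.w j]; infer_instance
  obtain ⟨hjc', hZm', hZa⟩ := centre_facts hG j hZ
  haveI := hZa
  have hsurj : Surjective ((j ⊗ₘ d) ≫ μ[G]).left :=
    MorphismProperty.of_isPullback ((isPullback_mul d f₀ h.ker j).map (Over.forget S)).flip
      (surjective_centre hG h j hZ)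
  haveI : Surjective (F.map ((j ⊗ₘ d) ≫ μ[G])).left :=
    MorphismProperty.of_isPullback (MTImage.isPullback_map _ τ) hsurj
  haveI : LocallyOfFiniteType (Red.geomFibre s G).hom := inferInstanceAs (LocallyOfFiniteType (pullback.snd G.hom τ))
  haveI : LocallyOfFiniteType (D.hom) := inferInstance
  haveI : LocallyOfFiniteType (Z ⊗ D).hom := by
    show LocallyOfFiniteType (pullback.fst Z.hom D.hom ≫ Z.hom)
    infer_instance
  haveI : LocallyOfFiniteType (Red.bc τ (Z ⊗ D)).hom :=
    inferInstanceAs (LocallyOfFiniteType (pullback.snd (Z ⊗ D).hom τ))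
  refine isSemisimpleOver_of_complement (hG.2.2 s) (F.map d) ?_ (fun g => ?_)
    (F.map j) ?_ (F.map (pullback.fst j d)) (F.map (pullback.snd j d)) ((IsPullback.of_hasPullback j d).map F) ?_
  · intro X g n
    obtain ⟨g, rfl⟩ := exists_toBC' τ g
    obtain ⟨n, rfl⟩ := exists_toBC' τ n
    obtain ⟨n', hn'⟩ := hn _ g n
    exact ⟨toBC τ n', by rw [← toBC_comp, ← toBC_comp, ← toBC_inv, ← toBC_mul, ← toBC_mul, hn']⟩
  · obtain ⟨z, hz⟩ : ∃ z : RP (Red.bc τ (Z ⊗ D)), z ≫ F.map ((j ⊗ₘ d) ≫ μ[G]) = g := exists_rp_preimage _ g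
    obtain ⟨z, rfl⟩ := exists_toBC' τ z
    refine ⟨toBC τ ((z ≫ fst Z D) ≫ j), toBC τ (z ≫ snd Z D), fun g' => ?_, ?_⟩
    · obtain ⟨g', rfl⟩ := exists_toBC' τ g'
      have h1 := (hZ.2.2 _ ((z ≫ fst Z D) ≫ j)).1 ⟨z ≫ fst Z D, rfl⟩ _ (𝟙 _) g'
      rw [Category.id_comp, Category.comp_id] at h1
      rw [← toBC_mul, ← toBC_mul, h1]
    · rw [← toBC_comp, ← toBC_mul, ← hz, ← toBC_comp, mul_eq, MonObj.comp_mul]
      simp only [Category.assoc]
  · have hc := Chev.CentBC.isCentralizerOf_bc τ (𝟙 G) j hZ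
    rwa [CategoryTheory.Functor.map_id] at hc
  · have hP := isFinite_inter hG h j hZ (pullback.fst j d) (pullback.snd j d) (IsPullback.of_hasPullback j d)
    exact MorphismProperty.pullback_snd (pullback j d).hom τ hP

/-- A map of smooth schemes which is an isomorphism on geometric fibres is an isomorphism. -/
theorem isIso_of_geom {A B : Over S} [Smooth A.hom] [Smooth B.hom] (w : A ⟶ B)
    (h : ∀ s : S, IsIso ((Over.pullback (Red.geomPt s)).map w).left) : IsIso w := by
  haveI : IsIso w.left := FibCrit.isIso_of_fibres (Over.w w) fun t => MTImage.isIso_fibre_of_geom w t (h t)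
  exact (isIso_iff_of_reflects_iso w (Over.forget _)).1 ‹_›

/-- The derived group of a semisimple group is everything on geometric fibres. -/
theorem isIso_geom_of_semisimple (hss : Red.IsSemisimple G) {d : D ⟶ G} {f₀ : G ⟶ C} (h : IsCorad d f₀) (s : S) :
    IsIso ((Over.pullback (Red.geomPt s)).map d).left := by
  haveI := h.hf; haveI := h.hd; haveI := h.closed
  obtain ⟨hdm, hdp⟩ := kernel_pts h.ker
  haveI := hdm
  let τ := Red.geomPt s
  let F := Over.pullback τ
  haveI : Mono (F.map d) := MTSplit.mono_bc τ d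
  haveI : IsCommMonObj (Red.bc τ C) := ⟨by
    have h1 : fst (Red.bc τ C) (Red.bc τ C) * snd _ _ = snd _ _ * fst _ _ := by
      obtain ⟨a, ha⟩ := exists_toBC' τ (fst (Red.bc τ C) (Red.bc τ C))
      obtain ⟨b, hb⟩ := exists_toBC' τ (snd (Red.bc τ C) (Red.bc τ C))
      rw [← ha, ← hb, ← toBC_mul, ← toBC_mul, h.comm]
    have h2 : μ[Red.bc τ C] = fst _ _ * snd _ _ := by
      rw [Hom.mul_def]; simp
    rw [h2, MonObj.comp_mul, braiding_hom_fst, braiding_hom_snd]
    exact h1.symm⟩
  obtain ⟨hGa, hGs, hGc, -⟩ := (hss.2.2 s).1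
  haveI := hGa; haveI := hGs; haveI := hGc
  have hf1 : F.map f₀ = 1 := SSPerf.eq_one_of_comm (hss.2.2 s) (F.map f₀)
  obtain ⟨a, ha⟩ := exists_toBC' τ (𝟙 (Red.bc τ G))
  obtain ⟨y, hy⟩ := (hdp a).2 (toBC_inj τ (by
    rw [toBC_comp, ha, Category.id_comp, hf1]
    exact (map_one (MonoidHom.mk' (fun x : (Over.map τ).obj (Red.bc τ G) ⟶ C => toBC τ x) (toBC_mul τ))).symm))
  have e : toBC τ y ≫ F.map d = 𝟙 _ := by rw [← toBC_comp, hy, ha]
  haveI : IsIso (F.map d) := ⟨toBC τ y, by rw [← cancel_mono (F.map d), Category.assoc, e, Category.comp_id, Category.id_comp], e⟩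
  exact ((Over.forget _).mapIso (asIso (F.map d))).isIso_hom

/-- Homomorphisms from a torus to a finite group of finite presentation are trivial. -/
theorem eq_one_of_finite {R Z : Over S} [GrpObj R] [GrpObj Z] (hR : Red.IsTorus R) [IsFinite Z.hom]
    [LocallyOfFinitePresentation Z.hom] (u : R ⟶ Z) [IsMonHom u] : u = 1 := by
  obtain ⟨U, -, hU, hUe⟩ := S5286.result R Z (MTBridge.isMultTypeFT_of_isTorus R hR)
    (Or.inr ⟨inferInstance, inferInstance, inferInstance⟩) u
  have htop : U = ⊤ := by
    refine top_unique fun s _ => (hU s).2 ?_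
    let c : Spec (CommRingCat.of (AlgebraicClosure (S.residueField s))) ⟶ Spec (S.residueField s) :=
      Spec.map (CommRingCat.ofHom (algebraMap (S.residueField s) (AlgebraicClosure (S.residueField s))))
    haveI : Flat c := GrpField.SchImg.flat_hom (Over.mk c)
    haveI : Surjective c := ⟨fun x => ⟨IsLocalRing.closedPoint _, Subsingleton.elim (α := PrimeSpectrum _) _ _⟩⟩
    refine map_eq_one_of_ff u (S.fromSpecResidueField s) c ?_
    haveI : IsFinite (Red.bc (c ≫ S.fromSpecResidueField s) Z).hom :=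
      MorphismProperty.pullback_snd Z.hom (c ≫ S.fromSpecResidueField s) ‹_›
    haveI : IsProper (Red.bc (c ≫ S.fromSpecResidueField s) Z).hom := inferInstance
    exact eq_one_of_isTorus_of_proper (Chev.Borel.isTorus_bc_scheme R _ hR) _
  subst htop
  haveI : IsIso (⊤ : S.Opens).ι := Scheme.topIso S |>.isIso_hom
  haveI : IsIso (pullback.fst R.hom (⊤ : S.Opens).ι) := pullback_fst_iso_of_right_iso R.hom _
  exact bc_injective (⊤ : S.Opens).ι (hUe.trans (bc_map_one (⊤ : S.Opens).ι R).symm)

/-- The centre of a semisimple group is finite. -/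
theorem isFinite_centre {Z : Over S} [GrpObj Z] (hss : Red.IsSemisimple G) (j : Z ⟶ G) (hZ : Red.IsCentre j) :
    IsFinite Z.hom := by
  have hG : Red.IsReductive G := ⟨hss.1, hss.2.1, fun s => (hss.2.2 s).1⟩
  obtain ⟨C, gC, f₀, D, gD, d, h⟩ := exists_isCorad hG
  letI := gC; letI := gD
  haveI := h.smoothD; haveI := hG.2.1
  haveI : IsIso d := isIso_of_geom d fun s => isIso_geom_of_semisimple hss h s
  exact isFinite_inter hG h j hZ (𝟙 Z) (j ≫ inv d) (IsPullback.of_horiz_isIso ⟨by simp⟩)

end Groth.Agent.Corad
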