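import Groth.Agent.RootBase.Iso
import Groth.Agent.RootBase.UPsiEmpty
import Groth.Agent.RootBase.Gen
import Groth.Agent.MTQuot.Core
import Groth.Agent.MTBridge.Pieces

/-!
# The homomorphism of a split group onto the torus killed by the coroots
-/

set_option autoImplicit false
set_option backward.isDefEq.respectTransparency false
set_option linter.style.haveILetI false
set_option maxHeartbeats 1000000
set_option synthInstance.maxHeartbeats 400000

universe u

open CategoryTheory Limits MonoidalCategory CartesianMonoidalCategory MonObj GrpObj AlgebraicGeometry LieS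
open scoped CategoryTheory.Obj

noncomputable section

namespace Groth.Agent.Corad

open Groth.Agent.HomDiag Groth.Agent.DynPar Groth.Agent.RootSys Groth.Agent.MTBridge Groth.Agent.RootBase

variable {S : Scheme.{u}} {G A : Over S} [GrpObj G] [GrpObj A] {M : Type} [AddCommGroup M]
  [Module.Free ℤ M] [Module.Finite ℤ M] {c : Red.DS S M ⟶ G} {idx : Type} [Fintype idx]

section Killed

variable {root : idx → M} {u : idx → (Red.Ga S ⟶ G)}

/-- A homomorphism to a commutative group kills the root groups. -/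
theorem rootHom_comp_eq_one (F : Frame c root u) (φ : G ⟶ A) [IsMonHom φ]
    (hA : ∀ (X : Over S) (a b : X ⟶ A), a * b = b * a) (a : idx) : u a ≫ φ = 1 := by
  haveI := F.hc.1
  haveI := (F.hu a).1
  obtain ⟨mu, hmu⟩ := DynPar.exists_hom_ne_zero {root a}
  have hk : mu (root a) ≠ 0 := hmu _ (Finset.mem_singleton_self _) (F.ne a)
  obtain ⟨X', q, z, hq, hz⟩ := exists_unit_cover (Red.Ga S) hk
  haveI := hq
  obtain ⟨w, hw⟩ := hz
  let t : X' ⟶ Red.DS S M := z ≫ Red.DSmap S mu
  obtain ⟨x, hx⟩ : ∃ x : X' ⟶ Red.Ga S, Red.gaFn x = (w⁻¹ : (Γ(X'.left, ⊤))ˣ) * Red.gaFn q :=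
    ⟨BGaNotS.gaPt _, BGaNotS.gaFn_gaPt _⟩
  obtain ⟨y, hy, hy'⟩ := (F.hu a).2.2 X' t x
  have e : y = q * x := BGaNotS.gaPt_ext (by
    rw [hy', RootIntrinsic.gmFn_chi, BGaNotS.gaFn_mul, hx, show ch t (Multiplicative.ofAdd (root a)) =
      ch z (Multiplicative.ofAdd (mu (root a))) from ch_DSmap mu z _,
      ← sub_add_cancel (ch z (Multiplicative.ofAdd (mu (root a)))) 1, ← hw, add_mul, _root_.one_mul,
      ← _root_.mul_assoc, Units.mul_inv, _root_.one_mul])
  have h := congrArg (· ≫ φ) hy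
  simp only [MonObj.mul_comp, GrpObj.inv_comp] at h
  rw [hA X' (((t ≫ c) : X' ⟶ G) ≫ φ), mul_inv_cancel_right, e, MonObj.mul_comp, MonObj.mul_comp,
    mul_eq_right] at h
  rw [← cancel_epi q, MonObj.comp_one, ← Category.assoc]
  exact h

end Killed

variable {P : RootPairing idx ℤ M (Module.Dual ℤ M)} {u : idx → (Red.Ga S ⟶ G)}

/-- A homomorphism to a commutative group kills the coroots. -/
theorem coroot_comp_eq_one (F : Frame c P.root u) (φ : G ⟶ A) [IsMonHom φ]
    (hA : ∀ (X : Over S) (a b : X ⟶ A), a * b = b * a) {a a' : idx}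
    (hrel : RankRel c (P.coroot a).toAddMonoidHom (u a) (u a')) :
    Red.DSmap S (P.coroot a).toAddMonoidHom ≫ c ≫ φ = 1 := by
  let z : Red.Gm S ⟶ Red.Gm S := 𝟙 _
  obtain ⟨x, hx⟩ : ∃ x : Red.Gm S ⟶ Red.Ga S, Red.gaFn x = 1 := ⟨BGaNotS.gaPt _, BGaNotS.gaFn_gaPt _⟩
  obtain ⟨y, hy⟩ : ∃ y : Red.Gm S ⟶ Red.Ga S, Red.gaFn y = Red.gmFn z - 1 :=
    ⟨BGaNotS.gaPt _, BGaNotS.gaFn_gaPt _⟩
  have he : 1 + Red.gaFn x * Red.gaFn y = Red.gmFn z := by rw [hx, hy]; ring
  have hu : IsUnit (Red.gmFn z) := by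
    rw [RootIntrinsic.gmFn_eq_ch]
    exact (Group.isUnit (Multiplicative.ofAdd (1 : ℤ))).map (ch z)
  obtain ⟨x', y', z', h1, -, -, h4⟩ := hrel _ x y (he ▸ hu)
  obtain rfl : z' = z := gmFn_inj (h1.trans he)
  have k : ∀ r, u r ≫ φ = 1 := fun r => rootHom_comp_eq_one F φ hA r
  have h := congrArg (· ≫ φ) h4
  simp only [MonObj.mul_comp, Category.assoc, k, MonObj.comp_one, _root_.one_mul, _root_.mul_one] at h
  rw [h]
  exact (Category.id_comp _).symm

section Hom

variable [P.IsReduced] {B : P.Base} {w : idx → (𝟙_ (Over S) ⟶ G)} [Nonempty S]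

/-- **The projection extends to the group**. -/
theorem exists_splitHom (hG : Red.IsReductive G) (H : WeylSys c P B u w)
    (hp : ∀ a ∈ B.support, RankRel c (P.coroot a).toAddMonoidHom (u a) (u (P.reflectionPerm a a)))
    {Q : Over S} [GrpObj Q] [IsSeparated Q.hom] (p : Red.DS S M ⟶ Q) [IsMonHom p]
    (hcor0 : ∀ a, Red.DSmap S (P.coroot a).toAddMonoidHom ≫ p = 1) :
    ∃ f : G ⟶ Q, IsMonHom f ∧ c ≫ f = p ∧
      ∀ a ∈ B.support, u a ≫ f = 1 ∧ u (P.reflectionPerm a a) ≫ f = 1 := by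
  haveI := H.hc
  haveI := hG.1
  let σ : G ⟶ G ⊗ Q := CartesianMonoidalCategory.lift (𝟙 G) 1
  haveI : IsMonHom σ := MTBridge.isMonHom_of_points σ fun X x y => by
    refine RootBase.prod_ext ?_ ?_ <;> simp [σ, MonObj.mul_comp, MonObj.comp_one]
  let c₂ := CartesianMonoidalCategory.lift c p
  have hrefl : ∀ a (X : Over S) (t : X ⟶ Red.DS S M),
      RootBase.refl (P.root a) (P.coroot a).toAddMonoidHom t ≫ p = t ≫ p := fun a X t => by
    rw [RootBase.refl, MonObj.mul_comp, GrpObj.inv_comp, Category.assoc, Category.assoc, hcor0, MonObj.comp_one,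
      MonObj.comp_one, inv_one, _root_.one_mul]
  have hroot : ∀ {r : idx} {v : Red.Ga S ⟶ G}, Red.IsRootHom c (Red.chi S (P.root r)) v →
      Red.IsRootHom c₂ (Red.chi S (P.root r)) (v ≫ σ) := fun {r v} hv => by
    haveI := hv.1
    refine ⟨inferInstance, ?_, fun X t x => ?_⟩
    · have h : (v ≫ σ).left ≫ (fst G Q).left = v.left := by
        rw [← Over.comp_left, Category.assoc, lift_fst, Category.comp_id]
      haveI : IsSeparated (fst G Q).left :=
        inferInstanceAs (IsSeparated (Limits.pullback.fst G.hom Q.hom))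
      haveI : IsClosedImmersion ((v ≫ σ).left ≫ (fst G Q).left) := h ▸ hv.2.1
      exact IsClosedImmersion.of_comp (v ≫ σ).left (fst G Q).left
    · obtain ⟨y, hy, hy'⟩ := hv.2.2 X t x
      refine ⟨y, RootBase.prod_ext ?_ ?_, hy'⟩
      · simp [σ, c₂, MonObj.mul_comp, GrpObj.inv_comp, hy]
      · simp [σ, c₂, MonObj.mul_comp, GrpObj.inv_comp, MonObj.comp_one]
  have hcpt : ∀ a, cpt c₂ (P.coroot a).toAddMonoidHom = cpt c (P.coroot a).toAddMonoidHom ≫ σ := fun a =>
    RootBase.prod_ext (by simp [σ, c₂, cpt]) (by simp [σ, c₂, cpt, MonObj.comp_one, hcor0 a])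
  have hweyl : ∀ a ∈ B.support, IsWeyl c₂ P (fun r => u r ≫ σ) a (P.reflectionPerm a a) (w a ≫ σ) := fun a ha => by
    have W := H.weyl a ha
    refine ⟨inferInstance, hroot W.hua, hroot W.hua', W.hcor, W.opp, W.two, ?_, fun X x => ?_, fun X t => ?_, ?_⟩
    · rw [W.eq]; simp only [MonObj.mul_comp, Category.assoc]
    · rw [← Category.assoc, ← cj_map, W.pos, Category.assoc]
    · refine RootBase.prod_ext ?_ ?_
      · simp [σ, c₂, cj_map, W.torus X t]
      · simp [σ, c₂, cj, MonObj.mul_comp, GrpObj.inv_comp, MonObj.comp_one, hrefl a X t]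
    · rw [hcpt, ← W.sq, MonObj.mul_comp]
  have hrels : ∀ {a b : idx} {Na Nb : 𝟙_ (Over S) ⟶ G}, Rels P u a b Na Nb →
      Rels P (fun r => u r ≫ σ) a b (Na ≫ σ) (Nb ≫ σ) := fun {a b Na Nb} R => by
    refine ⟨fun h h' X x => ?_, fun h h' => ?_, fun h h' X x => ?_, fun h h' => ?_, fun h h' => ⟨fun X x => ?_,
      fun X x => ?_⟩, fun h h' => ?_, fun h h' => ⟨fun X x => ?_, fun X x => ?_⟩, fun h h' => ?_⟩
    all_goals simp only [← Category.assoc, ← cj_map, ← GrpObj.inv_comp, ← MonObj.mul_comp]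
    · rw [R.zero h h']
    · rw [R.comm h h']
    · rw [R.one h h']
    · rw [R.braid₁ h h']
    · rw [(R.two h h').1]
    · rw [(R.two h h').2]
    · rw [R.braid₂ h h']
    · rw [(R.three h h').1]
    · rw [(R.three h h').2]
    · rw [R.braid₃ h h']
  -- Chevalley data in the product
  obtain ⟨v', D⟩ := (H.toWeylCore.lift H.toWeylCore).exists_chevData
  let v : idx → (Red.Ga S ⟶ G) := fun r => v' r ≫ fst G G
  have hpr : IsMonHom (fst G G) := inferInstance
  have D₂ : ChevData c₂ P B (fun r => u r ≫ σ) (fun r => w r ≫ σ) (fun r => v r ≫ σ) := by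
    refine ⟨⟨inferInstance, H.cor, hweyl, fun a ha b hb hab => ?_⟩, fun a ha => ?_, fun r => ?_, fun a ha r => ?_⟩
    · have R := H.rels a ha b hb hab
      refine ⟨⟨hrels R.1.1, hrels R.1.2⟩, ?_, ?_⟩ <;> rw [← GrpObj.inv_comp, ← GrpObj.inv_comp]
      · exact hrels R.2.1
      · exact hrels R.2.2
    · simp only [v, D.simple a ha, lift_fst]
    · obtain ⟨l, a, hl, ha, hr, e⟩ := D.form r
      refine ⟨l, a, hl, ha, hr, ?_⟩
      simp only [v, e, cj_map, list_map_prod, lift_fst]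
    · obtain ⟨t, ht, e⟩ := D.move a ha r
      refine ⟨t, ht, fun X x => ?_⟩
      have h := congrArg (· ≫ fst G G ≫ σ) (e X x)
      simpa only [v, ← Category.assoc, cj_map, lift_fst] using h
  have GS : GraphSys c P B c₂ (fun r => u r ≫ σ) (fun r => w r ≫ σ) (fun r => v r ≫ σ) (fst G Q) := by
    refine ⟨D₂, inferInstance, lift_fst _ _, ?_, fun r s hrs X x y => ?_, fun a ha => ?_⟩
    · have e : ∀ r, (v r ≫ σ) ≫ fst G Q = v r := fun r => by
        rw [Category.assoc, lift_fst, Category.comp_id]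
      simp only [e]
      exact D.frame_fst H H
    · have h := map_Gam (pr := fst G G ≫ σ) (D.compat_all H H r s hrs X x y)
      rw [word_map] at h
      simpa only [v, Category.assoc] using h
    · intro X x y hxy
      obtain ⟨x', y', z, h1, h2, h3, h4⟩ := hp a ha X x y hxy
      refine ⟨x', y', z, h1, h2, h3, RootBase.prod_ext ?_ ?_⟩
      · simp [σ, c₂, MonObj.mul_comp, h4]
      · simp [σ, c₂, MonObj.mul_comp, MonObj.comp_one, hcor0 a]
  obtain ⟨s, hs, hcs, hus⟩ := GS.exists_section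
  haveI := hs
  refine ⟨s ≫ snd G _, inferInstance, by rw [← Category.assoc, hcs, lift_snd], fun a ha => ⟨?_, ?_⟩⟩
  · have h := congrArg (· ≫ snd G Q) (hus a ha).1
    simpa [σ, MonObj.comp_one] using h
  · have h := congrArg (· ≫ snd G Q) (hus a ha).2
    simpa [σ, MonObj.comp_one] using h

end Hom

end Groth.Agent.Corad
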