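import Groth.Agent.Corad.Semisimple
import Groth.Agent.S4116
import Groth.Agent.RedCartan.Field

/-!
# Maximal tori of a reductive group and of its derived group
-/

set_option autoImplicit false
set_option backward.isDefEq.respectTransparency false
set_option linter.style.haveILetI false
set_option linter.unusedSectionVars false
set_option maxHeartbeats 1000000
set_option synthInstance.maxHeartbeats 400000

universe u

open CategoryTheory Limits MonoidalCategory CartesianMonoidalCategory MonObj GrpObj AlgebraicGeometry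
open scoped CategoryTheory.Obj

noncomputable section

namespace Groth.Agent.Corad

open Groth.Agent.MTBridge Groth.Agent.HomDiag Groth.Agent.RootIntrinsic

variable {S : Scheme.{u}}

section Points

variable {G : Over S} [GrpObj G]

/-- Subgroups with corresponding points under an automorphism of the group are isomorphic. -/
theorem exists_iso_of_pts {K K' : Over S} [GrpObj K] [GrpObj K'] (k : K ⟶ G) [IsMonHom k] [Mono k]
    (k' : K' ⟶ G) [IsMonHom k'] [Mono k'] (σ : G ≅ G) [IsMonHom σ.hom]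
    (h : ∀ {X : Over S} (g : X ⟶ G), (∃ z, z ≫ k = g) ↔ ∃ z, z ≫ k' = g ≫ σ.hom) :
    ∃ φ : Grp.mk K ≅ Grp.mk K', φ.hom.hom.hom ≫ k' = k ≫ σ.hom := by
  obtain ⟨a, ha⟩ := (h k).1 ⟨𝟙 K, Category.id_comp k⟩
  obtain ⟨b, hb⟩ := (h (k' ≫ σ.inv)).2 ⟨𝟙 K', by simp⟩
  haveI : IsMonHom a := MTSplit.isMonHom_of_comp_mono a k' _ ha
  let φ : K ≅ K' := ⟨a, b,
    by rw [← cancel_mono k, Category.assoc, hb, reassoc_of% ha, Iso.hom_inv_id, Category.comp_id, Category.id_comp],
    by rw [← cancel_mono k', Category.assoc, ha, reassoc_of% hb, Iso.inv_hom_id, Category.comp_id, Category.id_comp]⟩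
  haveI : IsMonHom φ.hom := ‹IsMonHom a›
  haveI : IsIso φ.hom := φ.isIso_hom
  exact ⟨RootBase.grpIso φ.hom, ha⟩

/-- The points of the base change of a subgroup. -/
theorem pts_bc {K : Over S} (k : K ⟶ G) {U : Scheme.{u}} (π : U ⟶ S) {X : Over U}
    (x : (Over.map π).obj X ⟶ G) :
    (∃ z, z ≫ (Over.pullback π).map k = toBC π x) ↔ ∃ z, z ≫ k = x := by
  refine ⟨?_, fun ⟨z, hz⟩ => ⟨toBC π z, by rw [← toBC_comp, hz]⟩⟩
  rintro ⟨z, hz⟩
  obtain ⟨z, rfl⟩ := exists_toBC' π z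
  exact ⟨z, toBC_inj π (by rw [toBC_comp, hz])⟩

theorem toBC_one' {U : Scheme.{u}} (π : U ⟶ S) {X : Over U} {H : Over S} [GrpObj H] :
    toBC π (1 : (Over.map π).obj X ⟶ H) = 1 :=
  map_one (MonoidHom.mk' (fun x : (Over.map π).obj X ⟶ H => toBC π x) (toBC_mul π))

end Points

variable {G D C : Over S} [GrpObj G] [GrpObj D] [GrpObj C]

/-- A kernel of a homomorphism to a commutative group, onto which the centre maps. -/
structure WC (d : D ⟶ G) (f : G ⟶ C) : Prop where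
  hd : IsMonHom d
  hf : IsMonHom f
  mono : Mono d
  pts : ∀ {X : Over S} (g : X ⟶ G), (∃ z : X ⟶ D, z ≫ d = g) ↔ g ≫ f = 1
  comm : ∀ (X : Over S) (a b : X ⟶ C), a * b = b * a
  cov : ∃ (A : Over S) (a : A ⟶ G), (∀ (X : Over S) (x : X ⟶ A) (g : X ⟶ G), (x ≫ a) * g = g * (x ≫ a)) ∧
    CoverMap.Covers (a ≫ f).left

theorem WC.bc {d : D ⟶ G} {f : G ⟶ C} (h : WC d f) {U : Scheme.{u}} (π : U ⟶ S) :
    WC ((Over.pullback π).map d) ((Over.pullback π).map f) := by
  haveI := h.hd; haveI := h.hf; haveI := h.mono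
  obtain ⟨A, a, ha, hcov⟩ := h.cov
  refine ⟨inferInstance, inferInstance, MTSplit.mono_bc π d, fun {X} g => ?_, fun X x y => ?_,
    ⟨Red.bc π A, (Over.pullback π).map a, fun X x g => ?_, ?_⟩⟩
  · obtain ⟨g, rfl⟩ := exists_toBC' π g
    rw [pts_bc, h.pts, ← toBC_comp, ← toBC_one' π]
    exact ⟨congrArg _, fun e => toBC_inj π e⟩
  · obtain ⟨x, rfl⟩ := exists_toBC' π x
    obtain ⟨y, rfl⟩ := exists_toBC' π y
    rw [← toBC_mul, ← toBC_mul, h.comm]
  · obtain ⟨x, rfl⟩ := exists_toBC' π x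
    obtain ⟨g, rfl⟩ := exists_toBC' π g
    rw [← toBC_comp, ← toBC_mul, ← toBC_mul, ha]
  · rw [← Functor.map_comp]
    exact MTQuot.covers_bc π _ hcov

theorem wc_of_isCorad (hG : Red.IsReductive G) {d : D ⟶ G} {f₀ : G ⟶ C} (h : IsCorad d f₀) : WC d f₀ := by
  haveI := h.hd; haveI := h.hf; haveI := h.affine
  obtain ⟨hdm, hdp⟩ := kernel_pts h.ker
  obtain ⟨Z, _, j, hZ, -, -⟩ := RedCartan.exists_centre_of_isReductive hG
  haveI := hZ.1; haveI := hZ.2.1
  refine ⟨inferInstance, inferInstance, hdm, fun g => hdp g, h.comm, Z, j, fun X x g => ?_, ?_⟩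
  · have h1 := (hZ.2.2 X (x ≫ j)).1 ⟨x, rfl⟩ X (𝟙 X) g
    rwa [Category.id_comp, Category.comp_id] at h1
  choose U π het hs E m hm hmi hmf using h.loc
  haveI : ∀ s, Etale (π s) := het
  choose A gA a ham hA hac hasurj using fun s =>
    haveI := hm s; haveI := hmi s; exists_central_torus (E s) ((Over.pullback (π s)).map f₀) (m s) (hmf s)
  choose a₁ ha₁ using fun s => exists_lift_centre j hZ (π s) (a s) fun X' x g => hac s X' x g
  haveI : Smooth C.hom := MTImage.smooth_torus h.torus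
  have hflat : ∀ s, Flat (a s ≫ (Over.pullback (π s)).map f₀).left ∧
      LocallyOfFinitePresentation (a s ≫ (Over.pullback (π s)).map f₀).left := fun s => by
    letI := gA s
    haveI := ham s; haveI := hasurj s
    haveI : Smooth (A s).hom := MTImage.smooth_torus (hA s)
    haveI : IsAffineHom (A s).hom := MTBridge.isAffineHom _ (MTBridge.isMultTypeFT_of_isTorus _ (hA s))
    haveI : Smooth (Red.bc (π s) C).hom := inferInstanceAs (Smooth (pullback.snd C.hom (π s)))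
    haveI : IsAffineHom (Red.bc (π s) C).hom := MorphismProperty.pullback_snd C.hom (π s) h.affine
    refine ⟨MTImage.flat_hom _, ?_⟩
    haveI : LocallyOfFinitePresentation ((a s ≫ (Over.pullback (π s)).map f₀).left ≫ (Red.bc (π s) C).hom) := by
      rw [Over.w]; infer_instance
    exact LimDesc.lfp_of_comp _ (Red.bc (π s) C).hom
  let q := fun s => (a s ≫ (Over.pullback (π s)).map f₀).left ≫ pullback.fst C.hom (π s)
  haveI : ∀ s, Flat (q s) := fun s => by
    haveI := (hflat s).1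
    infer_instance
  haveI : ∀ s, LocallyOfFinitePresentation (q s) := fun s => by
    haveI := (hflat s).2
    infer_instance
  haveI : Flat (Sigma.desc q) := IsZariskiLocalAtSource.sigmaDesc (P := @Flat) inferInstance
  haveI : LocallyOfFinitePresentation (Sigma.desc q) :=
    IsZariskiLocalAtSource.sigmaDesc (P := @LocallyOfFinitePresentation) inferInstance
  haveI : Surjective (Sigma.desc q) := ⟨fun c => by
    obtain ⟨u, hu⟩ := hs (C.hom c)
    obtain ⟨c', hc', -⟩ := Scheme.Pullback.exists_preimage_pullback c u hu.symm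
    haveI := hasurj (C.hom c)
    obtain ⟨x, hx⟩ := Surjective.surj (f := (a (C.hom c) ≫ (Over.pullback (π (C.hom c))).map f₀).left) c'
    refine ⟨Sigma.ι (fun s => (A s).left) (C.hom c) x, ?_⟩
    rw [← Scheme.Hom.comp_apply, Sigma.ι_desc, Scheme.Hom.comp_apply, hx]
    exact hc'⟩
  refine ⟨_, Sigma.desc q, Sigma.desc fun s => (a₁ s).left ≫ pullback.fst Z.hom (π s),
    Scheme.fppfPrecoverage_le_fpqcPrecoverage _ ((Sigma.desc q).singleton_mem_fppfPrecoverage), ?_⟩
  refine Sigma.hom_ext _ _ fun s => ?_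
  rw [Sigma.ι_desc_assoc, Sigma.ι_desc, Category.assoc]
  show _ = (a s ≫ (Over.pullback (π s)).map f₀).left ≫ _
  rw [← ha₁ s, Category.assoc, ← Functor.map_comp]
  exact congrArg ((a₁ s).left ≫ ·) (MTImage.isPullback_map (j ≫ f₀) (π s)).w

variable {d : D ⟶ G} {f : G ⟶ C}

/-- The centralizer of the intersection of a maximal torus with the derived group is the torus. -/
theorem centralizer_inter (hG : Red.IsReductive G) (h : WC d f) {T T' : Over S} [GrpObj T] [GrpObj T'] (i : T ⟶ G)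
    (hT : Red.IsMaximalTorus i) (a : T' ⟶ T) [IsMonHom a] (b : T' ⟶ D) (hsq : IsPullback a b i d) :
    Red.IsCentralizerOf (a ≫ i) i := by
  haveI := h.hf; haveI := hT.1; haveI := hT.2.1
  have hTc := RedCartan.centralizer_self_of_isReductive hG i hT
  refine ⟨hT.1, hT.2.1, fun X g => ⟨fun hz X' x h' => ?_, fun hg => ?_⟩⟩
  · have := (hTc.2.2 X g).1 hz X' x (h' ≫ a)
    simpa only [Category.assoc] using this
  refine (hTc.2.2 X g).2 fun X' x t => ?_
  obtain ⟨A, c, hc, hcov⟩ := h.cov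
  obtain ⟨c', hc'⟩ := (hTc.2.2 A c).2 fun X'' y t' => hc X'' y (t' ≫ i)
  let P : Over S := Over.mk (pullback.fst (t ≫ i ≫ f).left (c ≫ f).left ≫ X'.hom)
  let p : P ⟶ X' := Over.homMk (pullback.fst _ _) rfl
  let y : P ⟶ A := Over.homMk (pullback.snd _ _) (by
    show pullback.snd _ _ ≫ A.hom = pullback.fst (t ≫ i ≫ f).left (c ≫ f).left ≫ X'.hom
    rw [← Over.w (c ≫ f), ← Over.w (t ≫ i ≫ f), pullback.condition_assoc])
  haveI : Epi p := CoverMap.epi_over (hcov.of_isPullback (IsPullback.of_hasPullback _ _))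
  have hpy : p ≫ t ≫ i ≫ f = y ≫ c ≫ f := Over.OverMorphism.ext pullback.condition
  obtain ⟨e, he⟩ := (h.pts ((((y ≫ c')⁻¹) * (p ≫ t)) ≫ i)).2 (by
    simp only [MonObj.mul_comp, GrpObj.inv_comp, Category.assoc, hpy, reassoc_of% hc', inv_mul_cancel])
  let w := hsq.lift ((y ≫ c')⁻¹ * (p ≫ t)) e he.symm
  have h1 := hg P (p ≫ x) w
  rw [← Category.assoc w, hsq.lift_fst] at h1
  simp only [MonObj.mul_comp, GrpObj.inv_comp, Category.assoc, hc'] at h1
  have h2 : (p ≫ x ≫ g) * (y ≫ c) = (y ≫ c) * (p ≫ x ≫ g) := (hc P y _).symm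
  rw [← cancel_epi p, MonObj.comp_mul, MonObj.comp_mul]
  calc (p ≫ x ≫ g) * (p ≫ t ≫ i) = (y ≫ c) * ((p ≫ x ≫ g) * ((y ≫ c)⁻¹ * (p ≫ t ≫ i))) := by
        rw [← _root_.mul_assoc (y ≫ c), ← h2, _root_.mul_assoc, mul_inv_cancel_left]
    _ = (p ≫ t ≫ i) * (p ≫ x ≫ g) := by rw [h1]; group

/-- The intersection of a maximal torus with the derived group, when a torus, is a maximal torus of it. -/
theorem isMaximalTorus_inter (hG : Red.IsReductive G) (h : WC d f) {T T' : Over S} [GrpObj T] [GrpObj T'] (i : T ⟶ G)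
    (hT : Red.IsMaximalTorus i) (a : T' ⟶ T) [IsMonHom a] (b : T' ⟶ D) [IsMonHom b] (hsq : IsPullback a b i d)
    (hT' : Red.IsTorus T') : Red.IsMaximalTorus b := by
  haveI := hT.2.1; haveI := hT.1; haveI := h.mono; haveI := h.hd
  haveI : Mono b := PullbackCone.mono_snd_of_is_pullback_of_mono hsq.isLimit
  refine ⟨inferInstance, inferInstance, hT', fun s R _ j _ _ g hR hg => ?_⟩
  let F := Over.pullback (Red.geomPt s)
  haveI : PreservesLimitsOfShape WalkingCospan F :=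
    (Over.mapPullbackAdj (Red.geomPt s)).rightAdjoint_preservesLimits.preservesLimitsOfShape
  have hc := Chev.CentBC.isCentralizerOf_bc (Red.geomPt s) (a ≫ i) i (centralizer_inter hG h i hT a b hsq)
  obtain ⟨t, ht⟩ := (hc.2.2 R (j ≫ F.map d)).2 fun X' x w => by
    have e : w ≫ F.map (a ≫ i) = (w ≫ g) ≫ j ≫ F.map d := by
      rw [Category.assoc, reassoc_of% hg, ← F.map_comp, hsq.w]
    rw [e]
    letI : CommGroup (X' ⟶ R) := { (inferInstance : Group (X' ⟶ R)) with mul_comm := RedR1.mul_comm_torus hR }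
    rw [← MonObj.mul_comp, ← MonObj.mul_comp, mul_comm]
  have hsqF := hsq.map F
  let l := hsqF.lift t j ht
  have hl : l ≫ F.map b = j := hsqF.lift_snd _ _ _
  exact ⟨l, (cancel_mono (F.map b)).1 (by rw [Category.assoc, hl, hg, Category.id_comp]),
    (cancel_mono j).1 (by rw [Category.assoc, hg, hl, Category.id_comp])⟩

/-- The kernel of a split torus mapped into the commutative group is a split torus. -/
theorem split_inter_core (h : WC d f) {M : Type} [AddCommGroup M] [Module.Finite ℤ M] (N : AddSubgroup M)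
    (hN : ∀ (z : ℤ) (x : M), z • x ∈ N → z ≠ 0 → x ∈ N) {T : Over S} [GrpObj T]
    (s : Grp.mk T ≅ Grp.mk (Red.DS S M)) (i : T ⟶ G) [IsMonHom i] [Mono i]
    (m : Red.DS S ↥N ⟶ C) [IsMonHom m] [IsIso m] (hm : (s.inv.hom.hom ≫ i) ≫ f = Red.DSmap S N.subtype ≫ m) :
    ∃ (T' : Over S) (_ : GrpObj T') (a : T' ⟶ T) (b : T' ⟶ D) (r : ℕ), IsMonHom a ∧ IsMonHom b ∧
      IsPullback a b i d ∧ Red.IsSplitTorusWith (Fin r → ℤ) T' := by
  haveI := h.hf; haveI := h.hd; haveI := h.mono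
  haveI : AddGroup.FG M := Module.Finite.iff_addGroup_fg.1 inferInstance
  haveI : Module.Finite ℤ (M ⧸ N) := Module.Finite.of_surjective
    ((QuotientAddGroup.mk' N).toIntLinearMap) (QuotientAddGroup.mk'_surjective N)
  haveI : Module.IsTorsionFree ℤ (M ⧸ N) := by
    refine Module.IsTorsionFree.of_smul_eq_zero fun z x hzx => ?_
    induction x using QuotientAddGroup.induction_on with
    | _ n =>
      by_cases hz : z = 0
      · exact Or.inl hz
      · rw [← QuotientAddGroup.mk_zsmul, QuotientAddGroup.eq_zero_iff] at hzx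
        exact Or.inr ((QuotientAddGroup.eq_zero_iff n).2 (hN z n hzx hz))
  haveI : Module.Free ℤ (M ⧸ N) := Module.free_of_finite_type_torsion_free'
  obtain ⟨ε⟩ := MTQuot.nonempty_DS_congr (S := S) (Module.finBasis ℤ (M ⧸ N)).equivFun.toAddEquiv.symm
  haveI : IsMonHom s.inv.hom.hom := s.inv.hom.isMonHom_hom
  have h1 : s.hom.hom.hom ≫ s.inv.hom.hom = 𝟙 T := congrArg (fun z => z.hom.hom) s.hom_inv_id
  have h2 : s.inv.hom.hom ≫ s.hom.hom.hom = 𝟙 _ := congrArg (fun z => z.hom.hom) s.inv_hom_id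
  haveI hqm : IsMonHom (Red.DSmap S (QuotientAddGroup.mk' N)) := MTQuot.isMonHom_DSmap _
  haveI : Mono (Red.DSmap S (QuotientAddGroup.mk' N)) :=
    LieWeight.mono_DSmap (S := S) _ (QuotientAddGroup.mk'_surjective N)
  have hq : ∀ {X : Over S} (x : X ⟶ Red.DS S M),
      (∃ y, y ≫ Red.DSmap S (QuotientAddGroup.mk' N) = x) ↔ (x ≫ s.inv.hom.hom ≫ i) ≫ f = 1 := by
    intro X x
    rw [MTImage.ker_DSmap_iff, Category.assoc, hm, ← Category.assoc, MTImage.comp_eq_one_iff_mono m]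
  haveI : IsMonHom (Red.DSmap S (QuotientAddGroup.mk' N) ≫ s.inv.hom.hom) := inferInstance
  obtain ⟨b, hb⟩ := (h.pts ((Red.DSmap S (QuotientAddGroup.mk' N) ≫ s.inv.hom.hom) ≫ i)).2 (by
    rw [Category.assoc (Red.DSmap S (QuotientAddGroup.mk' N))]
    exact (hq _).1 ⟨𝟙 _, Category.id_comp _⟩)
  haveI : IsMonHom b := MTSplit.isMonHom_of_comp_mono b d _ hb
  haveI : IsIso s.inv.hom.hom := ⟨s.hom.hom.hom, h2, h1⟩
  refine ⟨Red.DS S (M ⧸ N), _, Red.DSmap S (QuotientAddGroup.mk' N) ≫ s.inv.hom.hom, b,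
    Module.finrank ℤ (M ⧸ N), ‹_›, ‹_›, ⟨⟨hb.symm⟩, ?_⟩, ⟨ε⟩⟩
  have hex : ∀ t : PullbackCone i d, ∃ y, y ≫ Red.DSmap S (QuotientAddGroup.mk' N) = t.fst ≫ s.hom.hom.hom :=
    fun t => (hq _).2 (by
      simp only [Category.assoc, reassoc_of% h1]
      rw [← Category.assoc]
      exact (h.pts _).1 ⟨t.snd, t.condition.symm⟩)
  choose y hy using hex
  refine ⟨PullbackCone.IsLimit.mk _ y (fun t => ?_) (fun t => ?_) fun t g hg1 _ => ?_⟩
  · rw [← Category.assoc, hy, Category.assoc, h1, Category.comp_id]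
  · rw [← cancel_mono d, Category.assoc, hb, t.condition.symm, ← Category.assoc, ← Category.assoc, hy, Category.assoc,
      Category.assoc, reassoc_of% h1]
  · rw [← cancel_mono (Red.DSmap S (QuotientAddGroup.mk' N) ≫ s.inv.hom.hom), hg1, ← Category.assoc, hy,
      Category.assoc, h1, Category.comp_id]

section Split

variable (E : Red.SplitRed G) (m : Red.DS S ↥(coradLattice E) ⟶ C) [IsMonHom m] [IsIso m]
  (hm : (E.split.inv.hom.hom ≫ E.i) ≫ f = Red.DSmap S (coradLattice E).subtype ≫ m)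
include hm

/-- The intersection of the split torus with the derived group. -/
theorem exists_split_inter (h : WC d f) :
    ∃ (T' : Over S) (_ : GrpObj T') (a : T' ⟶ E.T) (b : T' ⟶ D) (r : ℕ), IsMonHom a ∧ IsMonHom b ∧
      IsPullback a b E.i d ∧ Red.IsSplitTorusWith (Fin r → ℤ) T' := by
  letI := E.acgM; letI := E.grpT; haveI := E.finiteM; haveI := E.freeM
  haveI := E.maximalTorus.1; haveI := E.maximalTorus.2.1
  refine split_inter_core h (coradLattice E) (fun z x hzx hz => mem_latt.2 fun a => ?_) E.split E.i m hm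
  have := mem_latt.1 hzx a
  rw [map_zsmul, smul_eq_mul] at this
  exact (mul_eq_zero.1 this).resolve_left hz

end Split

/-- Conjugation by a point preserves the points of the kernel. -/
theorem inn_comp (h : WC d f) (g : 𝟙_ (Over S) ⟶ G) : (MTImage.inn g).hom ≫ f = f := by
  haveI := h.hf
  have e := MTImage.comp_inn g (𝟙 G)
  rw [Category.id_comp] at e
  rw [e, MonObj.mul_comp, MonObj.mul_comp, GrpObj.inv_comp, Category.id_comp, h.comm _ ((toUnit G ≫ g) ≫ f) f,
    mul_inv_cancel_right]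

/-- Conjugate subgroups have corresponding points. -/
theorem pts_of_conjBy {H₁ H₂ : Over S} {i₁ : H₁ ⟶ G} {i₂ : H₂ ⟶ G} {g : 𝟙_ (Over S) ⟶ G}
    (h : SGA3x.ConjBy i₁ i₂ g) {X : Over S} (x : X ⟶ G) :
    (∃ z, z ≫ i₁ = x) ↔ ∃ z, z ≫ i₂ = x ≫ (MTImage.inn g).hom := by
  obtain ⟨φ, hφ⟩ := h
  have hφ' : i₁ ≫ (MTImage.inn g).hom = φ.hom ≫ i₂ := (MTImage.comp_inn g i₁).trans hφ
  constructor
  · rintro ⟨z, rfl⟩
    exact ⟨z ≫ φ.hom, by rw [Category.assoc, Category.assoc, hφ']⟩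
  · rintro ⟨z, hz⟩
    refine ⟨z ≫ φ.inv, (cancel_mono (MTImage.inn g).hom).1 ?_⟩
    rw [Category.assoc, Category.assoc, hφ', Iso.inv_hom_id_assoc, hz]

/-- Pushing a conjugation forward along a monomorphism of groups. -/
theorem conjBy_comp {A B H₁ H₂ : Over S} [GrpObj A] [GrpObj B] {i₁ : H₁ ⟶ A} {i₂ : H₂ ⟶ A} {g : 𝟙_ (Over S) ⟶ A}
    (h : SGA3x.ConjBy i₁ i₂ g) (c : A ⟶ B) [IsMonHom c] : SGA3x.ConjBy (i₁ ≫ c) (i₂ ≫ c) (g ≫ c) := by
  obtain ⟨φ, hφ⟩ := h
  refine ⟨φ, ?_⟩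
  rw [← Category.assoc φ.hom, ← hφ, MonObj.mul_comp, MonObj.mul_comp, GrpObj.inv_comp, Category.assoc]

/-- An automorphism carrying a subgroup to another carries the centralizing points to the centralizing points. -/
theorem centralizes_iff_of_pts {H₁ H₂ : Over S} (i₁ : H₁ ⟶ G) (i₂ : H₂ ⟶ G) (σ : G ≅ G) [IsMonHom σ.hom]
    (h : ∀ {Y : Over S} (y : Y ⟶ G), (∃ z, z ≫ i₁ = y) ↔ ∃ z, z ≫ i₂ = y ≫ σ.hom) {X : Over S} (x : X ⟶ G) :
    (∀ (X' : Over S) (p : X' ⟶ X) (w : X' ⟶ H₁), (p ≫ x) * (w ≫ i₁) = (w ≫ i₁) * (p ≫ x)) ↔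
      ∀ (X' : Over S) (p : X' ⟶ X) (w : X' ⟶ H₂), (p ≫ x ≫ σ.hom) * (w ≫ i₂) = (w ≫ i₂) * (p ≫ x ≫ σ.hom) := by
  constructor
  · intro hx X' p w
    obtain ⟨w', hw'⟩ := (h (w ≫ i₂ ≫ σ.inv)).2 ⟨w, by simp⟩
    have := congrArg (· ≫ σ.hom) (hx X' p w')
    simpa only [MonObj.mul_comp, Category.assoc, reassoc_of% hw', Iso.inv_hom_id, Category.comp_id] using this
  · intro hx X' p w
    obtain ⟨w', hw'⟩ := (h (w ≫ i₁)).1 ⟨w, rfl⟩
    have := hx X' p w'
    rw [hw', ← Category.assoc p, ← MonObj.mul_comp, ← MonObj.mul_comp, cancel_mono] at this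
    exact this

/-- A split torus is a torus. -/
theorem isTorus_of_split {T : Over S} [GrpObj T] {r : ℕ} (h : Red.IsSplitTorusWith (Fin r → ℤ) T) : Red.IsTorus T :=
  ParStd.isTorus_of_etale_split T fun s => ⟨S, 𝟙 S, r, inferInstance, ⟨s, rfl⟩, h.map fun ε => Chev.bcIdIso T ≪≫ ε⟩

theorem pts_inter {T T' : Over S} [GrpObj T] [GrpObj T'] (h : WC d f) (i : T ⟶ G) (a : T' ⟶ T) (b : T' ⟶ D)
    (hsq : IsPullback a b i d) {X : Over S} (x : X ⟶ G) :
    (∃ z, z ≫ a ≫ i = x) ↔ (∃ z, z ≫ i = x) ∧ x ≫ f = 1 := by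
  haveI := h.hf
  constructor
  · rintro ⟨z, rfl⟩
    refine ⟨⟨z ≫ a, Category.assoc _ _ _⟩, (h.pts _).1 ⟨z ≫ b, ?_⟩⟩
    rw [Category.assoc, hsq.w]
  · rintro ⟨⟨z, rfl⟩, hx⟩
    obtain ⟨y, hy⟩ := (h.pts _).2 hx
    exact ⟨hsq.lift z y hy.symm, by rw [hsq.lift_fst_assoc]⟩

/-- The intersection of a maximal torus with the derived group is a torus. -/
theorem isTorus_inter (hG : Red.IsReductive G) {f₀ : G ⟶ C} (hc : IsCorad d f₀) {T T' : Over S} [GrpObj T]
    [GrpObj T'] (i : T ⟶ G) (hT : Red.IsMaximalTorus i) (a : T' ⟶ T) [IsMonHom a] (b : T' ⟶ D)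
    (hsq : IsPullback a b i d) : Red.IsTorus T' := by
  haveI := hc.hd; haveI := hc.hf; haveI := hG.1; haveI := hG.2.1
  refine ParStd.isTorus_of_etale_split T' fun s => ?_
  obtain ⟨U, π, hπ, ⟨u, hu⟩, E, m, hmm, hmi, hm⟩ := hc.loc s
  haveI := hπ
  letI := E.acgM; letI := E.grpT; haveI := E.finiteM; haveI := E.freeM
  haveI := hmm; haveI := hmi; haveI := hT.1; haveI := hT.2.1
  let w := (wc_of_isCorad hG hc).bc π
  obtain ⟨T₀, g₀, a₀, b₀, r, ha₀, hb₀, hsq₀, ⟨ε⟩⟩ := exists_split_inter E m hm w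
  haveI : Smooth (Red.bc π G).hom := inferInstanceAs (Smooth (pullback.snd G.hom π))
  haveI : IsAffineHom (Red.bc π G).hom := MorphismProperty.pullback_snd G.hom π inferInstance
  obtain ⟨V, e, he, hes, g, hg⟩ := Groth.Agent.S4116.result U (Red.bc π G) (Red.bc π T) E.T ((Over.pullback π).map i) E.i
    (Chev.MaxTorusBC.isMaximalTorus_bc i hT π) E.maximalTorus
  haveI := he; haveI := hes
  obtain ⟨v, rfl⟩ := Surjective.surj (f := e) u
  refine ⟨V, e ≫ π, r, inferInstance, ⟨v, by rw [← hu]; rfl⟩, ?_⟩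
  let F := Over.pullback π
  let F' := Over.pullback e
  haveI : PreservesLimitsOfShape WalkingCospan F :=
    (Over.mapPullbackAdj π).rightAdjoint_preservesLimits.preservesLimitsOfShape
  haveI : PreservesLimitsOfShape WalkingCospan F' :=
    (Over.mapPullbackAdj e).rightAdjoint_preservesLimits.preservesLimitsOfShape
  have hp₁ := (hsq.map F).map F'
  have hp₂ := hsq₀.map F'
  haveI := E.maximalTorus.1; haveI := E.maximalTorus.2.1; haveI := ha₀; haveI := hb₀
  haveI := (wc_of_isCorad hG hc).mono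
  haveI := MTSplit.mono_bc π d
  haveI : Mono a := PullbackCone.mono_fst_of_is_pullback_of_mono hsq.isLimit
  haveI : Mono a₀ := PullbackCone.mono_fst_of_is_pullback_of_mono hsq₀.isLimit
  haveI := MTSplit.mono_bc π a; haveI := MTSplit.mono_bc π i
  haveI := MTSplit.mono_bc e (F.map a); haveI := MTSplit.mono_bc e (F.map i)
  haveI := MTSplit.mono_bc e a₀; haveI := MTSplit.mono_bc e E.i
  obtain ⟨φ, -⟩ := exists_iso_of_pts (F'.map (F.map a) ≫ F'.map (F.map i)) (F'.map a₀ ≫ F'.map E.i)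
    (MTImage.inn g) fun x => by
      rw [pts_inter (w.bc e) _ _ _ hp₁, pts_inter (w.bc e) _ _ _ hp₂, pts_of_conjBy hg, Category.assoc,
        inn_comp (w.bc e)]
  haveI := DynPar.isIso_ej e (Fin r → ℤ)
  haveI : IsMonHom (DynPar.ej e (Fin r → ℤ)) := DynPar.isMonHom_ej e
  exact ⟨bcComp π e T' ≪≫ φ ≪≫ bcMapIso e ε ≪≫ (RootBase.grpIso (DynPar.ej e (Fin r → ℤ))).symm⟩

/-- The centralizer of a maximal torus of the derived group is a maximal torus. -/
theorem exists_maximalTorus_of_derived (hG : Red.IsReductive G) {f₀ : G ⟶ C} (hc : IsCorad d f₀) {T' : Over S}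
    [GrpObj T'] (b : T' ⟶ D) (hb : Red.IsMaximalTorus b) :
    ∃ (T : Over S) (_ : GrpObj T) (i : T ⟶ G), Red.IsCentralizerOf (b ≫ d) i ∧ Red.IsMaximalTorus i := by
  haveI := hc.hd; haveI := hc.hf; haveI := hG.1; haveI := hG.2.1; haveI := hb.1; haveI := hb.2.1
  haveI := hc.closed; haveI := hc.smoothD
  have wS := wc_of_isCorad hG hc
  haveI := wS.mono
  haveI : IsAffineHom D.hom := by rw [← Over.w d]; infer_instance
  obtain ⟨Z, gZ, z, hz, -, -⟩ := MTBridge.exists_centralizer T' G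
    (MTBridge.locally_of_isMultTypeFT' T' (MTBridge.isMultTypeFT_of_isTorus _ hb.2.2.1)) inferInstance inferInstance
    (b ≫ d)
  haveI := hz.1; haveI := hz.2.1
  have hZ : Red.IsTorus Z := by
    refine ParStd.isTorus_of_etale_split Z fun s => ?_
    obtain ⟨U, π, hπ, ⟨u, hu⟩, E, m, hmm, hmi, hm⟩ := hc.loc s
    haveI := hπ
    letI := E.acgM; letI := E.grpT; haveI := E.finiteM; haveI := E.freeM
    haveI := hmm; haveI := hmi; haveI := E.maximalTorus.1; haveI := E.maximalTorus.2.1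
    let w := wS.bc π
    obtain ⟨T₀, g₀, a₀, b₀, r, ha₀, hb₀, hsq₀, hε⟩ := exists_split_inter E m hm w
    haveI := ha₀; haveI := hb₀
    have hGU : Red.IsReductive (Red.bc π G) := DynPar.isReductive_bc π hG
    haveI : Smooth (Red.bc π D).hom := inferInstanceAs (Smooth (pullback.snd D.hom π))
    haveI : IsAffineHom (Red.bc π D).hom := MorphismProperty.pullback_snd D.hom π inferInstance
    have h₀ := isMaximalTorus_inter hGU w E.i E.maximalTorus a₀ b₀ hsq₀ (isTorus_of_split hε)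
    obtain ⟨V, e, he, hes, g, hg⟩ := Groth.Agent.S4116.result U (Red.bc π D) (Red.bc π T') T₀ ((Over.pullback π).map b)
      b₀ (Chev.MaxTorusBC.isMaximalTorus_bc b hb π) h₀
    haveI := he; haveI := hes
    obtain ⟨v, rfl⟩ := Surjective.surj (f := e) u
    obtain ⟨r', ⟨ε⟩⟩ : ∃ r' : ℕ, Red.IsSplitTorusWith (Fin r' → ℤ) E.T := by
      obtain ⟨ε₀⟩ := MTQuot.nonempty_DS_congr (S := U) (Module.finBasis ℤ E.M).equivFun.toAddEquiv.symm
      exact ⟨_, ⟨E.split ≪≫ ε₀⟩⟩
    refine ⟨V, e ≫ π, r', inferInstance, ⟨v, by rw [← hu]; rfl⟩, ?_⟩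
    let F := Over.pullback π
    let F' := Over.pullback e
    haveI := MTSplit.mono_bc π b; haveI := MTSplit.mono_bc π z; haveI := MTSplit.mono_bc π d
    haveI := MTSplit.mono_bc e (F.map b); haveI := MTSplit.mono_bc e (F.map z); haveI := MTSplit.mono_bc e (F.map d)
    haveI := h₀.2.1; haveI := MTSplit.mono_bc e b₀
    haveI := MTSplit.mono_bc e E.i
    have hcZ := Chev.CentBC.isCentralizerOf_bc e _ _ (Chev.CentBC.isCentralizerOf_bc π (b ≫ d) z hz)
    have hcT := Chev.CentBC.isCentralizerOf_bc e _ _ (centralizer_inter hGU w E.i E.maximalTorus a₀ b₀ hsq₀)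
    rw [show (Over.pullback e).map ((Over.pullback π).map (b ≫ d)) = F'.map (F.map b) ≫ F'.map (F.map d) from by
      simp only [F, F', Functor.map_comp]] at hcZ
    rw [hsq₀.w, show (Over.pullback e).map (b₀ ≫ (Over.pullback π).map d) = F'.map b₀ ≫ F'.map (F.map d) from by
      simp only [F, F', Functor.map_comp]] at hcT
    haveI : IsMonHom (F'.map (F.map d)) := inferInstance
    obtain ⟨φ, -⟩ := exists_iso_of_pts (F'.map (F.map z)) (F'.map E.i)
      (MTImage.inn (g ≫ F'.map (F.map d))) fun x => by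
        rw [hcZ.2.2, hcT.2.2]
        exact (centralizes_iff_of_pts _ _ _ (fun y => pts_of_conjBy (conjBy_comp hg (F'.map (F.map d))) y) x)
    haveI := DynPar.isIso_ej e (Fin r' → ℤ)
    haveI : IsMonHom (DynPar.ej e (Fin r' → ℤ)) := DynPar.isMonHom_ej e
    exact ⟨bcComp π e Z ≪≫ φ ≪≫ bcMapIso e ε ≪≫ (RootBase.grpIso (DynPar.ej e (Fin r' → ℤ))).symm⟩
  obtain ⟨t, ht⟩ := (hz.2.2 T' (b ≫ d)).2 fun X x y => by
    letI : CommGroup (X ⟶ T') := { (inferInstance : Group (X ⟶ T')) with mul_comm := RedR1.mul_comm_torus hb.2.2.1 }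
    simp only [← Category.assoc]
    rw [← MonObj.mul_comp, ← MonObj.mul_comp, ← MonObj.mul_comp, ← MonObj.mul_comp, mul_comm]
  refine ⟨Z, gZ, z, hz, RedCartan.isMaximalTorus_of_isCentralizerOf_self z hZ
    ⟨inferInstance, inferInstance, fun X g => ⟨fun ⟨x, hx⟩ X' y w => ?_, fun hg => (hz.2.2 X g).2 fun X' y w => ?_⟩⟩⟩
  · subst hx
    letI : CommGroup (X' ⟶ Z) := { (inferInstance : Group (X' ⟶ Z)) with mul_comm := RedR1.mul_comm_torus hZ }
    rw [← Category.assoc, ← MonObj.mul_comp, ← MonObj.mul_comp, mul_comm]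
  · have := hg X' y (w ≫ t)
    rwa [Category.assoc, ht] at this

end Groth.Agent.Corad
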