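import Groth.Agent.Corad.TorusSubField
import Groth.Agent.S5314
import Groth.Agent.GrpField.Fibres
import Groth.Agent.FpqcDescent.Immersion

/-!
# Smooth subgroups with connected fibres of a split torus are tori
-/

set_option autoImplicit false
set_option backward.isDefEq.respectTransparency false
set_option linter.style.haveILetI false
set_option linter.unusedSectionVars false
set_option maxHeartbeats 1000000
set_option synthInstance.maxHeartbeats 400000

universe u

open CategoryTheory Limits MonoidalCategory CartesianMonoidalCategory MonObj GrpObj AlgebraicGeometry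
open scoped CategoryTheory.Obj

noncomputable section

namespace Groth.Agent.TorusSub

open Groth.Agent.MTBridge Groth.Agent.HomDiag Groth.Agent.MTQuot

variable {S : Scheme.{u}} {M : Type} [AddCommGroup M] [Module.Finite ℤ M] [Module.Free ℤ M] {X : Over S} [GrpObj X]

section Point

variable {K : Type u} [Field K] (ψ : Spec (CommRingCat.of K) ⟶ S)

/-- The point of the split torus on a fibre. -/
def xt (x : X ⟶ Red.DS S M) : (Over.pullback ψ).obj X ⟶ Red.DS (Spec (CommRingCat.of K)) M :=
  (Over.pullback ψ).map x ≫ (bcDS ψ M).hom.hom.hom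

variable (x : X ⟶ Red.DS S M) [IsMonHom x] [Mono x] [Smooth X.hom]

theorem isMonHom_xt : IsMonHom (xt ψ x) := by
  haveI : IsMonHom (bcDS ψ M).hom.hom.hom := (bcDS ψ M).hom.hom.isMonHom_hom
  rw [xt]
  infer_instance

theorem mono_xt : Mono (xt ψ x) := by
  haveI : IsIso (bcDS ψ M).hom.hom.hom := ((Grp.forget _).mapIso (bcDS ψ M)).isIso_hom
  haveI := MTSplit.mono_bc ψ x
  rw [xt]
  exact mono_comp _ _

instance : Smooth ((Over.pullback ψ).obj X).hom := inferInstanceAs (Smooth (pullback.snd X.hom ψ))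

omit [IsMonHom x] [Mono x] in
theorem mem_chKer_xt {s : S} (hr : Set.range ψ = {s}) {m : M} : m ∈ chKer (xt ψ x) ↔
    ∀ p : X.left, X.hom p = s → p ∉ X.left.basicOpen (ch x (Multiplicative.ofAdd m) - 1) := by
  let Xs := (Over.pullback ψ).obj X
  let a : (Over.map ψ).obj Xs ⟶ X := Over.homMk (pullback.fst X.hom ψ) pullback.condition
  have ha : toBC ψ a = 𝟙 Xs := by
    apply Over.OverMorphism.ext
    apply pullback.hom_ext
    · simp [toBC, Over.mapPullbackAdj, a, Xs]
    · simp [toBC, Over.mapPullbackAdj, Xs]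
  have hxt : xt ψ x = toBC ψ (a ≫ x) ≫ (bcDS ψ M).hom.hom.hom := by
    rw [toBC_comp, ha, Category.id_comp]; rfl
  rw [mem_chKer, hxt, ch_toBC_bcDS, ch_comp]
  haveI : AlgebraicGeometry.IsReduced (pullback X.hom ψ) := SmoothRed.isReduced_of_smooth_scheme Xs.hom
  show (pullback.fst X.hom ψ).appTop _ = 1 ↔ _
  rw [← sub_eq_zero, ← map_one ((pullback.fst X.hom ψ).appTop).hom, ← map_sub,
    ← basicOpen_eq_bot_iff, ← Scheme.preimage_basicOpen_top]
  constructor
  · rintro h p hps hp
    have : p ∈ Set.range (pullback.fst X.hom ψ) := by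
      rw [Scheme.Pullback.range_fst, hr]
      exact hps
    obtain ⟨q, rfl⟩ := this
    exact (TopologicalSpace.Opens.coe_eq_empty.2 h).subset hp
  · intro h
    refine TopologicalSpace.Opens.coe_eq_empty.1 (Set.eq_empty_of_forall_notMem fun q hq => h _ ?_ hq)
    have : pullback.fst X.hom ψ q ∈ Set.range (pullback.fst X.hom ψ) := ⟨q, rfl⟩
    rw [Scheme.Pullback.range_fst, hr] at this
    exact this

variable [ConnectedSpace ((Over.pullback ψ).obj X).left]

theorem saturated_at {k : ℤ} {m : M} (hk : k ≠ 0) (h : k • m ∈ chKer (xt ψ x)) : m ∈ chKer (xt ψ x) :=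
  haveI := isMonHom_xt ψ x
  saturated (xt ψ x) hk h

theorem DSmap_bc_assoc {U : Scheme.{u}} (j : U ⟶ S) {N : Type} [AddCommGroup N] (θ : N →+ M) {Z : Over U}
    (h : Red.DS U N ⟶ Z) :
    (Over.pullback j).map (Red.DSmap S θ) ≫ (bcDS j N).hom.hom.hom ≫ h =
      (bcDS j M).hom.hom.hom ≫ Red.DSmap U θ ≫ h := by
  rw [← Category.assoc, MTTorus.DSmap_bc, Category.assoc]

variable [QuasiCompact X.hom] {r : ℕ} (σ : (Fin r → ℤ) →+ M)

/-- The fibre of a coordinate map is a map of split tori. -/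
theorem exists_fibre_map :
    ∃ (e₁ : ((Over.pullback ψ).obj X).left ⟶ (Red.DS (Spec (CommRingCat.of K)) (M ⧸ chKer (xt ψ x))).left)
      (e₂ : (Red.DS (Spec (CommRingCat.of K)) (Fin r → ℤ)).left ⟶ ((Over.pullback ψ).obj (Red.DS S (Fin r → ℤ))).left),
      IsIso e₁ ∧ IsIso e₂ ∧ ((Over.pullback ψ).map (x ≫ Red.DSmap S σ)).left =
        e₁ ≫ (Red.DSmap _ ((QuotientAddGroup.mk' (chKer (xt ψ x))).comp σ)).left ≫ e₂ := by
  haveI : QuasiCompact ((Over.pullback ψ).obj X).hom := inferInstanceAs (QuasiCompact (pullback.snd X.hom ψ))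
  haveI := isMonHom_xt ψ x
  haveI := mono_xt ψ x
  obtain ⟨φ, hφi, hφ⟩ := exists_iso_field (xt ψ x)
  let b := (Grp.forget _).mapIso (bcDS ψ (Fin r → ℤ))
  haveI : IsIso φ.left := inferInstanceAs (IsIso ((Over.forget _).map φ))
  haveI : IsIso b.inv.left := inferInstanceAs (IsIso ((Over.forget _).map b.inv))
  refine ⟨φ.left, b.inv.left, inferInstance, inferInstance, ?_⟩
  rw [← Over.comp_left, ← Over.comp_left, ← DSmap_comp, ← Category.assoc, ← Category.assoc,
    show φ ≫ Red.DSmap _ (QuotientAddGroup.mk' (chKer (xt ψ x))) = xt ψ x from hφ, xt, Category.assoc, Category.assoc,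
    ← DSmap_bc_assoc ψ σ, Functor.map_comp]
  congr 2
  rw [show (bcDS ψ (Fin r → ℤ)).hom.hom.hom ≫ b.inv = 𝟙 _ from b.hom_inv_id, Category.comp_id]

theorem isIso_DSmap {T : Scheme.{u}} {A B : Type} [AddCommGroup A] [AddCommGroup B] (θ : B →+ A)
    (h : Function.Bijective θ) : IsIso (Red.DSmap T θ).left := by
  let e := AddEquiv.ofBijective θ h
  haveI : IsIso (Red.DSmap T θ) := ⟨Red.DSmap T e.symm.toAddMonoidHom, by
      rw [DSmap_comp, ← DSmap_id]; congr 1; ext a; exact e.apply_symm_apply a, by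
      rw [DSmap_comp, ← DSmap_id]; congr 1; ext a; exact e.symm_apply_apply a⟩
  exact inferInstanceAs (IsIso ((Over.forget _).map (Red.DSmap T θ)))

theorem isIso_at_self (π : M →+ (Fin r → ℤ)) (hπσ : ∀ p, π (σ p) = p)
    (hπ : ∀ m, π m = 0 ↔ m ∈ chKer (xt ψ x)) :
    IsIso ((Over.pullback ψ).map (x ≫ Red.DSmap S σ)).left := by
  obtain ⟨e₁, e₂, h₁, h₂, he⟩ := exists_fibre_map ψ x σ
  haveI := isIso_DSmap (T := Spec (CommRingCat.of K)) ((QuotientAddGroup.mk' (chKer (xt ψ x))).comp σ) ⟨by
    refine (injective_iff_map_eq_zero _).2 fun p hp => ?_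
    rw [← hπσ p]
    exact (hπ _).2 ((QuotientAddGroup.eq_zero_iff _).1 hp), fun q => by
    obtain ⟨m, rfl⟩ := QuotientAddGroup.mk'_surjective (chKer (xt ψ x)) q
    refine ⟨π m, ((QuotientAddGroup.mk'_eq_mk' _).2 ⟨m - σ (π m), (hπ _).1 (by rw [map_sub, hπσ, sub_self]), by abel⟩)⟩⟩
  rw [he]
  infer_instance

theorem etale_DSmap_of_etale (ht : Etale ((Over.pullback ψ).map (x ≫ Red.DSmap S σ)).left) :
    Etale (Red.DSmap (Spec (CommRingCat.of K)) ((QuotientAddGroup.mk' (chKer (xt ψ x))).comp σ)).left := by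
  obtain ⟨e₁, e₂, h₁, h₂, he⟩ := exists_fibre_map ψ x σ
  rw [he, MorphismProperty.cancel_left_of_respectsIso @Etale, MorphismProperty.cancel_right_of_respectsIso @Etale] at ht
  exact ht

theorem smul_mem_of_etale (ht : Etale ((Over.pullback ψ).map (x ≫ Red.DSmap S σ)).left) (m : M) :
    ∃ k : ℤ, k ≠ 0 ∧ ∃ p, k • m - σ p ∈ chKer (xt ψ x) := by
  haveI := etale_DSmap_of_etale ψ x σ ht
  haveI : Module.Finite ℤ (M ⧸ chKer (xt ψ x)) := Module.Finite.of_surjective
    (QuotientAddGroup.mk' (chKer (xt ψ x))).toIntLinearMap (QuotientAddGroup.mk'_surjective _)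
  obtain ⟨k, hk, p, hp⟩ := exists_smul_mem_range (κ := K) ((QuotientAddGroup.mk' (chKer (xt ψ x))).comp σ)
    (QuotientAddGroup.mk' (chKer (xt ψ x)) m)
  refine ⟨k, hk, p, ?_⟩
  rw [← QuotientAddGroup.eq_zero_iff]
  show QuotientAddGroup.mk' (chKer (xt ψ x)) (k • m - σ p) = 0
  rw [map_sub, map_zsmul, ← hp]
  exact sub_self _

theorem isIso_of_etale (π : M →+ (Fin r → ℤ)) (ht : Etale ((Over.pullback ψ).map (x ≫ Red.DSmap S σ)).left)
    (hle : ∀ m, m - σ (π m) ∈ chKer (xt ψ x)) : IsIso ((Over.pullback ψ).map (x ≫ Red.DSmap S σ)).left := by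
  haveI := etale_DSmap_of_etale ψ x σ ht
  haveI : AddGroup.FG M := Module.Finite.iff_addGroup_fg.1 inferInstance
  haveI : AddGroup.FG (M ⧸ chKer (xt ψ x)) :=
    AddGroup.fg_of_surjective (f := QuotientAddGroup.mk' (chKer (xt ψ x))) (QuotientAddGroup.mk'_surjective _)
  obtain ⟨e₁, e₂, h₁, h₂, he⟩ := exists_fibre_map ψ x σ
  haveI := isIso_DSmap (T := Spec (CommRingCat.of K)) ((QuotientAddGroup.mk' (chKer (xt ψ x))).comp σ)
    ⟨injective_of_flat (κ := K) _, fun q => by
      obtain ⟨m, rfl⟩ := QuotientAddGroup.mk'_surjective (chKer (xt ψ x)) q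
      exact ⟨π m, (QuotientAddGroup.mk'_eq_mk' _).2 ⟨m - σ (π m), hle m, by abel⟩⟩⟩
  rw [he]
  infer_instance

end Point

/-- The characters trivial on a fibre. -/
def fibKer (x : X ⟶ Red.DS S M) (s : S) : AddSubgroup M :=
  chKer (xt (K := S.residueField s) (S.fromSpecResidueField s) x)

variable (x : X ⟶ Red.DS S M) [IsMonHom x] [Mono x] [Smooth X.hom]

omit [IsMonHom x] [Mono x] in
theorem mem_fibKer {m : M} {s : S} : m ∈ fibKer x s ↔
    ∀ p : X.left, X.hom p = s → p ∉ X.left.basicOpen (ch x (Multiplicative.ofAdd m) - 1) :=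
  mem_chKer_xt _ x (Scheme.range_fromSpecResidueField s)

omit [IsMonHom x] [Mono x] in
/-- Trivial characters specialise. -/
theorem fibKer_le_of_specializes {t s : S} (h : t ⤳ s) : fibKer x t ≤ fibKer x s := by
  intro m hm
  rw [mem_fibKer] at hm ⊢
  intro p hp hpO
  subst hp
  obtain ⟨q, hq, hqt⟩ := Flat.generalizingMap X.hom h
  exact hm q hqt (hq.mem_open (X.left.basicOpen _).2 hpO)

variable (hconn : ∀ s : S, _root_.IsConnected (X.hom.base ⁻¹' {s}))
include hconn

theorem quasiCompact_X : QuasiCompact X.hom :=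
  haveI := GrpField.geometricallyIrreducible_of_connected_fibres X hconn
  GrpField.quasiCompact_of_irreducible X

theorem connected_fib (s : S) : ConnectedSpace ((Over.pullback (S.fromSpecResidueField s)).obj X).left := by
  have : ConnectedSpace ↥(X.hom ⁻¹' {s}) := isConnected_iff_connectedSpace.1 (hconn s)
  exact (X.hom.fiberHomeo s).symm.surjective.connectedSpace (X.hom.fiberHomeo s).symm.continuous

theorem saturated_fibKer (s : S) {k : ℤ} {m : M} (hk : k ≠ 0) (h : k • m ∈ fibKer x s) : m ∈ fibKer x s :=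
  haveI := connected_fib hconn s
  saturated_at (K := S.residueField s) _ x hk h

/-- A splitting of the characters trivial on a fibre. -/
theorem exists_splitting (s : S) : ∃ (r : ℕ) (π : M →+ (Fin r → ℤ)) (σ : (Fin r → ℤ) →+ M),
    (∀ p, π (σ p) = p) ∧ ∀ m, π m = 0 ↔ m ∈ fibKer x s := by
  let N : Submodule ℤ M := AddSubgroup.toIntSubmodule (fibKer x s)
  haveI : Module.IsTorsionFree ℤ (M ⧸ N) := by
    refine Module.IsTorsionFree.of_smul_eq_zero fun z y hzy => ?_
    induction y using Submodule.Quotient.induction_on with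
    | _ n =>
      by_cases hz : z = 0
      · exact Or.inl hz
      · rw [← Submodule.Quotient.mk_smul, Submodule.Quotient.mk_eq_zero] at hzy
        exact Or.inr ((Submodule.Quotient.mk_eq_zero _).2 (saturated_fibKer x hconn s hz hzy))
  haveI : Module.Free ℤ (M ⧸ N) := Module.free_of_finite_type_torsion_free'
  let e := (Module.finBasis ℤ (M ⧸ N)).equivFun
  obtain ⟨τ, hτ⟩ := Module.projective_lifting_property N.mkQ
    (e.symm.toLinearMap) N.mkQ_surjective
  refine ⟨_, (e.toLinearMap.comp N.mkQ).toAddMonoidHom, τ.toAddMonoidHom, fun p => ?_, fun m => ?_⟩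
  · show e (N.mkQ (τ p)) = p
    rw [← LinearMap.comp_apply N.mkQ τ, hτ]
    exact e.apply_symm_apply p
  · show e (N.mkQ m) = 0 ↔ _
    rw [LinearEquiv.map_eq_zero_iff, Submodule.mkQ_apply, Submodule.Quotient.mk_eq_zero]
    rfl

/-- The fibre of the coordinate map at the point defining it is etale. -/
theorem etale_at {r : ℕ} (π : M →+ (Fin r → ℤ)) (σ : (Fin r → ℤ) →+ M) (s : S)
    (hπσ : ∀ p, π (σ p) = p) (hπ : ∀ m, π m = 0 ↔ m ∈ fibKer x s) :
    Etale ((Over.pullback (S.fromSpecResidueField s)).map (x ≫ Red.DSmap S σ)).left :=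
  haveI := connected_fib hconn s
  haveI := quasiCompact_X hconn
  haveI := isIso_at_self (K := S.residueField s) (S.fromSpecResidueField s) x σ π hπσ hπ
  inferInstance

/-- The characters trivial on fibres are constant along specialisations. -/
theorem fibKer_eq_of_specializes {t s : S} (h : t ⤳ s) : fibKer x t = fibKer x s := by
  refine le_antisymm (fibKer_le_of_specializes x h) fun m hm => ?_
  obtain ⟨r, π, σ, hπσ, hπ⟩ := exists_splitting x hconn s
  haveI : IsMonHom (x ≫ Red.DSmap S σ) := by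
    haveI : IsMonHom (Red.DSmap S σ) := isMonHom_DSmap _
    infer_instance
  haveI : LocallyOfFinitePresentation (Red.DS S (Fin r → ℤ)).hom :=
    MTBridge.locallyOfFinitePresentation_of_isMultTypeFT _ (MTTorus.isMultTypeFT_DS _ _)
  have hop := (Groth.Agent.S5314.result S X _ (x ≫ Red.DSmap S σ)).1
  haveI ht : Etale ((Over.pullback (S.fromSpecResidueField t)).map (x ≫ Red.DSmap S σ)).left :=
    h.mem_open hop (etale_at x hconn π σ s hπσ hπ)
  haveI := connected_fib hconn t
  haveI := quasiCompact_X hconn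
  obtain ⟨k, hk, p, h1⟩ := smul_mem_of_etale (K := S.residueField t) (S.fromSpecResidueField t) x σ ht m
  have hp0 : p = 0 := by
    have h2 := (hπ _).2 (fibKer_le_of_specializes x h h1)
    rw [map_sub, map_zsmul, (hπ m).2 hm, smul_zero, zero_sub, neg_eq_zero, hπσ] at h2
    exact h2
  rw [hp0, map_zero, sub_zero] at h1
  exact saturated_fibKer x hconn t hk h1

/-- The points where a character is trivial form an open set. -/
theorem isOpen_mem (m : M) : IsOpen {t : S | m ∈ fibKer x t} := by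
  let O := X.left.basicOpen (ch x (Multiplicative.ofAdd m) - 1)
  haveI := quasiCompact_X hconn
  have hU : {t : S | m ∈ fibKer x t} = (Set.range (O.ι ≫ X.hom))ᶜ := by
    ext t
    rw [Set.mem_ofPred_eq, mem_fibKer, Set.mem_compl_iff]
    constructor
    · rintro h ⟨q, hq⟩
      exact h q.1 hq q.2
    · intro h p hp hpO
      exact h ⟨⟨p, hpO⟩, hp⟩
  rw [hU, isOpen_compl_iff]
  refine isClosed_of_closure_subset fun s hs => ?_
  obtain ⟨q, hq⟩ := FpqcDescent.exists_specializes_of_mem_closure (O.ι ≫ X.hom) hs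
  by_contra hs'
  have h1 : m ∈ fibKer x s := by
    rw [← Set.mem_compl_iff, ← hU] at hs'
    exact hs'
  rw [← fibKer_eq_of_specializes x hconn hq, mem_fibKer] at h1
  exact h1 q.1 rfl q.2

include x in
/-- Near every point the subgroup is a split torus. -/
theorem exists_split_nhd (s : S) : ∃ (W : S.Opens) (r : ℕ), s ∈ W ∧
    Red.IsSplitTorusWith (Fin r → ℤ) (Red.bc W.ι X) := by
  obtain ⟨r, π, σ, hπσ, hπ⟩ := exists_splitting x hconn s
  haveI : AddGroup.FG M := Module.Finite.iff_addGroup_fg.1 inferInstance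
  obtain ⟨gens, hgens⟩ : (AddSubgroup.toIntSubmodule (fibKer x s)).FG := IsNoetherian.noetherian _
  let w := x ≫ Red.DSmap S σ
  haveI : IsMonHom w := by
    haveI : IsMonHom (Red.DSmap S σ) := isMonHom_DSmap _
    infer_instance
  haveI : LocallyOfFinitePresentation (Red.DS S (Fin r → ℤ)).hom :=
    MTBridge.locallyOfFinitePresentation_of_isMultTypeFT _ (MTTorus.isMultTypeFT_DS _ _)
  haveI : Smooth (Red.DS S (Fin r → ℤ)).hom := MTImage.smooth_torus (MTCentre.isTorus_DS_scheme S r)
  have hop := (Groth.Agent.S5314.result S X _ w).1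
  let W : S.Opens := ⟨{t | Etale ((Over.pullback (S.fromSpecResidueField t)).map w).left} ∩
    ⋂ g ∈ gens, {t | g ∈ fibKer x t}, hop.inter (isOpen_biInter_finset fun g _ => isOpen_mem x hconn g)⟩
  refine ⟨W, r, ⟨etale_at x hconn π σ s hπσ hπ, Set.mem_iInter₂.2 fun g hg => ?_⟩, ?_⟩
  · show g ∈ fibKer x s
    have := Submodule.subset_span (R := ℤ) hg
    rw [hgens] at this
    exact this
  have hfib : ∀ t ∈ W, IsIso ((Over.pullback (S.fromSpecResidueField t)).map w).left := by
    rintro t ⟨ht, hle⟩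
    have hle' : fibKer x s ≤ fibKer x t := by
      intro m hm
      have : m ∈ Submodule.span ℤ (gens : Set M) := by rw [hgens]; exact hm
      exact Submodule.span_le (p := AddSubgroup.toIntSubmodule (fibKer x t)).2
        (fun g hg => (Set.mem_iInter₂.1 hle g hg : g ∈ fibKer x t)) this
    haveI := connected_fib hconn t
    haveI := quasiCompact_X hconn
    exact isIso_of_etale (K := S.residueField t) (S.fromSpecResidueField t) x σ π ht fun m =>
      hle' ((hπ _).1 (by rw [map_sub, hπσ, sub_self]))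
  let F := Over.pullback W.ι
  haveI : Smooth (F.obj X).hom := inferInstanceAs (Smooth (pullback.snd X.hom W.ι))
  haveI : Smooth (F.obj (Red.DS S (Fin r → ℤ))).hom :=
    inferInstanceAs (Smooth (pullback.snd (Red.DS S (Fin r → ℤ)).hom W.ι))
  have hft : ∀ t : W, IsIso ((Over.pullback ((W : Scheme.{u}).fromSpecResidueField t)).map (F.map w)) := fun t => by
    haveI := hfib t.1 t.2
    haveI : IsIso ((Over.pullback (S.fromSpecResidueField (W.ι t))).map w) :=
      (isIso_iff_of_reflects_iso _ (Over.forget _)).1 (hfib (W.ι t) t.2)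
    let θ := Spec.map (W.ι.residueFieldMap t)
    have e : θ ≫ S.fromSpecResidueField (W.ι t) = (W : Scheme.{u}).fromSpecResidueField t ≫ W.ι :=
      Scheme.Hom.SpecMap_residueFieldMap_fromSpecResidueField _ _
    haveI : IsIso ((Over.pullback (θ ≫ S.fromSpecResidueField (W.ι t))).map w) :=
      (NatIso.isIso_map_iff (Over.pullbackComp θ (S.fromSpecResidueField (W.ι t))) w).2
        (show IsIso ((Over.pullback θ).map ((Over.pullback (S.fromSpecResidueField (W.ι t))).map w)) from inferInstance)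
    rw [e] at this
    exact (NatIso.isIso_map_iff (Over.pullbackComp ((W : Scheme.{u}).fromSpecResidueField t) W.ι) w).1 this
  haveI : IsIso (F.map w).left := FibCrit.isIso_of_fibres (Over.w (F.map w)) fun t => by
    haveI := hft t
    haveI : IsIso (GrpField.fibHom (F.map w) t) := hft t
    haveI : IsIso (GrpField.fibHom (F.map w) t).left :=
      inferInstanceAs (IsIso ((Over.forget _).map (GrpField.fibHom (F.map w) t)))
    have hp := GrpField.isPullback_fibHom (F.map w) t
    haveI : IsIso (hp.isoPullback.hom ≫ pullback.snd (F.map w).left ((F.obj (Red.DS S (Fin r → ℤ))).hom.fiberι t)) :=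
      (congrArg (fun f => IsIso f) hp.isoPullback_hom_snd).mpr ‹_›
    exact IsIso.of_isIso_comp_left hp.isoPullback.hom _
  haveI : IsIso (F.map w) := (isIso_iff_of_reflects_iso _ (Over.forget _)).1 ‹_›
  exact ⟨RootBase.grpIso (F.map w) ≪≫ bcDS W.ι (Fin r → ℤ)⟩

include x in
/-- A smooth subgroup with connected fibres of a split torus is a torus. -/
theorem isTorus_sub_DS : Red.IsTorus X :=
  ParStd.isTorus_of_etale_split X fun s => by
    obtain ⟨W, r, hs, h⟩ := exists_split_nhd x hconn s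
    exact ⟨W, W.ι, r, inferInstance, ⟨⟨s, hs⟩, rfl⟩, h⟩

end Groth.Agent.TorusSub
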