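import Groth.Agent.Corad.Subgrp
import Groth.Agent.S0348
import Groth.Agent.GrpField.Kernel
import Groth.Agent.RootIntrinsic.Weyl

/-!
# Smooth connected subgroups of split tori over a field, and etale maps of split tori
-/

set_option autoImplicit false
set_option backward.isDefEq.respectTransparency false
set_option linter.style.haveILetI false
set_option linter.unusedSectionVars false
set_option maxHeartbeats 1000000
set_option synthInstance.maxHeartbeats 400000

universe u

open CategoryTheory Limits MonoidalCategory CartesianMonoidalCategory MonObj GrpObj AlgebraicGeometry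
open scoped CategoryTheory.Obj

noncomputable section

namespace Groth.Agent.TorusSub

open Groth.Agent.MTBridge Groth.Agent.HomDiag Groth.Agent.MTQuot

/-- A root of unity in a domain over a field which specialises to one is one. -/
theorem eq_one_of_pow {R K : Type u} [CommRing R] [IsDomain R] [Field K] (ιK : K →+* R) (ε : R →+* K) (g : R)
    (hε : ε g = 1) (k : ℕ) (hk : k ≠ 0) (h : g ^ k = 1) : g = 1 := by
  induction k using Nat.strong_induction_on with
  | _ k ih =>
    have h0 : (g - 1) * ∑ i ∈ Finset.range k, g ^ i = 0 := by rw [mul_geom_sum, h, sub_self]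
    rcases mul_eq_zero.1 h0 with h1 | h1
    · exact sub_eq_zero.1 h1
    have hkK : (k : K) = 0 := by
      have := congrArg ε h1
      simpa [map_sum, hε] using this
    obtain ⟨p, hp⟩ := CharP.exists K
    haveI := hp
    have hpk : p ∣ k := (CharP.cast_eq_zero_iff K p k).1 hkK
    have hpp : p.Prime := (CharP.char_is_prime_or_zero K p).resolve_right fun h => by
      subst h; exact hk (Nat.eq_zero_of_zero_dvd hpk)
    haveI : CharP R p := (RingHom.charP_iff ιK ιK.injective p).1 hp
    haveI : Fact p.Prime := ⟨hpp⟩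
    obtain ⟨k', rfl⟩ := hpk
    have hk' : k' ≠ 0 := fun h => hk (by rw [h, Nat.mul_zero])
    refine ih k' (lt_mul_of_one_lt_left (Nat.pos_of_ne_zero hk') hpp.one_lt) hk' ?_
    have : (g ^ k' - 1) ^ p = 0 := by
      rw [sub_pow_char, one_pow, ← pow_mul, Nat.mul_comm k' p, h, sub_self]
    exact sub_eq_zero.1 (pow_eq_zero_iff hpp.ne_zero |>.1 this)

variable {S : Scheme.{u}} {M : Type} [AddCommGroup M]

/-- The characters trivial on a point. -/
def chKer {X : Over S} (x : X ⟶ Red.DS S M) : AddSubgroup M where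
  carrier := {m | ch x (Multiplicative.ofAdd m) = 1}
  zero_mem' := map_one _
  add_mem' {a b} ha hb := by
    show ch x (Multiplicative.ofAdd (a + b)) = 1
    rw [ofAdd_add, map_mul, ha, hb, _root_.one_mul]
  neg_mem' {a} ha := by
    show ch x (Multiplicative.ofAdd (-a)) = 1
    have h := map_mul (ch x) (Multiplicative.ofAdd (-a)) (Multiplicative.ofAdd a)
    rw [← ofAdd_add, neg_add_cancel, ofAdd_zero, map_one, show ch x (Multiplicative.ofAdd a) = 1 from ha,
      _root_.mul_one] at h
    exact h.symm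

theorem mem_chKer {X : Over S} {x : X ⟶ Red.DS S M} {m : M} :
    m ∈ chKer x ↔ ch x (Multiplicative.ofAdd m) = 1 := Iff.rfl

variable {κ : Type u} [Field κ]

local notation "Sκ" => Spec (CommRingCat.of κ)

theorem DSmap_inj_field {A B : Type} [AddCommGroup A] [AddCommGroup B] {θ θ' : B →+ A}
    (h : Red.DSmap Sκ θ = Red.DSmap Sκ θ') : θ = θ' :=
  MTSplit.eq_of_DSmap (V := ⊤) (s := IsLocalRing.closedPoint κ) trivial θ θ' fun X _ x => by rw [h]

theorem isConnected_DS (r : ℕ) : ConnectedSpace ↥(Red.DS Sκ (Fin r → ℤ)).left := by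
  haveI : Subsingleton ↥Sκ := inferInstanceAs (Subsingleton (PrimeSpectrum κ))
  have h := MTImage.isConnected_fibre_torus (MTCentre.isTorus_DS_scheme Sκ r) (IsLocalRing.closedPoint κ)
  rw [show (Red.DS Sκ (Fin r → ℤ)).hom.base ⁻¹' {IsLocalRing.closedPoint κ} = Set.univ from
    Set.eq_univ_of_forall fun x => Subsingleton.elim _ _] at h
  exact connectedSpace_iff_univ.2 h

/-- A smooth connected group over a field is integral. -/
theorem isIntegral_grp (X : Over Sκ) [GrpObj X] [Smooth X.hom] [ConnectedSpace X.left] :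
    IsIntegral X.left := by
  haveI := Groth.Agent.S0348.result κ X
  haveI : AlgebraicGeometry.IsReduced X.left := SmoothRed.isReduced_of_smooth_scheme X.hom
  exact isIntegral_of_irreducibleSpace_of_isReduced _

variable [Module.Finite ℤ M]

/-- The characters trivial on a smooth connected subgroup form a saturated subgroup. -/
theorem saturated {X : Over Sκ} [GrpObj X] [Smooth X.hom] [ConnectedSpace X.left] (x : X ⟶ Red.DS Sκ M) [IsMonHom x]
    {k : ℤ} {m : M} (hk : k ≠ 0) (h : k • m ∈ chKer x) : m ∈ chKer x := by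
  haveI := isIntegral_grp X
  haveI : Nonempty ↥(⊤ : X.left.Opens) := by
    obtain ⟨p⟩ := (inferInstance : Nonempty X.left)
    exact ⟨⟨p, trivial⟩⟩
  have h' : k.natAbs • m ∈ chKer x := by
    rcases Int.natAbs_eq k with hk' | hk' <;> rw [hk'] at h
    · rwa [natCast_zsmul] at h
    · rw [neg_zsmul, natCast_zsmul] at h
      exact neg_mem_iff.1 h
  let ιK : κ →+* Γ(X.left, ⊤) := ((Scheme.ΓSpecIso (CommRingCat.of κ)).inv ≫ X.hom.appTop).hom
  let ε : Γ(X.left, ⊤) →+* κ := ((η[X]).left.appTop ≫ (Scheme.ΓSpecIso (CommRingCat.of κ)).hom).hom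
  refine eq_one_of_pow ιK ε _ ?_ k.natAbs (Int.natAbs_ne_zero.2 hk) ?_
  · have h1 : ch (η[X] ≫ x) (Multiplicative.ofAdd m) = 1 := by
      rw [IsMonHom.one_hom x, show (η[Red.DS Sκ M] : 𝟙_ (Over Sκ) ⟶ _) = 1 by
        rw [Hom.one_def, toUnit_unit, Category.id_comp], ch_one]
    rw [ch_comp] at h1
    show (Scheme.ΓSpecIso (CommRingCat.of κ)).hom ((η[X]).left.appTop _) = 1
    rw [h1, map_one]
  · rw [← map_pow, ← ofAdd_nsmul]
    exact h'

/-- A smooth connected subgroup of a split torus over a field is cut out by characters. -/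
theorem exists_iso_field {X : Over Sκ} [GrpObj X] [Smooth X.hom] [QuasiCompact X.hom]
    (x : X ⟶ Red.DS Sκ M) [IsMonHom x] [Mono x] :
    ∃ φ : X ⟶ Red.DS Sκ (M ⧸ chKer x), IsIso φ ∧ φ ≫ Red.DSmap Sκ (QuotientAddGroup.mk' (chKer x)) = x := by
  haveI : AddGroup.FG M := Module.Finite.iff_addGroup_fg.1 inferInstance
  haveI : IsAffineHom (Red.DS Sκ M).hom := MTBridge.isAffineHom_DS _ _
  haveI : LocallyOfFinitePresentation (Red.DS Sκ M).hom :=
    MTBridge.locallyOfFinitePresentation_of_isMultTypeFT _ (MTTorus.isMultTypeFT_DS _ M)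
  haveI hxc : IsClosedImmersion x.left := by
    haveI : QuasiCompact (x.left ≫ (Red.DS Sκ M).hom) := by rw [Over.w]; infer_instance
    haveI : QuasiCompact x.left := QuasiCompact.of_comp x.left (Red.DS Sκ M).hom
    exact GrpField.isClosedImmersion_of_mono x
  have hKm := Groth.Agent.S19598.result X _ (MTTorus.isMultTypeFT_DS _ M) x hxc inferInstance inferInstance
  obtain ⟨S', f, Nf, hf, -, hloc⟩ := exists_nfun x hKm
  let s₀ : Sκ := IsLocalRing.closedPoint κ
  haveI : Subsingleton ↥Sκ := inferInstanceAs (Subsingleton (PrimeSpectrum κ))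
  have hpts : ∀ {Y : Over Sκ} (z : Y ⟶ Red.DS Sκ M),
      (∃ y, y ≫ x = z) ↔ z ≫ Red.DSmap Sκ (Nf s₀).subtype = 1 := fun z =>
    factor_iff x hf hloc (Nf s₀) (fun p => congrArg Nf (Subsingleton.elim _ _)) z
  have hN : Nf s₀ = chKer x := by
    refine le_antisymm (fun m hm => ?_) fun m hm => ?_
    · exact (comp_eq_one_iff _ x).1 ((hpts x).1 ⟨𝟙 X, Category.id_comp x⟩) m hm
    · obtain ⟨a, ha⟩ := (hpts (Red.DSmap Sκ (QuotientAddGroup.mk' (Nf s₀)))).2
        ((MTImage.ker_DSmap_iff _ _).1 ⟨𝟙 _, Category.id_comp _⟩)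
      let θ : ℤ →+ M := zmultiplesHom M m
      have h1 : x ≫ Red.DSmap Sκ θ = 1 := ch_ext fun n => by
        rw [ch_one, ch_DSmap]
        exact zsmul_mem hm n.toAdd
      have h2 : Red.DSmap Sκ ((QuotientAddGroup.mk' (Nf s₀)).comp θ) = Red.DSmap Sκ 0 := by
        rw [← DSmap_comp, MTSplit.DSmap_zero, ← ha, Category.assoc, h1, MonObj.comp_one]
      have h3 := DFunLike.congr_fun (DSmap_inj_field h2) 1
      simpa [θ, QuotientAddGroup.eq_zero_iff] using h3
  rw [hN] at hpts
  obtain ⟨φ, hφ⟩ := (MTImage.ker_DSmap_iff _ x).2 ((hpts x).1 ⟨𝟙 X, Category.id_comp x⟩)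
  obtain ⟨a, ha⟩ := (hpts (Red.DSmap Sκ (QuotientAddGroup.mk' (chKer x)))).2
    ((MTImage.ker_DSmap_iff _ _).1 ⟨𝟙 _, Category.id_comp _⟩)
  haveI : Mono (Red.DSmap Sκ (QuotientAddGroup.mk' (chKer x))) :=
    LieWeight.mono_DSmap _ (QuotientAddGroup.mk'_surjective _)
  exact ⟨φ, ⟨a, (cancel_mono x).1 (by rw [Category.assoc, ha, hφ, Category.id_comp]),
    (cancel_mono (Red.DSmap Sκ (QuotientAddGroup.mk' (chKer x)))).1
      (by rw [Category.assoc, hφ, ha, Category.id_comp])⟩, hφ⟩

omit [Module.Finite ℤ M]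

/-- The kernel of an unramified map of split tori contains no torus. -/
theorem exists_smul_mem_range {P Q : Type} [AddCommGroup P] [AddCommGroup Q] [Module.Finite ℤ Q] (θ : P →+ Q)
    [FormallyUnramified (Red.DSmap Sκ θ).left] [LocallyOfFiniteType (Red.DSmap Sκ θ).left] (q : Q) :
    ∃ k : ℤ, k ≠ 0 ∧ k • q ∈ θ.range := by
  by_contra hne
  let R := Q ⧸ θ.range
  haveI : Module.Finite ℤ R := Module.Finite.of_surjective
    (QuotientAddGroup.mk' θ.range).toIntLinearMap (QuotientAddGroup.mk'_surjective _)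
  let R' := R ⧸ Submodule.torsion ℤ R
  haveI : Module.Free ℤ R' := Module.free_of_finite_type_torsion_free'
  let b := Module.Free.chooseBasis ℤ R'
  let q' : R' := Submodule.Quotient.mk (QuotientAddGroup.mk q)
  have hq' : q' ≠ 0 := fun h => by
    obtain ⟨⟨a, ha⟩, hax⟩ := (Submodule.mem_torsion_iff _).1 ((Submodule.Quotient.mk_eq_zero _).1 h)
    refine hne ⟨a, nonZeroDivisors.ne_zero ha, ?_⟩
    rw [Submonoid.mk_smul, ← QuotientAddGroup.mk_zsmul, QuotientAddGroup.eq_zero_iff] at hax
    exact hax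
  obtain ⟨i, hi⟩ : ∃ i, b.repr q' i ≠ 0 := by
    by_contra hz
    push Not at hz
    exact hq' (b.repr.injective (by rw [map_zero]; exact Finsupp.ext hz))
  let φ : Q →+ ℤ := ((b.coord i).toAddMonoidHom.comp (Submodule.torsion ℤ R).mkQ.toAddMonoidHom).comp
    (QuotientAddGroup.mk' θ.range)
  have hφ0 : φ.comp θ = 0 := by
    ext p
    show b.coord i (Submodule.Quotient.mk (QuotientAddGroup.mk (θ p))) = 0
    rw [(QuotientAddGroup.eq_zero_iff (θ p)).2 (AddMonoidHom.mem_range.2 ⟨p, rfl⟩), Submodule.Quotient.mk_zero, map_zero]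
  let e : (Fin 1 → ℤ) ≃+ ℤ := (LinearEquiv.funUnique (Fin 1) ℤ ℤ).toAddEquiv
  let φ₁ : Q →+ (Fin 1 → ℤ) := e.symm.toAddMonoidHom.comp φ
  let c := Red.DSmap Sκ φ₁
  have hc : c ≫ Red.DSmap Sκ θ = 1 := by
    rw [DSmap_comp, AddMonoidHom.comp_assoc, hφ0, AddMonoidHom.comp_zero, MTSplit.DSmap_zero]
  haveI := isConnected_DS (κ := κ) 1
  haveI : IsMonHom c := isMonHom_DSmap _
  haveI : IsMonHom (Red.DSmap Sκ θ) := isMonHom_DSmap _
  let w := (Red.DSmap Sκ θ).left
  haveI : IsAffineHom (Red.DS Sκ Q).hom := MTBridge.isAffineHom_DS _ _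
  haveI : IsAffineHom (w ≫ (Red.DS Sκ P).hom) := by rw [Over.w]; infer_instance
  haveI : IsAffineHom (Red.DS Sκ P).hom := MTBridge.isAffineHom_DS _ _
  haveI : IsSeparated w := IsSeparated.of_comp w (Red.DS Sκ P).hom
  let one : Red.DS Sκ (Fin 1 → ℤ) ⟶ Red.DS Sκ Q := 1
  have hw : c.left ≫ w = one.left ≫ w := by
    rw [← Over.comp_left, ← Over.comp_left, hc, MonObj.one_comp]
  let l := pullback.lift c.left one.left hw
  let O := l ⁻¹' Set.range (pullback.diagonal w)
  have hO : IsClopen O := ⟨(pullback.diagonal w).isClosedEmbedding.isClosed_range.preimage l.continuous,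
    (pullback.diagonal w).isOpenEmbedding.isOpen_range.preimage l.continuous⟩
  have hne' : O.Nonempty := by
    obtain ⟨p⟩ : Nonempty ↥Sκ := inferInstanceAs (Nonempty (PrimeSpectrum κ))
    refine ⟨(η[Red.DS Sκ (Fin 1 → ℤ)]).left p, (η[Red.DS Sκ Q]).left p, ?_⟩
    have h : (η[Red.DS Sκ Q]).left ≫ pullback.diagonal w = (η[Red.DS Sκ (Fin 1 → ℤ)]).left ≫ l := by
      apply pullback.hom_ext
      · rw [Category.assoc, Category.assoc, pullback.diagonal_fst, pullback.lift_fst, Category.comp_id,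
          ← Over.comp_left, IsMonHom.one_hom c]
      · rw [Category.assoc, Category.assoc, pullback.diagonal_snd, pullback.lift_snd, Category.comp_id,
          ← Over.comp_left, show η[Red.DS Sκ (Fin 1 → ℤ)] ≫ one = η[Red.DS Sκ Q] by
            rw [MonObj.comp_one, Hom.one_def, toUnit_unit, Category.id_comp]]
    show pullback.diagonal w _ = l _
    rw [← Scheme.Hom.comp_apply, ← Scheme.Hom.comp_apply]
    exact congrArg (fun m : (𝟙_ (Over Sκ)).left ⟶ pullback w w => m p) h
  have hrange : Set.range l ⊆ Set.range (pullback.diagonal w) := by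
    rintro _ ⟨p, rfl⟩
    exact (hO.eq_univ hne').symm.subset (Set.mem_univ p)
  let g := IsOpenImmersion.lift (pullback.diagonal w) l hrange
  have hg := IsOpenImmersion.lift_fac (pullback.diagonal w) l hrange
  have hc1 : c = one := by
    apply Over.OverMorphism.ext
    have h1 : g = c.left := by
      rw [← pullback.lift_fst c.left one.left hw, ← show g ≫ pullback.diagonal w = pullback.lift c.left one.left hw from hg, Category.assoc,
        pullback.diagonal_fst, Category.comp_id]
    have h2 : g = one.left := by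
      rw [← pullback.lift_snd c.left one.left hw, ← show g ≫ pullback.diagonal w = pullback.lift c.left one.left hw from hg, Category.assoc,
        pullback.diagonal_snd, Category.comp_id]
    rw [← h1, h2]
  have h3 := DFunLike.congr_fun (DSmap_inj_field (hc1.trans MTSplit.DSmap_zero.symm)) q
  exact hi (e.symm.injective (h3.trans (map_zero e.symm).symm))

/-- A flat map of split tori is injective on characters. -/
theorem injective_of_flat {P : Type} [AddCommGroup P] {r : ℕ} (θ : (Fin r → ℤ) →+ P) [AddGroup.FG P]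
    [Flat (Red.DSmap Sκ θ).left] : Function.Injective θ := by
  refine (injective_iff_map_eq_zero θ).2 fun n hn => ?_
  haveI := isConnected_DS (κ := κ) r
  haveI : Smooth (Red.DS Sκ (Fin r → ℤ)).hom := MTImage.smooth_torus (MTCentre.isTorus_DS_scheme Sκ r)
  haveI := isIntegral_grp (Red.DS Sκ (Fin r → ℤ))
  haveI : LocallyOfFinitePresentation (Red.DS Sκ P).hom :=
    MTBridge.locallyOfFinitePresentation_of_isMultTypeFT _ (MTTorus.isMultTypeFT_DS _ P)
  let w := (Red.DSmap Sκ θ).left
  haveI : LocallyOfFinitePresentation (w ≫ (Red.DS Sκ (Fin r → ℤ)).hom) := by rw [Over.w]; infer_instance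
  haveI : LocallyOfFinitePresentation w := LimDesc.lfp_of_comp w (Red.DS Sκ (Fin r → ℤ)).hom
  haveI : IsDominant w := ⟨w.isOpenMap.isOpen_range.dense ⟨_, (η[Red.DS Sκ P]).left
    (IsLocalRing.closedPoint κ), rfl⟩⟩
  let χ : Red.DS Sκ (Fin r → ℤ) ⟶ Red.DS Sκ ℤ := Red.DSmap Sκ (zmultiplesHom _ n)
  have h1 : Red.DSmap Sκ θ ≫ χ = Red.DSmap Sκ θ ≫ 1 := by
    rw [DSmap_comp, MonObj.comp_one, show θ.comp (zmultiplesHom _ n) = 0 from by ext; simp [hn],
      MTSplit.DSmap_zero]
  have h2 : χ = 1 := by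
    apply Over.OverMorphism.ext
    haveI : IsAffineHom (Red.DS Sκ ℤ).hom := MTBridge.isAffineHom_DS _ _
    exact ext_of_isDominant_of_isSeparated (Red.DS Sκ ℤ).hom
      ((Over.w χ).trans (Over.w (1 : Red.DS Sκ (Fin r → ℤ) ⟶ Red.DS Sκ ℤ)).symm) w
      (by rw [← Over.comp_left, h1, Over.comp_left])
  have h3 := DFunLike.congr_fun (DSmap_inj_field (h2.trans MTSplit.DSmap_zero.symm)) 1
  simpa using h3

end Groth.Agent.TorusSub
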