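import Groth.Agent.S5572
import Groth.Agent.RootBase.Gen
import Groth.Agent.MTBridge.CentralFibres
import Groth.Agent.MTBridge.ExtCentral
import Groth.Agent.MTKernel.Basic
import Groth.Agent.RootSys.GaBC
import Groth.Agent.Corad.Lattice

/-!
# The coradical of a split group, universally
-/

set_option autoImplicit false
set_option backward.isDefEq.respectTransparency false
set_option linter.style.haveILetI false
set_option linter.unusedSectionVars false
set_option maxHeartbeats 1000000
set_option synthInstance.maxHeartbeats 400000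

universe u

open CategoryTheory Limits MonoidalCategory CartesianMonoidalCategory MonObj GrpObj AlgebraicGeometry LieS
open scoped CategoryTheory.Obj

noncomputable section

namespace Groth.Agent.Corad

open Groth.Agent.HomDiag Groth.Agent.DynPar Groth.Agent.RootSys Groth.Agent.MTBridge Groth.Agent.RootBase

variable {S : Scheme.{u}}

/-- A homomorphism is universal for homomorphisms to commutative groups, after every base change. -/
def Univ {G Q : Over S} [GrpObj G] [GrpObj Q] (f : G ⟶ Q) : Prop :=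
  ∀ (S' : Scheme.{u}) (t : S' ⟶ S) (A : Over S') [GrpObj A] (φ : Red.bc t G ⟶ A) [IsMonHom φ],
    (∀ (X : Over S') (a b : X ⟶ A), a * b = b * a) →
      ∀ (X : Over S') (x : X ⟶ Red.bc t G), x ≫ (Over.pullback t).map f = 1 → x ≫ φ = 1

section BC

variable {G : Over S} [GrpObj G] {S' : Scheme.{u}} (t : S' ⟶ S)

theorem bc_map_inv {X : Over S} (x : X ⟶ G) : (Over.pullback t).map x⁻¹ = ((Over.pullback t).map x)⁻¹ :=
  map_inv (MonoidHom.mk' (fun y : X ⟶ G => (Over.pullback t).map y) fun a b => Functor.map_mul _ _ _) x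

theorem bc_map_one (X : Over S) : (Over.pullback t).map (1 : X ⟶ G) = 1 :=
  map_one (MonoidHom.mk' (fun y : X ⟶ G => (Over.pullback t).map y) fun a b => Functor.map_mul _ _ _)

variable {A : Over S'} [GrpObj A] (φ : Red.bc t G ⟶ A) [IsMonHom φ]

theorem bc_killed_prodMap : ∀ {m : ℕ} (w : Fin m → (Red.Ga S ⟶ G)),
    (∀ l, (Over.pullback t).map (w l) ≫ φ = 1) → (Over.pullback t).map (RedSub.prodMap (Red.Ga S) m w) ≫ φ = 1
  | 0, w, _ => by
    rw [show RedSub.prodMap (Red.Ga S) 0 w = 1 from rfl, bc_map_one, MonObj.one_comp]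
  | m + 1, w, h => by
    rw [show RedSub.prodMap (Red.Ga S) (m + 1) w = (fst _ _ ≫ w 0) * (snd _ _ ≫ RedSub.prodMap (Red.Ga S) m fun k =>
      w k.succ) from rfl, Functor.map_mul, MonObj.mul_comp, Functor.map_comp, Functor.map_comp, Category.assoc,
      Category.assoc, h, bc_killed_prodMap (fun k => w k.succ) fun l => h l.succ, MonObj.comp_one, MonObj.comp_one,
      _root_.one_mul]

variable (hA : ∀ (X : Over S') (a b : X ⟶ A), a * b = b * a)
include hA

variable {M : Type} [AddCommGroup M] [Module.Free ℤ M] [Module.Finite ℤ M] {c : Red.DS S M ⟶ G} {idx : Type}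

theorem bc_killed_root [Fintype idx] {root : idx → M} {u : idx → (Red.Ga S ⟶ G)} (F : Frame c root u) (a : idx) :
    (Over.pullback t).map (u a) ≫ φ = 1 := by
  have h := rootHom_comp_eq_one (F.bc t) φ hA a
  haveI := isIso_gaBC t
  rw [← cancel_epi (gaBC t), MonObj.comp_one, ← Category.assoc]
  exact h

theorem bc_killed_coroot [IsMonHom c] {r : M} (hr : r ≠ 0) (κ : M →+ ℤ) (n : 𝟙_ (Over S) ⟶ G)
    (hn : ∀ (X : Over S) (x : X ⟶ Red.DS S M), cj n (x ≫ c) = RootBase.refl r κ x ≫ c) :
    (Over.pullback t).map (Red.DSmap S κ ≫ c) ≫ φ = 1 := by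
  haveI : IsMonHom (Red.chi S r) := MTQuot.isMonHom_DSmap _
  haveI : IsMonHom (Red.DSmap S κ) := MTQuot.isMonHom_DSmap _
  haveI : AddGroup.FG M := Module.Finite.iff_addGroup_fg.1 inferInstance
  haveI : Epi ((Over.pullback t).map (Red.chi S r)) := by
    refine epi_of_covers (MTQuot.covers_bc t _ (MTQuot.covers_DSmap _ ?_))
    intro p q h
    exact smul_left_injective ℤ hr h
  have h := congrArg (fun z => (Over.pullback t).map z ≫ φ) (hn _ (𝟙 (Red.DS S M)))
  simp only [cj, RootBase.refl, Category.id_comp, Functor.map_mul, bc_map_inv, MonObj.mul_comp, GrpObj.inv_comp,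
    Functor.map_comp, Category.assoc] at h
  rw [hA (Red.bc t (Red.DS S M)) _ ((Over.pullback t).map c ≫ φ), mul_inv_cancel_right, right_eq_mul, inv_eq_one] at h
  rw [← cancel_epi ((Over.pullback t).map (Red.chi S r)), MonObj.comp_one, Functor.map_comp, Category.assoc]
  exact h

theorem bc_killed_components [IsMonHom c] {β : Type} [Fintype β] [DecidableEq β] (θ : M →+ (β → ℤ))
    (h : ∀ b, (Over.pullback t).map (Red.DSmap S ((Pi.evalAddMonoidHom (fun _ : β => ℤ) b).comp θ) ≫ c) ≫ φ = 1) :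
    (Over.pullback t).map (Red.DSmap S θ ≫ c) ≫ φ = 1 := by
  have e : θ = ∑ b, (AddMonoidHom.single (fun _ : β => ℤ) b).comp ((Pi.evalAddMonoidHom _ b).comp θ) := by
    ext m i
    simp [Finset.sum_apply]
  rw [e]
  refine Finset.sum_induction _ (fun θ' => (Over.pullback t).map (Red.DSmap S θ' ≫ c) ≫ φ = 1) (fun a b ha hb => ?_) ?_
    fun b _ => ?_
  · rw [← MTSplit.DSmap_mul, MonObj.mul_comp, Functor.map_mul, MonObj.mul_comp, ha, hb, _root_.one_mul]
  · rw [MTSplit.DSmap_zero, MonObj.one_comp, bc_map_one, MonObj.one_comp]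
  · rw [← MTQuot.DSmap_comp, Category.assoc, Functor.map_comp, Category.assoc, h, MonObj.comp_one]

end BC

variable {G : Over S} [GrpObj G]

/-- A homomorphism has a kernel. -/
theorem exists_kernel {Q : Over S} [GrpObj Q] (f : G ⟶ Q) [IsMonHom f] :
    ∃ (K : GrpObj (pullback f η[Q])) (k : pullback f η[Q] ⟶ G), IsMonHom k ∧ AlgGrp.IsKernel k f := by
  let k : pullback f η[Q] ⟶ G := pullback.fst _ _
  have hk : AlgGrp.IsKernel k f := by
    show IsPullback k (toUnit _) f η[Q]
    rw [toUnit_unique (toUnit _) (pullback.snd f η[Q])]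
    exact IsPullback.of_hasPullback _ _
  obtain ⟨hm, hp⟩ := kernel_pts hk
  haveI := hm
  have h1 : ∀ {X : Over S} (z : X ⟶ pullback f η[Q]), (z ≫ k) ≫ f = 1 := fun z => (hp _).1 ⟨z, rfl⟩
  obtain ⟨hg, hkm⟩ := SubGen.Spread.exists_grpObj_of_div k
    ((hp η[G]).2 (by rw [show (η[G] : 𝟙_ (Over S) ⟶ G) = 1 by
      rw [Hom.one_def, toUnit_unit, Category.id_comp], MonObj.one_comp]))
    ((hp _).2 (by rw [MonObj.mul_comp, GrpObj.inv_comp, h1, h1, inv_one, _root_.one_mul]))
  exact ⟨hg, k, hkm, hk⟩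

theorem smooth_proj (A B C : Over S) [Smooth A.hom] [Smooth C.hom] : Smooth (snd A (B ⊗ C) ≫ fst B C).left := by
  haveI : Smooth (snd A (B ⊗ C)).left := inferInstanceAs (Smooth (pullback.snd A.hom (B ⊗ C).hom))
  haveI : Smooth (fst B C).left := inferInstanceAs (Smooth (pullback.fst B.hom C.hom))
  rw [Over.comp_left]
  infer_instance

/-- A homomorphism of a reductive group which is a smooth projection on an open cell is smooth. -/
theorem smooth_of_cell (hG : Red.IsReductive G) {Ω T Q : Over S} [GrpObj Q] (j : Ω ⟶ G) [IsOpenImmersion j.left]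
    (e : 𝟙_ (Over S) ⟶ Ω) (he : e ≫ j = 1) (c : T ⟶ G) (f : G ⟶ Q) [IsMonHom f] (p : T ⟶ Q) [Smooth p.left]
    (hf : c ≫ f = p) (tor : Ω ⟶ T) (htor : Smooth tor.left)
    (h : ∀ {X : Over S} (x : X ⟶ Ω), x ≫ j ≫ f = x ≫ tor ≫ p) : Smooth f.left := by
  haveI := hG.2.1
  haveI := htor
  let g : Ω ⟶ Q := tor ≫ p
  haveI : Smooth g.left := by rw [Over.comp_left]; infer_instance
  haveI : Smooth Ω.hom := by rw [← Over.w j]; infer_instance
  let Φ : Ω ⊗ Ω ⟶ G := (fst Ω Ω ≫ j)⁻¹ * (snd Ω Ω ≫ j)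
  haveI hΦs : Surjective Φ.left := by
    obtain ⟨X', q, c0, -, hs, -, hd⟩ := exists_translate_open hG j e he ![𝟙 G]
    obtain ⟨d, hd⟩ := hd 0
    have h : (lift c0 d ≫ Φ).left = q.left := by
      rw [show lift c0 d ≫ Φ = q from by
        simp [Φ, MonObj.comp_mul, GrpObj.comp_inv, hd]]
    haveI : Surjective ((lift c0 d).left ≫ Φ.left) := by rw [← Over.comp_left, h]; exact hs
    exact Surjective.of_comp (lift c0 d).left Φ.left
  have key : ∀ {H : Over S} [GrpObj H] (r : Ω ⟶ H), Smooth r.left →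
      Smooth ((fst Ω Ω ≫ r)⁻¹ * (snd Ω Ω ≫ r)).left := by
    intro H _ r hr
    haveI : Smooth (Ω ◁ r).left := by
      rw [Over.whiskerLeft_left]
      exact MorphismProperty.pullbackMap (P := @Smooth) (inferInstanceAs (Smooth (𝟙 Ω.left))) hr
        (Category.id_comp _).symm (Over.w r).symm
    let τ : Ω ⊗ H ≅ Ω ⊗ H :=
      ⟨lift (fst _ _) ((fst _ _ ≫ r)⁻¹ * snd _ _), lift (fst _ _) ((fst _ _ ≫ r) * snd _ _),
        CartesianMonoidalCategory.hom_ext _ _ (by simp) (by simp [MonObj.comp_mul]),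
        CartesianMonoidalCategory.hom_ext _ _ (by simp) (by simp [MonObj.comp_mul, GrpObj.comp_inv])⟩
    have h' : (fst Ω Ω ≫ r)⁻¹ * (snd Ω Ω ≫ r) = (Ω ◁ r) ≫ τ.hom ≫ snd Ω H := by
      simp only [τ, lift_snd, MonObj.comp_mul, GrpObj.comp_inv, whiskerLeft_fst_assoc, whiskerLeft_snd]
    haveI : IsIso τ.hom.left := ((Over.forget _).mapIso τ).isIso_hom
    haveI : Smooth (snd Ω H).left := inferInstanceAs (Smooth (pullback.snd Ω.hom H.hom))
    rw [h', Over.comp_left, Over.comp_left]
    infer_instance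
  haveI : Smooth Φ.left := key j inferInstance
  have hcomp : Φ ≫ f = (fst Ω Ω ≫ g)⁻¹ * (snd Ω Ω ≫ g) := by
    simp only [Φ, MonObj.mul_comp, GrpObj.inv_comp, Category.assoc]
    rw [h, h]
  haveI : Smooth (Φ.left ≫ f.left) := by
    rw [← Over.comp_left, hcomp]
    exact key g inferInstance
  exact S0115.result Φ.left f.left

/-- The projection of a split group, on an abstract quotient torus. -/
theorem coradical_core (D : Red.SplitRed G) (N : AddSubgroup D.M)
    (hN : ∀ m : D.M, m ∈ N ↔ ∀ a : D.idx, D.P.coroot a m = 0) {Q : Over S} [GrpObj Q]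
    (hcomm : ∀ (X : Over S) (a b : X ⟶ Q), a * b = b * a) (p : Red.DS S D.M ⟶ Q) [IsMonHom p] [Smooth p.left]
    [Surjective p.left] (f : G ⟶ Q) [IsMonHom f] (hf : (D.split.inv.hom.hom ≫ D.i) ≫ f = p)
    [Smooth (Red.DS S (D.M ⧸ N)).hom] (σ : Q ⟶ Red.DS S D.M) (ρ : Red.DS S D.M ⟶ Red.DS S (D.M ⧸ N))
    (hinclρ : Red.DSmap S (QuotientAddGroup.mk' N) ≫ ρ = 𝟙 _)
    (hinclp : Red.DSmap S (QuotientAddGroup.mk' N) ≫ p = 1) (hσ1 : ∀ {X : Over S}, (1 : X ⟶ Q) ≫ σ = 1)
    (hsum : (ρ ≫ Red.DSmap S (QuotientAddGroup.mk' N)) * (p ≫ σ) = 𝟙 _) :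
    Smooth f.left ∧ Surjective f.left ∧ Univ f := by
  classical
  letI := D.grpT
  letI := D.acgM
  letI := D.fintypeIdx
  letI := D.finiteM
  letI := D.freeM
  let incl := Red.DSmap S (QuotientAddGroup.mk' N)
  haveI : IsMonHom incl := MTQuot.isMonHom_DSmap _
  let c := D.split.inv.hom.hom ≫ D.i
  have F : Frame c (fun a => D.P.root a) D.u := frame_of_splitRed D
  haveI := F.hc.1
  haveI := D.reductive.2.1
  haveI : AddGroup.FG D.M := Module.Finite.iff_addGroup_fg.1 inferInstance
  -- smoothness and surjectivity of the extension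
  haveI hfs : Surjective f.left := by
    haveI : Surjective (c.left ≫ f.left) := by rw [← Over.comp_left, hf]; infer_instance
    exact Surjective.of_comp c.left f.left
  obtain ⟨mu, n, m, en, ep, hn, hm, -, hj⟩ := F.exists_cell
  let j := cellC c (fun l => D.u (en l)) (fun l => D.u (ep l))
  haveI : IsOpenImmersion j.left := hj
  let tor := snd (RedSub.pow (Red.Ga S) n) (Red.DS S D.M ⊗ RedSub.pow (Red.Ga S) m) ≫ fst _ _
  haveI := smooth_powGa S n
  haveI := smooth_powGa S m
  have hjφ : ∀ {A : Over S} [GrpObj A] (φ : G ⟶ A) [IsMonHom φ],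
      (∀ (X : Over S) (a b : X ⟶ A), a * b = b * a) → ∀ {X : Over S}
        (x : X ⟶ RedSub.pow (Red.Ga S) n ⊗ (Red.DS S D.M ⊗ RedSub.pow (Red.Ga S) m)),
        x ≫ j ≫ φ = x ≫ tor ≫ c ≫ φ := fun {A} _ φ _ hA {X} x => by
    have hu : ∀ (q : ℕ) (e : Fin q → D.idx), RedSub.prodMap (Red.Ga S) q (fun l => D.u (e l)) ≫ φ = 1 := fun q e => by
      haveI : IsMonHom (1 : G ⟶ A) := MTBridge.isMonHom_of_points 1 fun X a b => by simp [MonObj.comp_one]
      have h := prodMap_comp φ (1 : G ⟶ A) (fun l => D.u (e l)) (𝟙 _) (fun l => Or.inl (by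
        rw [rootHom_comp_eq_one F φ hA, MonObj.comp_one])) fun l => (F.hu _).1
      simpa [MonObj.comp_one] using h
    simp only [j, tor, cellC, MonObj.mul_comp, MonObj.comp_mul, Category.assoc, hu, MonObj.comp_one,
      _root_.one_mul, _root_.mul_one]
  obtain ⟨y0, hy0, -⟩ := exists_pow_prod (G := G) (fun l => D.u (en l)) (X := 𝟙_ (Over S)) fun _ => 1
  obtain ⟨y1, hy1, -⟩ := exists_pow_prod (G := G) (fun l => D.u (ep l)) (X := 𝟙_ (Over S)) fun _ => 1
  have he : lift y0 (lift (1 : 𝟙_ (Over S) ⟶ Red.DS S D.M) y1) ≫ j = 1 := by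
    rw [comp_cellC, prodMap_one _ (fun k => (F.hu _).1) y0 hy0, prodMap_one _ (fun k => (F.hu _).1) y1 hy1,
      MonObj.one_comp (X := 𝟙_ (Over S)) c, _root_.one_mul, _root_.one_mul]
  haveI : Smooth f.left := smooth_of_cell D.reductive j _ he c f p hf tor (smooth_proj _ _ _) fun x => by
    rw [hjφ f hcomm x, hf]
  refine ⟨inferInstance, hfs, ?_⟩
  -- universality
  intro S' t A _ φ _ hA X x hx
  obtain ⟨hKg, k, hkm, hk⟩ := exists_kernel f
  haveI := hkm
  haveI : Mono incl := ⟨fun a b e => by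
    have h := congrArg (· ≫ ρ) e
    simp only [Category.assoc] at h
    rwa [show incl ≫ ρ = 𝟙 _ from hinclρ, Category.comp_id, Category.comp_id] at h⟩
  obtain ⟨-, -, -, K', q, a, b, s', hq, hqs, hqk, hab⟩ := kernel_facts_of_cell D.reductive c j _ he p hcomm f hf
    (fun φ _ hA => hjφ φ hA) incl ρ hinclρ (fun y => by rw [Category.assoc, hinclp, MonObj.comp_one])
    (fun y hy => by
      have h := congrArg (y ≫ ·) hsum
      simp only [MonObj.comp_mul, Category.comp_id] at h
      rwa [← Category.assoc y p σ, hy, hσ1, _root_.mul_one, ← Category.assoc] at h) k hk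
  -- the subtorus of the coroots is killed
  have hinclφ : (Over.pullback t).map (incl ≫ c) ≫ φ = 1 := by
    rcases isEmpty_or_nonempty S with hS | hS
    · haveI : IsEmpty S' := Function.isEmpty t
      exact hom_eq_of_isEmpty _ _
    obtain ⟨B⟩ := nonempty_base_split D
    let θ : D.M →+ (B.support → ℤ) :=
      { toFun := fun m b => D.P.coroot b m, map_zero' := by ext b; simp, map_add' := fun m m' => by ext b; simp }
    have hθN : N ≤ θ.ker := fun m hm => AddMonoidHom.mem_ker.2 (funext fun b => (hN m).1 hm b)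
    let θ' := QuotientAddGroup.lift N θ hθN
    have hinj : Function.Injective θ' := by
      rw [injective_iff_map_eq_zero]
      intro x
      induction x using QuotientAddGroup.induction_on with
      | _ m =>
        intro h
        rw [QuotientAddGroup.eq_zero_iff, hN]
        intro a
        have hm : D.P.coroot a ∈ LinearMap.ker (LinearMap.applyₗ (R := ℤ) (M₂ := ℤ) m) := by
          refine Submodule.span_le.2 ?_ (B.coroot_mem_span_int a)
          rintro _ ⟨b, hb, rfl⟩
          exact congrFun (show θ m = 0 from h) ⟨b, hb⟩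
        exact hm
    haveI : AddGroup.FG (D.M ⧸ N) := AddGroup.fg_of_surjective (QuotientAddGroup.mk'_surjective N)
    haveI : AddGroup.FG (B.support → ℤ) := Module.Finite.iff_addGroup_fg.1 inferInstance
    haveI : Epi ((Over.pullback t).map (Red.DSmap S θ')) :=
      epi_of_covers (MTQuot.covers_bc t _ (MTQuot.covers_DSmap θ' hinj))
    rw [← cancel_epi ((Over.pullback t).map (Red.DSmap S θ')), MonObj.comp_one, ← Category.assoc, ← Functor.map_comp,
      ← Category.assoc, MTQuot.DSmap_comp]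
    refine bc_killed_components t φ hA _ fun b' => ?_
    obtain ⟨n', hn'⟩ := hasRefl_of_splitRed D b'
    exact bc_killed_coroot t φ hA (F.ne b') _ n' hn'
  -- the cover of the kernel is killed
  have hkφ : (Over.pullback t).map k ≫ φ = 1 := by
    haveI : Smooth ((Over.pullback t).map q).left := MorphismProperty.overPullbackMap (P := @Smooth) t q hq
    haveI : Surjective ((Over.pullback t).map q).left := MorphismProperty.overPullbackMap (P := @Surjective) t q hqs
    haveI := RedR1.epi_of_flat_surjective ((Over.pullback t).map q)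
    have hu : ∀ (l : ℕ) (e : Fin l → D.idx),
        (Over.pullback t).map (RedSub.prodMap (Red.Ga S) l fun i => D.u (e i)) ≫ φ = 1 := fun l e =>
      bc_killed_prodMap t φ _ fun i => bc_killed_root t φ hA F _
    have hj' : (Over.pullback t).map j ≫ φ = (Over.pullback t).map tor ≫ (Over.pullback t).map c ≫ φ := by
      simp only [j, tor, cellC, Functor.map_mul, MonObj.mul_comp, Functor.map_comp, Category.assoc, hu, MonObj.comp_one,
        _root_.one_mul, _root_.mul_one]
    have hb : ∀ (z : K' ⟶ _), (Over.pullback t).map (z ≫ j) ≫ φ =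
        (Over.pullback t).map (z ≫ tor) ≫ (Over.pullback t).map c ≫ φ := fun z => by
      rw [Functor.map_comp, Category.assoc, hj', Functor.map_comp (Over.pullback t) z tor]
      exact (Category.assoc _ _ _).symm
    have hs : (Over.pullback t).map (s' ≫ incl) ≫ (Over.pullback t).map c ≫ φ = 1 := by
      rw [← Category.assoc, ← Functor.map_comp, Category.assoc, Functor.map_comp, Category.assoc, hinclφ,
        MonObj.comp_one]
    rw [← cancel_epi ((Over.pullback t).map q), MonObj.comp_one, ← Category.assoc, ← Functor.map_comp, hqk,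
      Functor.map_mul, bc_map_inv, MonObj.mul_comp, GrpObj.inv_comp, hb, hb,
      show b ≫ tor = (a ≫ tor) * (s' ≫ incl) from hab, Functor.map_mul, MonObj.mul_comp]
    rw [hs, _root_.mul_one]
    exact inv_mul_cancel _
  -- points
  obtain ⟨y, rfl⟩ := exists_toBC' t x
  rw [← toBC_comp] at hx
  have hx1 : y ≫ f = 1 := toBC_inj t (hx.trans (MTKernel.toBC_one t).symm)
  obtain ⟨z, rfl⟩ := ((kernel_pts hk).2 y).2 hx1
  rw [toBC_comp, Category.assoc, hkφ, MonObj.comp_one]


/-- **The coradical of a split group.** -/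
theorem exists_coradical_split (D : Red.SplitRed G) :
    ∃ (Q : Over S) (_ : GrpObj Q) (f : G ⟶ Q), IsMonHom f ∧ (∀ (X : Over S) (a b : X ⟶ Q), a * b = b * a) ∧
      (∃ r : ℕ, Red.IsSplitTorusWith (Fin r → ℤ) Q) ∧ Smooth f.left ∧ Surjective f.left ∧ Univ f ∧
      (∀ (K : Over S) [GrpObj K] (k : K ⟶ G) [IsMonHom k], AlgGrp.IsKernel k f →
        Smooth K.hom ∧ RedSub.HasConnectedFibres K) ∧
      ∃ m : Red.DS S ↥(coradLattice D) ⟶ Q, IsMonHom m ∧ IsIso m ∧
        (D.split.inv.hom.hom ≫ D.i) ≫ f = Red.DSmap S (coradLattice D).subtype ≫ m := by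
  classical
  letI := D.grpT
  letI := D.acgM
  letI := D.fintypeIdx
  letI := D.finiteM
  letI := D.freeM
  let N : AddSubgroup D.M := coradLattice D
  have hN : ∀ m : D.M, m ∈ N ↔ ∀ a : D.idx, D.P.coroot a m = 0 := fun m => by
    rw [mem_latt]
    simp [RootPairing.coroot', D.pairing_eq]
  obtain ⟨f, hfm, hfi, hker⟩ := S5572.result D N hN
  haveI := hfm
  let c := D.split.inv.hom.hom ≫ D.i
  have hinv : D.split.inv.hom.hom ≫ D.split.hom.hom.hom = 𝟙 _ := congrArg (fun z => z.hom.hom) D.split.inv_hom_id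
  have hf : c ≫ f = Red.DSmap S N.subtype := by
    rw [Category.assoc, hfi, ← Category.assoc, hinv, Category.id_comp]
  have F : Frame c (fun a => D.P.root a) D.u := frame_of_splitRed D
  haveI := F.hc.1
  haveI := D.reductive.2.1
  haveI : Module.Finite ℤ N := Module.Finite.of_fg (IsNoetherian.noetherian N.toIntSubmodule)
  haveI : Module.IsTorsionFree ℤ N := Module.IsTorsionFree.of_smul_eq_zero fun z x h => by
    rcases smul_eq_zero.1 (show z • (x : D.M) = 0 by rw [← AddSubgroupClass.coe_zsmul, h]; rfl) with h | h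
    · exact Or.inl h
    · exact Or.inr (Subtype.ext h)
  haveI : Module.Free ℤ N := Module.free_of_finite_type_torsion_free'
  have hsat : ∀ (z : ℤ) (m : D.M), z ≠ 0 → z • m ∈ N → m ∈ N := fun z m hz h => (hN m).2 fun a => by
    have := (hN _).1 h a
    rw [map_zsmul, smul_eq_mul] at this
    exact (mul_eq_zero.1 this).resolve_left hz
  haveI : AddGroup.FG D.M := Module.Finite.iff_addGroup_fg.1 inferInstance
  haveI : Module.Finite ℤ (D.M ⧸ N) := Module.Finite.of_surjective
    ((QuotientAddGroup.mk' N).toIntLinearMap) (QuotientAddGroup.mk'_surjective N)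
  haveI : Module.IsTorsionFree ℤ (D.M ⧸ N) := by
    refine Module.IsTorsionFree.of_smul_eq_zero fun z x hzx => ?_
    induction x using QuotientAddGroup.induction_on with
    | _ m =>
      by_cases hz : z = 0
      · exact Or.inl hz
      · rw [← QuotientAddGroup.mk_zsmul, QuotientAddGroup.eq_zero_iff] at hzx
        exact Or.inr ((QuotientAddGroup.eq_zero_iff m).2 (hsat z m hz hzx))
  haveI : Module.Free ℤ (D.M ⧸ N) := Module.free_of_finite_type_torsion_free'
  obtain ⟨sec, hsec⟩ := Module.projective_lifting_property ((QuotientAddGroup.mk' N).toIntLinearMap)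
    (LinearMap.id : (D.M ⧸ N) →ₗ[ℤ] D.M ⧸ N) (QuotientAddGroup.mk'_surjective N)
  -- a retraction onto the characters of the quotient
  let r : D.M →+ N := AddMonoidHom.codRestrict (AddMonoidHom.id D.M - sec.toAddMonoidHom.comp (QuotientAddGroup.mk' N))
    N fun m => (QuotientAddGroup.eq_zero_iff _).1 (by
      show QuotientAddGroup.mk' N (m - sec (QuotientAddGroup.mk' N m)) = 0
      rw [map_sub]
      exact sub_eq_zero.2 (LinearMap.congr_fun hsec _).symm)
  have hr : r.comp N.subtype = AddMonoidHom.id N := AddMonoidHom.ext fun m => Subtype.ext (by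
    show (m : D.M) - sec (QuotientAddGroup.mk' N m) = m
    rw [QuotientAddGroup.mk'_apply, (QuotientAddGroup.eq_zero_iff _).2 m.2, map_zero, sub_zero])
  have hrs : r.comp sec.toAddMonoidHom = 0 := AddMonoidHom.ext fun x => Subtype.ext (by
    show sec x - sec (QuotientAddGroup.mk' N (sec x)) = 0
    rw [show QuotientAddGroup.mk' N (sec x) = x from LinearMap.congr_fun hsec x, sub_self])
  let p := Red.DSmap S N.subtype
  let σ := Red.DSmap S r
  let incl := Red.DSmap S (QuotientAddGroup.mk' N)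
  let ρ := Red.DSmap S sec.toAddMonoidHom
  haveI : IsMonHom p := MTQuot.isMonHom_DSmap _
  haveI : IsMonHom σ := MTQuot.isMonHom_DSmap _
  haveI : IsMonHom incl := MTQuot.isMonHom_DSmap _
  haveI : IsMonHom ρ := MTQuot.isMonHom_DSmap _
  have hσp : σ ≫ p = 𝟙 _ := by rw [MTQuot.DSmap_comp, hr, MTQuot.DSmap_id]
  have hinclρ : incl ≫ ρ = 𝟙 _ := by
    rw [MTQuot.DSmap_comp, ← MTQuot.DSmap_id]
    congr 1
    exact AddMonoidHom.ext fun x => LinearMap.congr_fun hsec x
  have hinclp : incl ≫ p = 1 := by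
    rw [MTQuot.DSmap_comp, ← MTSplit.DSmap_zero]
    congr 1
    exact AddMonoidHom.ext fun m => (QuotientAddGroup.eq_zero_iff _).2 m.2
  have hσρ : σ ≫ ρ = 1 := by rw [MTQuot.DSmap_comp, hrs, MTSplit.DSmap_zero]
  have hsum : (ρ ≫ incl) * (p ≫ σ) = 𝟙 _ := by
    rw [MTQuot.DSmap_comp, MTQuot.DSmap_comp, MTSplit.DSmap_mul, ← MTQuot.DSmap_id]
    congr 1
    ext m
    show sec (QuotientAddGroup.mk' N m) + (m - sec (QuotientAddGroup.mk' N m)) = m
    abel
  haveI : Smooth (Red.DS S (D.M ⧸ N)).hom := smooth_DS _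
  haveI : Smooth (Red.DS S ↥N).hom := smooth_DS _
  -- smoothness of the projection
  let e : Red.DS S D.M ≅ Red.DS S (D.M ⧸ N) ⊗ Red.DS S ↥N :=
    ⟨lift ρ p, (fst _ _ ≫ incl) * (snd _ _ ≫ σ),
      by rw [MonObj.comp_mul, lift_fst_assoc, lift_snd_assoc, hsum],
      CartesianMonoidalCategory.hom_ext _ _
        (by simp [MonObj.mul_comp, MonObj.comp_one, hinclρ, hσρ])
        (by simp [MonObj.mul_comp, MonObj.comp_one, hinclp, hσp])⟩
  haveI : Smooth p.left := by
    have h : p = e.hom ≫ snd _ _ := (lift_snd _ _).symm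
    haveI : IsIso e.hom.left := ((Over.forget _).mapIso e).isIso_hom
    haveI : Smooth (snd (Red.DS S (D.M ⧸ N)) (Red.DS S ↥N)).left :=
      inferInstanceAs (Smooth (pullback.snd (Red.DS S (D.M ⧸ N)).hom (Red.DS S ↥N).hom))
    rw [h, Over.comp_left]
    infer_instance
  haveI : Surjective p.left := by
    have h : σ.left ≫ p.left = 𝟙 _ := by rw [← Over.comp_left, hσp]; rfl
    exact ⟨fun x => ⟨σ.left x, by rw [← Scheme.Hom.comp_apply, h]; rfl⟩⟩
  haveI : IsMonHom f := hfm
  obtain ⟨h1, h2, h3⟩ := coradical_core D N hN (fun X a b => ch_ext fun m => by rw [ch_mul, ch_mul, _root_.mul_comm]) p f hf σ ρ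
    hinclρ hinclp (fun {X} => MonObj.one_comp (X := X) σ) hsum
  obtain ⟨g⟩ := MTQuot.nonempty_DS_congr (S := S) (Module.finBasis ℤ N).equivFun.toAddEquiv.symm
  exact ⟨Red.DS S ↥N, inferInstance, f, hfm, fun X a b => ch_ext fun m => by rw [ch_mul, ch_mul, _root_.mul_comm],
    ⟨_, ⟨g⟩⟩, h1, h2, h3,
    fun K _ k _ hk => ⟨(hker K k hk).1, (hker K k hk).2.1⟩, 𝟙 _, inferInstance, inferInstance,
    hf.trans (Category.comp_id _).symm⟩

end Groth.Agent.Corad
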